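import Groth.Agent.S9268
import Groth.Agent.AdicSmooth.SmallExt
import Mathlib

/-!
# Smoothness at a prime through small extensions of Artinian rings
-/

set_option autoImplicit false
set_option linter.style.haveILetI false
universe u

namespace Groth.Agent.Calg46.ArtinLift

open IsLocalRing

variable {R S : Type u} [CommRing R] [CommRing S] [Algebra R S] (q : Ideal S) [q.IsPrime]

theorem lift_of_smoothAt (h : Algebra.IsSmoothAt R q) {B' B : Type u} [CommRing B'] [CommRing B]
    [IsLocalRing B'] [IsLocalRing B] [Algebra R B'] [Algebra R B] (π : B' →ₐ[R] B)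
    (hπ : Function.Surjective π)
    (ht : ∃ t : B', RingHom.ker π.toRingHom = Ideal.span {t} ∧ ∀ a ∈ maximalIdeal B', a * t = 0)
    (g : S →ₐ[R] B) (hg : (maximalIdeal B).comap g = q) : ∃ g' : S →ₐ[R] B', π.comp g' = g := by
  haveI : Algebra.FormallySmooth R (Localization.AtPrime q) := h
  have hu : ∀ s : q.primeCompl, IsUnit (g s) := fun ⟨s, hs⟩ => by
    by_contra hns
    exact hs (hg ▸ hns)
  let G : Localization.AtPrime q →ₐ[R] B := IsLocalization.liftAlgHom (M := q.primeCompl) (f := g) hu
  have hnil : IsNilpotent (RingHom.ker (π : B' →+* B)) := by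
    obtain ⟨t, htk, htm⟩ := ht
    have htmax : t ∈ maximalIdeal B' := by
      refine IsLocalRing.le_maximalIdeal (RingHom.ker_ne_top π.toRingHom) ?_
      rw [htk]; exact Ideal.mem_span_singleton_self t
    refine ⟨2, ?_⟩
    rw [← AlgHom.toRingHom_eq_coe, htk, Ideal.span_singleton_pow, pow_two, htm t htmax, Ideal.span_singleton_eq_bot.2 rfl]
    rfl
  refine ⟨(Algebra.FormallySmooth.liftOfSurjective G π hπ hnil).comp
    (IsScalarTower.toAlgHom R S (Localization.AtPrime q)), AlgHom.ext fun s => ?_⟩
  simp only [AlgHom.comp_apply, IsScalarTower.coe_toAlgHom']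
  exact (AlgHom.congr_fun (Algebra.FormallySmooth.comp_liftOfSurjective G π hπ hnil) _).trans
    (IsLocalization.lift_eq hu s)

theorem smoothAt_of_lift [IsNoetherianRing R] [Algebra.FiniteType R S]
    (H : ∀ (B' B : Type u) [CommRing B'] [CommRing B] [IsLocalRing B'] [IsLocalRing B]
        [IsArtinianRing B'] [IsArtinianRing B] [Algebra R B'] [Algebra R B] (π : B' →ₐ[R] B),
        Function.Surjective π →
        (∃ t : B', RingHom.ker π.toRingHom = Ideal.span {t} ∧
          ∀ a ∈ maximalIdeal B', a * t = 0) →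
        ∀ g : S →ₐ[R] B, (maximalIdeal B).comap g = q →
          ∃ g' : S →ₐ[R] B', π.comp g' = g) : Algebra.IsSmoothAt R q := by
  haveI : IsNoetherianRing S := Algebra.FiniteType.isNoetherianRing R S
  let p := q.comap (algebraMap R S)
  haveI : q.LiesOver p := ⟨rfl⟩
  let Rp := Localization.AtPrime p
  let Sq := Localization.AtPrime q
  letI : Algebra Rp Sq := (Localization.localRingHom p q (algebraMap R S) rfl).toAlgebra
  haveI : IsScalarTower R Rp Sq := IsScalarTower.of_algebraMap_eq fun r => by
    change algebraMap R Sq r = Localization.localRingHom p q (algebraMap R S) rfl (algebraMap R Rp r)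
    rw [Localization.localRingHom_to_map, ← IsScalarTower.algebraMap_apply]
  haveI : IsLocalHom (algebraMap Rp Sq) :=
    (inferInstance : IsLocalHom (Localization.localRingHom p q (algebraMap R S) rfl))
  haveI : IsNoetherianRing Sq := IsLocalization.isNoetherianRing q.primeCompl Sq inferInstance
  refine Groth.Agent.S9268.formallySmooth_atPrime R S q
    (Groth.Agent.S9268.adic_of_adic_atPrime R S p q (AdicSmooth.isAdicFormallySmooth_of_smallLift ?_))
  intro A _ _ _ _ _ J hJ2 hlen _ ψ hψ _
  letI : Algebra R A := Algebra.compHom A (algebraMap R Rp)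
  haveI : IsScalarTower R Rp A := IsScalarTower.of_algebraMap_eq fun _ => rfl
  haveI : IsScalarTower R Rp (A ⧸ J) := inferInstance
  haveI : IsSimpleModule A J := Module.length_eq_one_iff.1 hlen
  obtain ⟨t, ht⟩ : ∃ t, J = Ideal.span {t} := by
    obtain ⟨x, hxJ, hx⟩ : ∃ x ∈ J, x ≠ 0 := by
      by_contra hh
      push Not at hh
      have : J = ⊥ := (Submodule.eq_bot_iff J).2 hh
      haveI : Nontrivial J := IsSimpleModule.nontrivial A J
      exact (Submodule.nontrivial_iff_ne_bot.1 this ‹J = ⊥›)
    refine ⟨x, le_antisymm (fun y hy => ?_) ((Ideal.span_singleton_le_iff_mem _).2 hxJ)⟩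
    have hne : (⟨x, hxJ⟩ : J) ≠ 0 := fun h => hx (congrArg Subtype.val h)
    obtain ⟨c, hc⟩ := IsSimpleModule.toSpanSingleton_surjective A hne ⟨y, hy⟩
    exact Ideal.mem_span_singleton'.2 ⟨c, congrArg Subtype.val hc⟩
  let π : A →ₐ[R] A ⧸ J := Ideal.Quotient.mkₐ R J
  let g : S →ₐ[R] A ⧸ J := (ψ.restrictScalars R).comp (IsScalarTower.toAlgHom R S Sq)
  have hgq : (maximalIdeal (A ⧸ J)).comap g = q := by
    have h1 : (maximalIdeal (A ⧸ J)).comap ψ.toRingHom = maximalIdeal Sq :=
      IsLocalRing.maximalIdeal_comap ψ.toRingHom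
    refine Eq.trans ?_ (IsLocalization.AtPrime.comap_maximalIdeal Sq q)
    rw [← h1]
    rfl
  obtain ⟨g', hg'⟩ := H A (A ⧸ J) π Ideal.Quotient.mk_surjective ⟨t, by
      refine Eq.trans ?_ ht
      exact Ideal.mk_ker, fun a ha => by
      have hann := IsSimpleModule.annihilator_isMaximal (R := A) (M := J)
      have : a ∈ Module.annihilator A J := by
        rw [IsLocalRing.eq_maximalIdeal hann]; exact ha
      exact congrArg Subtype.val (Module.mem_annihilator.1 this
        ⟨t, ht ▸ Ideal.mem_span_singleton_self t⟩)⟩ g hgq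
  haveI : IsLocalHom (Ideal.Quotient.mk J) := IsLocalHom.of_surjective _ Ideal.Quotient.mk_surjective
  have hu : ∀ s : q.primeCompl, IsUnit (g' s) := fun ⟨s, hs⟩ => by
    refine IsUnit.of_map (Ideal.Quotient.mk J) _ ?_
    have h2 : Ideal.Quotient.mk J (g' s) = ψ (algebraMap S Sq s) := AlgHom.congr_fun hg' s
    rw [h2]
    exact (IsLocalization.map_units Sq (⟨s, hs⟩ : q.primeCompl)).map ψ
  let χ : Sq →+* A := IsLocalization.lift (M := q.primeCompl) (g := g'.toRingHom) hu
  have hχ : χ.comp (algebraMap Rp Sq) = algebraMap Rp A := by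
    refine IsLocalization.ringHom_ext p.primeCompl (RingHom.ext fun r => ?_)
    simp only [RingHom.comp_apply]
    rw [← IsScalarTower.algebraMap_apply R Rp Sq, IsScalarTower.algebraMap_apply R S Sq,
      ← IsScalarTower.algebraMap_apply R Rp A]
    refine (IsLocalization.lift_eq hu _).trans ?_
    exact g'.commutes r
  refine ⟨{ χ with commutes' := RingHom.congr_fun hχ }, AlgHom.ext fun z => ?_⟩
  have : (Ideal.Quotient.mk J).comp χ = ψ.toRingHom := by
    refine IsLocalization.ringHom_ext q.primeCompl (RingHom.ext fun s => ?_)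
    simp only [RingHom.comp_apply]
    rw [show χ (algebraMap S Sq s) = g' s from IsLocalization.lift_eq hu s]
    exact AlgHom.congr_fun hg' s
  exact RingHom.congr_fun this z

end Groth.Agent.Calg46.ArtinLift
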