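import Mathlib

/-!
# Points closed in their fibres
-/

set_option autoImplicit false
set_option linter.style.haveILetI false
set_option backward.isDefEq.respectTransparency.types false
universe u

open AlgebraicGeometry CategoryTheory CategoryTheory.Limits Topology

namespace Groth.Agent.Calg46.ClosedInFibre

theorem isClosed_asFiber_of_isPullback {X S X' S' : Scheme.{u}} (f : X ⟶ S) [LocallyOfFiniteType f] (g : S' ⟶ S)
    (g' : X' ⟶ X) (f' : X' ⟶ S') (hsq : IsPullback g' f' f g) (x' : X')
    (hx : IsClosed ({f.asFiber (g'.base x')} : Set ↑(f.fiber (f.base (g'.base x'))))) :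
    IsClosed ({f'.asFiber x'} : Set ↑(f'.fiber (f'.base x'))) := by
  set x := g'.base x'
  set s := f.base x
  let z := f.asFiber x
  haveI : IsClosedImmersion ((f.fiber s).fromSpecResidueField z) := isClosed_singleton_iff_isClosedImmersion.mp hx
  haveI : LocallyOfFiniteType (f.fiberToSpecResidueField s) :=
    MorphismProperty.pullback_snd _ _ inferInstance
  haveI : LocallyQuasiFinite ((f.fiber s).fromSpecResidueField z ≫ f.fiberToSpecResidueField s) :=
    LocallyQuasiFinite.of_injective fun a b _ => Subsingleton.elim a b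
  let c := (f.fiber s).fromSpecResidueField z ≫ f.fiberι s
  haveI : LocallyQuasiFinite (c ≫ f) := by
    have : c ≫ f = ((f.fiber s).fromSpecResidueField z ≫ f.fiberToSpecResidueField s) ≫ S.fromSpecResidueField s := by
      show (_ ≫ pullback.fst f _) ≫ f = (_ ≫ pullback.snd f _) ≫ _
      rw [Category.assoc, Category.assoc, pullback.condition]
    rw [this]; infer_instance
  have hc : Set.range c.base = {x} := by
    rw [Scheme.Hom.comp_base, TopCat.coe_comp, Set.range_comp, Scheme.range_fromSpecResidueField, Set.image_singleton]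
    exact congrArg _ (f.fiberι_asFiber x)
  -- base change
  let p := pullback.fst c g'
  let q := pullback.snd c g'
  haveI : IsPreimmersion q := MorphismProperty.pullback_snd c g' inferInstance
  haveI : LocallyQuasiFinite (q ≫ f') :=
    MorphismProperty.of_isPullback (P := @LocallyQuasiFinite)
      ((IsPullback.of_hasPullback c g').flip.paste_horiz hsq.flip).flip ‹LocallyQuasiFinite (c ≫ f)›
  let F' : Set X' := f'.base ⁻¹' {f'.base x'}
  let D : Set X' := F' ∩ g'.base ⁻¹' {x}
  have hDrange : D = q.base '' ((q ≫ f').base ⁻¹' {f'.base x'}) := by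
    ext w
    constructor
    · rintro ⟨hw1, hw2⟩
      have hw : w ∈ Set.range q.base := by
        rw [Scheme.Pullback.range_snd, hc]; exact hw2
      obtain ⟨v, rfl⟩ := hw
      exact ⟨v, hw1, rfl⟩
    · rintro ⟨v, hv, rfl⟩
      refine ⟨hv, ?_⟩
      have : q.base v ∈ Set.range q.base := ⟨v, rfl⟩
      rw [Scheme.Pullback.range_snd, hc] at this
      exact this
  have hdisc : _root_.IsDiscrete D := by
    rw [hDrange]
    exact ((q ≫ f').isDiscrete_preimage_singleton _).image q.isEmbedding.isInducing
  -- closedness in the fibre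
  rw [← (f'.fiberHomeo (f'.base x')).isClosed_image, Set.image_singleton, Scheme.Hom.asFiber,
    Homeomorph.apply_symm_apply]
  have hsub : ∀ w ∈ F', f.base (g'.base w) = s := fun w hw => by
    have h1 : ∀ v, f.base (g'.base v) = g.base (f'.base v) := fun v =>
      congrArg (fun φ : X' ⟶ S => φ.base v) hsq.w
    show f.base (g'.base w) = f.base (g'.base x')
    rw [h1, h1, show f'.base w = f'.base x' from hw]
  let ψ : F' → (f.base ⁻¹' {s} : Set X) := fun w => ⟨g'.base w.1, hsub w.1 w.2⟩
  have hψ : Continuous ψ := (g'.continuous.comp continuous_subtype_val).subtype_mk _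
  have hxcl : IsClosed ({⟨x, rfl⟩} : Set (f.base ⁻¹' {s} : Set X)) := by
    have := (f.fiberHomeo s).isClosedMap _ hx
    rwa [Set.image_singleton, Scheme.Hom.asFiber, Homeomorph.apply_symm_apply] at this
  have hDF : IsClosed ((↑) ⁻¹' D : Set F') := by
    convert hxcl.preimage hψ using 1
    ext w
    exact ⟨fun h => Subtype.ext h.2, fun h => ⟨w.2, congrArg Subtype.val h⟩⟩
  haveI : DiscreteTopology ((↑) ⁻¹' D : Set F') :=
    (hdisc.preimage continuous_subtype_val.continuousOn Subtype.val_injective).to_subtype
  have hmem : (⟨x', rfl⟩ : F') ∈ ((↑) ⁻¹' D : Set F') := ⟨rfl, rfl⟩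
  have := hDF.isClosedMap_subtype_val _ (isClosed_discrete ({⟨⟨x', rfl⟩, hmem⟩} : Set ((↑) ⁻¹' D : Set F')))
  rwa [Set.image_singleton] at this

theorem quasiFiniteAt_iff {X S : Scheme.{u}} (f : X ⟶ S) [LocallyOfFiniteType f] (x : X) :
    f.QuasiFiniteAt x ↔
      (IsClosed ({f.asFiber x} : Set ↑(f.fiber (f.base x))) ∧
        ∀ x' : ↑(f.fiber (f.base x)), x' ⤳ f.asFiber x → x' = f.asFiber x) := by
  constructor
  · intro h
    have h' := h.isClopen_singleton_asFiber
    exact ⟨h'.isClosed, fun x' hx' => hx'.mem_open h'.isOpen rfl⟩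
  · rintro ⟨hcl, hgen⟩
    rw [Scheme.Hom.quasiFiniteAt_iff_isOpen_singleton_asFiber]
    let F := f.fiber (f.base x)
    let z : F := f.asFiber x
    haveI : LocallyOfFiniteType (f.fiberToSpecResidueField (f.base x)) :=
      MorphismProperty.pullback_snd _ _ inferInstance
    haveI : IsLocallyNoetherian F := LocallyOfFiniteType.isLocallyNoetherian (f.fiberToSpecResidueField (f.base x))
    obtain ⟨V, hV, hzV, -⟩ := exists_isAffineOpen_mem_and_subset (x := z) (U := ⊤) trivial
    haveI : IsNoetherianRing Γ(F, V) := IsLocallyNoetherian.component_noetherian ⟨V, hV⟩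
    haveI : TopologicalSpace.NoetherianSpace (V : Set F) := noetherianSpace_of_isAffineOpen V hV
    let w : (V : Set F) := ⟨z, hzV⟩
    haveI : QuasiSober (V : Set F) := (IsOpen.isOpenEmbedding_subtypeVal V.isOpen).quasiSober
    have hcomp : ∀ C ∈ irreducibleComponents (V : Set F), w ∈ C → C = {w} := by
      intro C hC hwC
      obtain ⟨η, hη⟩ := QuasiSober.sober hC.1 (isClosed_of_mem_irreducibleComponents C hC)
      have hηw : η ⤳ w := hη.specializes hwC
      have hηe : η = w := Subtype.ext (hgen η.1 (hηw.map continuous_subtype_val))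
      rw [← hη.def, hηe]
      refine IsClosed.closure_eq ?_
      have := hcl.preimage (continuous_subtype_val (p := fun a => a ∈ (V : Set F)))
      convert this using 1
      ext a
      exact ⟨fun h => congrArg Subtype.val h, fun h => Subtype.ext h⟩
    have hopen : IsOpen ({w} : Set (V : Set F)) := by
      rw [← isClosed_compl_iff]
      have hfin := TopologicalSpace.NoetherianSpace.finite_irreducibleComponents (α := (V : Set F))
      have : ({w} : Set (V : Set F))ᶜ = ⋃ C ∈ {C ∈ irreducibleComponents (V : Set F) | w ∉ C}, C := by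
        ext a
        simp only [Set.mem_compl_iff, Set.mem_singleton_iff, Set.mem_iUnion, Set.mem_sep_iff, exists_prop]
        constructor
        · intro ha
          refine ⟨irreducibleComponent a, ⟨irreducibleComponent_mem_irreducibleComponents a, fun hw' => ha ?_⟩,
            mem_irreducibleComponent⟩
          exact (Set.mem_singleton_iff.1 ((hcomp _ (irreducibleComponent_mem_irreducibleComponents a) hw') ▸ mem_irreducibleComponent))
        · rintro ⟨C, ⟨-, hwC⟩, haC⟩ rfl
          exact hwC haC
      rw [this]
      exact (hfin.subset fun C hC => hC.1).isClosed_biUnion fun C hC => isClosed_of_mem_irreducibleComponents C hC.1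
    have := (IsOpen.isOpenEmbedding_subtypeVal V.isOpen).isOpenMap _ hopen
    rwa [Set.image_singleton] at this

end Groth.Agent.Calg46.ClosedInFibre
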