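import Groth.Agent.FlatCxLib.Reduced
import Groth.Agent.KFlatLib.Perfect.BettiLin
import Mathlib

/-!
# Locally constant fibre dimensions of homology over a reduced ring
-/

set_option autoImplicit false
set_option linter.style.haveILetI false
universe u

open CategoryTheory TensorProduct Topology

namespace Groth.Agent.Calg46.ConstBetti

open FlatCxLib

variable {R : Type u} [CommRing R]

theorem projective_range_of_projective_quotient {N : Type u} [AddCommGroup N] [Module R N] [Module.Projective R N]
    (W : Submodule R N) [Module.Projective R (N ⧸ W)] : Module.Projective R W := by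
  obtain ⟨t, ht⟩ := Module.projective_lifting_property W.mkQ LinearMap.id W.mkQ_surjective
  let π : N →ₗ[R] W := (LinearMap.id - t ∘ₗ W.mkQ).codRestrict W fun x => by
    have h : W.mkQ (x - t (W.mkQ x)) = 0 := by
      rw [map_sub, show W.mkQ (t (W.mkQ x)) = W.mkQ x from LinearMap.congr_fun ht _, sub_self]
    exact (Submodule.Quotient.mk_eq_zero W).1 h
  exact Module.Projective.of_split W.subtype π (LinearMap.ext fun w => Subtype.ext (by
    show (w : N) - t (W.mkQ w) = w
    rw [show W.mkQ (w : N) = 0 from (Submodule.Quotient.mk_eq_zero W).2 w.2, map_zero, sub_zero]))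

theorem finite_projective_ker {M N : Type u} [AddCommGroup M] [Module R M] [AddCommGroup N] [Module R N]
    [Module.Finite R M] [Module.Projective R M] (φ : M →ₗ[R] N) [Module.Projective R (LinearMap.range φ)] :
    Module.Finite R (LinearMap.ker φ) ∧ Module.Projective R (LinearMap.ker φ) := by
  obtain ⟨s, hs⟩ := Module.projective_lifting_property φ.rangeRestrict LinearMap.id φ.surjective_rangeRestrict
  let π : M →ₗ[R] LinearMap.ker φ := (LinearMap.id - s ∘ₗ φ.rangeRestrict).codRestrict _ fun x => by
    rw [LinearMap.mem_ker]
    show φ (x - s (φ.rangeRestrict x)) = 0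
    rw [map_sub, sub_eq_zero]
    exact (congrArg Subtype.val (LinearMap.congr_fun hs (φ.rangeRestrict x))).symm
  have hπ : π ∘ₗ (LinearMap.ker φ).subtype = LinearMap.id := LinearMap.ext fun w => Subtype.ext (by
    show (w : M) - s (φ.rangeRestrict w) = w
    rw [show φ.rangeRestrict (w : M) = 0 from Subtype.ext w.2, map_zero, sub_zero])
  exact ⟨Module.Finite.of_surjective π fun w => ⟨w, LinearMap.congr_fun hπ w⟩,
    Module.Projective.of_split (LinearMap.ker φ).subtype π hπ⟩

/-- Upper semicontinuous functions with locally constant sum are locally constant. -/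
theorem isLocallyConstant_of_add {X : Type*} [TopologicalSpace X] {f g h : X → ℕ} (hf : UpperSemicontinuous f)
    (hg : UpperSemicontinuous g) (hh : IsLocallyConstant h) (hadd : ∀ x, f x + g x = h x) :
    IsLocallyConstant f := by
  rw [IsLocallyConstant.iff_eventually_eq]
  intro x
  filter_upwards [hf x _ (Nat.lt_succ_self _), hg x _ (Nat.lt_succ_self _), hh.eventually_eq x] with y h1 h2 h3
  have := hadd x
  have := hadd y
  omega

/-- The Betti number of a fibre in terms of the fibre ranks of the cokernels. -/
theorem finrank_fibre_formula (S : ShortComplex (ModuleCat.{u} R)) [Module.Finite R S.X₂] {κ : Type u} [Field κ]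
    (φ : R →+* κ) [inst : Algebra R κ] (h : algebraMap R κ = φ)
    [Module.Finite R S.X₃] :
    Module.finrank κ (κ ⊗[R] (S.X₂ ⧸ LinearMap.range S.f.hom)) +
      Module.finrank κ (κ ⊗[R] (S.X₃ ⧸ LinearMap.range S.g.hom)) =
    Module.finrank κ (S.map (ModuleCat.extendScalars φ)).homology + Module.finrank κ (κ ⊗[R] S.X₃) := by
  obtain rfl : inst = φ.toAlgebra := Algebra.algebra_ext _ _ (fun r => RingHom.congr_fun h r)
  letI : Algebra R κ := φ.toAlgebra
  let S' := S.map (ModuleCat.extendScalars φ)
  haveI : FiniteDimensional κ S'.X₂ := inferInstanceAs (Module.Finite κ (κ ⊗[R] S.X₂))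
  have h0 : Module.finrank κ S'.homology + Module.finrank κ (LinearMap.range (S.f.hom.baseChange κ)) +
      Module.finrank κ (LinearMap.range (S.g.hom.baseChange κ)) = Module.finrank κ (κ ⊗[R] S.X₂) :=
    KFlatLib.finrank_homology S'
  have h1 := finrank_range_baseChange_add (k := κ) S.f.hom
  have h2 := finrank_range_baseChange_add (k := κ) S.g.hom
  show _ = Module.finrank κ S'.homology + _
  omega

/-- Constant fibre dimensions of the homology make it finite projective over a reduced ring. -/
theorem finite_projective_homology [IsReduced R] (S : ShortComplex (ModuleCat.{u} R)) [Module.Finite R S.X₁]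
    [Module.Finite R S.X₂] [Module.Free R S.X₂] [Module.Finite R S.X₃] [Module.Free R S.X₃]
    (hconst : IsLocallyConstant fun p : PrimeSpectrum R =>
      Module.finrank p.asIdeal.ResidueField
        (S.map (ModuleCat.extendScalars (algebraMap R p.asIdeal.ResidueField))).homology) :
    Module.Finite R S.homology ∧ Module.Projective R S.homology := by
  let f := S.f.hom
  let g := S.g.hom
  let Cf := S.X₂ ⧸ LinearMap.range f
  let Cg := S.X₃ ⧸ LinearMap.range g
  have hformula : ∀ p : PrimeSpectrum R, fibreRank Cf p + fibreRank Cg p =
      Module.finrank p.asIdeal.ResidueField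
        (S.map (ModuleCat.extendScalars (algebraMap R p.asIdeal.ResidueField))).homology + fibreRank S.X₃ p :=
    fun p => finrank_fibre_formula S (algebraMap R p.asIdeal.ResidueField) rfl
  haveI : Module.FinitePresentation R S.X₂ := Module.finitePresentation_of_projective R S.X₂
  haveI : Module.FinitePresentation R S.X₃ := Module.finitePresentation_of_projective R S.X₃
  have hsum : IsLocallyConstant fun p => Module.finrank p.asIdeal.ResidueField
      (S.map (ModuleCat.extendScalars (algebraMap R p.asIdeal.ResidueField))).homology + fibreRank S.X₃ p :=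
    hconst.comp₂ (isLocallyConstant_fibreRank S.X₃) (· + ·)
  have hcg : IsLocallyConstant (fibreRank (A := R) Cg) :=
    isLocallyConstant_of_add (upperSemicontinuous_fibreRank Cg) (upperSemicontinuous_fibreRank Cf) hsum
      fun p => by rw [add_comm]; exact hformula p
  have hfg2 : Module.FinitePresentation R Cg :=
    Module.finitePresentation_of_surjective (LinearMap.range g).mkQ (Submodule.mkQ_surjective _) (by
      rw [Submodule.ker_mkQ, LinearMap.range_eq_map]
      exact Module.Finite.fg_top.map g)
  haveI := hfg2
  haveI := flat_of_isLocallyConstant_fibreRank Cg hcg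
  haveI : Module.Projective R Cg := Module.Flat.projective_of_finitePresentation
  haveI hpg : Module.Projective R (LinearMap.range g) := projective_range_of_projective_quotient _
  have hcf : IsLocallyConstant (fibreRank (A := R) Cf) :=
    isLocallyConstant_of_add (upperSemicontinuous_fibreRank Cf) (upperSemicontinuous_fibreRank Cg) hsum hformula
  haveI := flat_of_isLocallyConstant_fibreRank Cf hcf
  -- the induced map on the cokernel
  have hle : LinearMap.range f ≤ LinearMap.ker g := by
    rintro _ ⟨x, rfl⟩
    exact LinearMap.congr_fun (congrArg ModuleCat.Hom.hom S.zero) x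
  let gb : Cf →ₗ[R] S.X₃ := (LinearMap.range f).liftQ g hle
  have hrange : LinearMap.range gb = LinearMap.range g := Submodule.range_liftQ _ _ _
  haveI : Module.Projective R (LinearMap.range gb) := by rw [hrange]; exact hpg
  let c := S.moduleCatToCycles
  haveI : Module.Projective R Cf := by
    have hfg : (LinearMap.range f).FG := by
      rw [LinearMap.range_eq_map]; exact Module.Finite.fg_top.map f
    haveI := Module.finitePresentation_of_surjective (LinearMap.range f).mkQ (Submodule.mkQ_surjective _)
      (by rwa [Submodule.ker_mkQ])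
    exact Module.Flat.projective_of_finitePresentation
  obtain ⟨hF, hP⟩ := finite_projective_ker gb
  let e : S.homology ≃ₗ[R] LinearMap.ker gb := by
    refine S.moduleCatHomologyIso.toLinearEquiv.trans (LinearEquiv.ofBijective
      ((LinearMap.range c).liftQ ((((LinearMap.range f).mkQ).comp (LinearMap.ker g).subtype).codRestrict
        (LinearMap.ker gb) fun x => ?_) ?_) ⟨?_, ?_⟩)
    · rw [LinearMap.mem_ker]; exact x.2
    · rintro _ ⟨y, rfl⟩
      exact Subtype.ext ((Submodule.Quotient.mk_eq_zero _).2 ⟨y, rfl⟩)
    · rw [← LinearMap.ker_eq_bot, eq_bot_iff]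
      intro z hz
      obtain ⟨x, rfl⟩ := Submodule.mkQ_surjective _ z
      rw [Submodule.mem_bot]
      obtain ⟨y, hy⟩ := (Submodule.Quotient.mk_eq_zero _).1 (congrArg Subtype.val hz)
      exact (Submodule.Quotient.mk_eq_zero _).2 ⟨y, Subtype.ext hy⟩
    · rintro ⟨z, hz⟩
      obtain ⟨x, rfl⟩ := Submodule.mkQ_surjective _ z
      exact ⟨Submodule.Quotient.mk ⟨x, hz⟩, rfl⟩
  exact ⟨Module.Finite.equiv e.symm, Module.Projective.of_equiv e.symm⟩

end Groth.Agent.Calg46.ConstBetti
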