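import Groth.Agent.CplFib6.DerivTower
import Groth.Agent.SmoothingLib.GeomFrameBasic
import Mathlib

/-!
# Enough bounded derivations in finite field extensions

For a ring map `T → M` into a field, a derivation of `M` is bounded when the image of `T` is carried into
a finitely generated `T`-submodule. Bounded derivations are closed under scaling, brackets, `p`th iterates
and arbitrary extensions, so no intermediate rings are needed.
-/

set_option autoImplicit false
set_option linter.style.haveILetI false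

namespace Groth.Agent.Calg46.DerivField

universe u

open Polynomial
open CplFib6 (derivation_pow_char exists_derivation_iterate exists_derivation_root)

attribute [local instance 10000] Ring.toIntAlgebra

variable (T : Type u) [CommRing T]

/-- A derivation carrying the image of `T` into a finitely generated `T`-submodule. -/
def Bdd {M : Type u} [Field M] [Algebra T M] (D : Derivation ℤ M M) : Prop :=
  ∃ N : Submodule T M, N.FG ∧ ∀ t : T, D (algebraMap T M t) ∈ N

/-- An element killed by all bounded derivations is a `p`th power. -/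
def Good (p : ℕ) (M : Type u) [Field M] [Algebra T M] : Prop :=
  ∀ c : M, (∀ D : Derivation ℤ M M, Bdd T D → D c = 0) → ∃ a : M, a ^ p = c

variable {T} {M : Type u} [Field M] [Algebra T M] {D D₁ : Derivation ℤ M M}

theorem bdd_zero : Bdd T (0 : Derivation ℤ M M) :=
  ⟨⊥, Submodule.fg_bot, fun _ => by simp⟩

theorem Bdd.smul (h : Bdd T D) (a : M) : Bdd T (a • D) := by
  obtain ⟨N, hN, hD⟩ := h
  exact ⟨N.map (LinearMap.mulLeft T a), hN.map _, fun t => ⟨_, hD t, rfl⟩⟩

theorem Bdd.sub (h : Bdd T D) (h₁ : Bdd T D₁) : Bdd T (D - D₁) := by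
  obtain ⟨N, hN, hD⟩ := h
  obtain ⟨N₁, hN₁, hD₁⟩ := h₁
  exact ⟨N ⊔ N₁, hN.sup hN₁, fun t => Submodule.sub_mem _ (Submodule.mem_sup_left (hD t))
    (Submodule.mem_sup_right (hD₁ t))⟩

theorem Bdd.exists_map (h : Bdd T D) {N : Submodule T M} (hN : N.FG) :
    ∃ N' : Submodule T M, N'.FG ∧ ∀ x ∈ N, D x ∈ N' := by
  classical
  obtain ⟨N₀, hN₀, hD⟩ := h
  obtain ⟨F, hF⟩ := hN
  refine ⟨Submodule.span T ↑(F.image D) ⊔ N₀ * N, Submodule.FG.sup ⟨F.image D, rfl⟩ (hN₀.mul ⟨F, hF⟩),
    fun x hx => ?_⟩
  have hxN := hx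
  rw [← hF] at hx
  induction hx using Submodule.span_induction with
  | mem x hx => exact Submodule.mem_sup_left (Submodule.subset_span (Finset.mem_image_of_mem _ hx))
  | zero => simp
  | add x y hx' hy' hx hy =>
    rw [map_add]
    exact Submodule.add_mem _ (hx (hF ▸ hx')) (hy (hF ▸ hy'))
  | smul c x hx' hx =>
    rw [Algebra.smul_def, Derivation.leibniz, smul_eq_mul, smul_eq_mul, ← Algebra.smul_def, mul_comm x]
    exact Submodule.add_mem _ (Submodule.smul_mem _ c (hx (hF ▸ hx')))
      (Submodule.mem_sup_right (Submodule.mul_mem_mul (hD c) (hF ▸ hx')))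

theorem Bdd.commutator (h : Bdd T D) (h₁ : Bdd T D₁) : Bdd T ⁅D, D₁⁆ := by
  obtain ⟨N, hN, hD⟩ := id h
  obtain ⟨N₁, hN₁, hD₁⟩ := id h₁
  obtain ⟨A, hA, hA'⟩ := h.exists_map hN₁
  obtain ⟨B, hB, hB'⟩ := h₁.exists_map hN
  exact ⟨A ⊔ B, hA.sup hB, fun t => by
    rw [Derivation.commutator_apply]
    exact Submodule.sub_mem _ (Submodule.mem_sup_left (hA' _ (hD₁ t))) (Submodule.mem_sup_right (hB' _ (hD t)))⟩

theorem Bdd.exists_iterate (h : Bdd T D) : ∀ n : ℕ,
    ∃ N : Submodule T M, N.FG ∧ ∀ t : T, (⇑D)^[n + 1] (algebraMap T M t) ∈ N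
  | 0 => h
  | n + 1 => by
    obtain ⟨N, hN, hD⟩ := h.exists_iterate n
    obtain ⟨N', hN', hD'⟩ := h.exists_map hN
    exact ⟨N', hN', fun t => by rw [Function.iterate_succ_apply']; exact hD' _ (hD t)⟩

theorem Bdd.iterate (h : Bdd T D) (p : ℕ) (hp : 0 < p) {D' : Derivation ℤ M M}
    (hD' : ∀ x, D' x = (⇑D)^[p] x) : Bdd T D' := by
  obtain ⟨N, hN, hD⟩ := h.exists_iterate (p - 1)
  exact ⟨N, hN, fun t => by rw [hD']; rw [Nat.sub_add_cancel hp] at hD; exact hD t⟩

theorem Bdd.of_extends {L : Type u} [Field L] [Algebra T L] [Algebra M L] [IsScalarTower T M L]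
    (h : Bdd T D) (E : Derivation ℤ L L) (hE : ∀ x, E (algebraMap M L x) = algebraMap M L (D x)) :
    Bdd T E := by
  obtain ⟨N, hN, hD⟩ := h
  exact ⟨N.map (IsScalarTower.toAlgHom T M L).toLinearMap, hN.map _, fun t =>
    ⟨_, hD t, by rw [IsScalarTower.algebraMap_apply T M L, hE]; rfl⟩⟩

variable (p : ℕ) [Fact p.Prime] [CharP M p]

/-- An element killed by the bounded derivations killing `b` becomes a `p`th power once `b` is. -/
theorem exists_pow_of_kill (h : Good T p M) (b : M) (hb : ∀ a : M, a ^ p ≠ b)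
    {S : Type u} [Field S] [Algebra M S] (β : S) (hβ : β ^ p = algebraMap M S b)
    (c : M) (hc : ∀ D : Derivation ℤ M M, Bdd T D → D b = 0 → D c = 0) :
    ∃ d : S, d ^ p = algebraMap M S c := by
  classical
  have hp : p.Prime := Fact.out
  haveI : CharP S p := charP_of_injective_algebraMap (algebraMap M S).injective p
  obtain ⟨D₀, hE₀, hD₀⟩ : ∃ D₀ : Derivation ℤ M M, Bdd T D₀ ∧ D₀ b = 1 := by
    by_contra hno
    push Not at hno
    obtain ⟨a, ha⟩ := h b fun D hD => by
      by_contra hne
      exact hno ((D b)⁻¹ • D) (hD.smul _) (by simp [hne])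
    exact hb a ha
  let P : M → Prop := fun x => ∀ D : Derivation ℤ M M, Bdd T D → D x = D b * D₀ x
  have hPc : P c := fun D hD => by
    have := hc (D - D b • D₀) (hD.sub (hE₀.smul _)) (by simp [hD₀])
    simpa [sub_eq_zero] using this
  have hPD : ∀ x, P x → P (D₀ x) := fun x hx D hD => by
    have h1 : ⁅D, D₀⁆ x = ⁅D, D₀⁆ b * D₀ x := hx _ (hD.commutator hE₀)
    rw [Derivation.commutator_apply, Derivation.commutator_apply, hx D hD, hD₀, Derivation.map_one_eq_zero,
      Derivation.leibniz, smul_eq_mul, smul_eq_mul] at h1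
    linear_combination h1
  have hPiter : ∀ (n : ℕ) (x : M), P x → P ((⇑D₀)^[n] x) := by
    intro n
    induction n with
    | zero => exact fun x hx => hx
    | succ n ih =>
      intro x hx
      rw [Function.iterate_succ_apply']
      exact hPD _ (ih x hx)
  have hPb : ∀ n : ℕ, P (b ^ n) := fun n D _ => by
    rw [Derivation.leibniz_pow, Derivation.leibniz_pow, hD₀, nsmul_eq_mul, nsmul_eq_mul, smul_eq_mul, smul_eq_mul]
    ring
  have hPsub : ∀ x y, P x → P y → P (x - y) := fun x y hx hy D hD => by
    rw [map_sub, map_sub, hx D hD, hy D hD, mul_sub]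
  have hPmul : ∀ a x, P x → P (a ^ p * x) := fun a x hx D hD => by
    rw [Derivation.leibniz, derivation_pow_char, Derivation.leibniz, derivation_pow_char, hx D hD]
    simp only [smul_eq_mul]
    ring
  have hlin : ∀ (a x : M) (n : ℕ), (⇑D₀)^[n] (a ^ p * x) = a ^ p * (⇑D₀)^[n] x := by
    intro a x n
    induction n with
    | zero => rfl
    | succ n ih =>
      rw [Function.iterate_succ_apply', ih, Derivation.leibniz, derivation_pow_char, smul_zero, add_zero,
        smul_eq_mul, Function.iterate_succ_apply']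
  have hbpow : ∀ n : ℕ, (⇑D₀)^[n] (b ^ n) = (n.factorial : M) := by
    intro n
    induction n with
    | zero => simp
    | succ n ih =>
      have : D₀ (b ^ (n + 1)) = (n + 1 : ℕ) • b ^ n := by
        rw [Derivation.leibniz_pow, hD₀, Nat.add_sub_cancel, smul_eq_mul, mul_one]
      rw [Function.iterate_succ_apply, this, iterate_map_nsmul, ih, nsmul_eq_mul, Nat.factorial_succ,
        Nat.cast_mul]
  suffices key : ∀ n ≤ p, ∀ x, P x → (⇑D₀)^[n] x = 0 → ∃ d : S, d ^ p = algebraMap M S x by
    refine key p le_rfl c hPc ?_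
    obtain ⟨D', hD'⟩ := exists_derivation_iterate p D₀
    have hb0 : D' b = 0 := by
      rw [hD', show p = p - 2 + 1 + 1 by have := hp.two_le; omega,
        Function.iterate_succ_apply, hD₀, Function.iterate_succ_apply, Derivation.map_one_eq_zero,
        iterate_map_zero]
    rw [← hD']
    exact hc D' (hE₀.iterate p hp.pos hD') hb0
  intro n
  induction n with
  | zero =>
    intro _ x _ hx
    rw [Function.iterate_zero_apply] at hx
    exact ⟨0, by rw [hx, map_zero, zero_pow hp.ne_zero]⟩
  | succ n ih =>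
    intro hn x hx h0
    set e := (⇑D₀)^[n] x with he
    obtain ⟨a, ha⟩ := h e fun D hD => by
      rw [hPiter n x hx D hD, show D₀ e = 0 by rw [he, ← Function.iterate_succ_apply' (⇑D₀) n x, h0], mul_zero]
    have hfac : (n.factorial : M) ≠ 0 := by
      rw [Ne, CharP.cast_eq_zero_iff M p]
      intro hdvd
      exact absurd (hp.dvd_factorial.mp hdvd) (by omega)
    have hfp : (n.factorial : M) ^ p = n.factorial := by rw [← frobenius_def, map_natCast]
    let y := x - (a / (n.factorial : M)) ^ p * b ^ n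
    have hy0 : (⇑D₀)^[n] y = 0 := by
      rw [show (⇑D₀)^[n] y = (⇑D₀)^[n] x - (⇑D₀)^[n] ((a / (n.factorial : M)) ^ p * b ^ n) from
        iterate_map_sub D₀ n _ _, hlin, hbpow, ← he, div_pow, hfp, div_mul_cancel₀ _ hfac, ha, sub_self]
    obtain ⟨d, hd⟩ := ih (by omega) y (hPsub _ _ hx (hPmul _ _ (hPb n))) hy0
    refine ⟨d + algebraMap M S (a / (n.factorial : M)) * β ^ n, ?_⟩
    rw [add_pow_char, hd, mul_pow, ← pow_mul, mul_comm n p, pow_mul, hβ, ← map_pow, ← map_pow, ← map_mul,
      ← map_add, sub_add_cancel]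

/-- Enough bounded derivations pass to a `p`th root. -/
theorem good_root (h : Good T p M) (b : M) [Fact (Irreducible (X ^ p - C b))] (hb : ∀ a : M, a ^ p ≠ b) :
    Good T p (AdjoinRoot (X ^ p - C b)) := by
  classical
  have hp : p.Prime := Fact.out
  have hmon : (X ^ p - C b).Monic := monic_X_pow_sub_C b hp.ne_zero
  have hdeg : (X ^ p - C b).natDegree = p := natDegree_X_pow_sub_C
  intro c hc
  obtain ⟨g, hg, hgdeg⟩ : ∃ g : M[X], AdjoinRoot.mk (X ^ p - C b) g = c ∧ g.natDegree < p := by
    obtain ⟨g, rfl⟩ := AdjoinRoot.mk_surjective c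
    exact ⟨g %ₘ (X ^ p - C b), by
      rw [AdjoinRoot.mk_eq_mk]
      exact ⟨-(g /ₘ (X ^ p - C b)), by linear_combination (modByMonic_add_div g (X ^ p - C b))⟩,
      hdeg ▸ natDegree_modByMonic_lt g hmon (fun h1 => hp.ne_zero (by rw [← hdeg, h1, natDegree_one]))⟩
  obtain ⟨D', hD'r, hD'o⟩ := exists_derivation_root p b 0 rfl (1 : AdjoinRoot (X ^ p - C b))
  have hD'b : Bdd T D' := (bdd_zero (T := T) (M := M)).of_extends D' fun x => hD'o x
  have hder : ∀ q : M[X], D' (AdjoinRoot.mk _ q) = AdjoinRoot.mk (X ^ p - C b) (derivative q) := by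
    intro q
    induction q using Polynomial.induction_on' with
    | add q r hq hr => simp only [map_add, hq, hr]
    | monomial n a =>
      rw [← C_mul_X_pow_eq_monomial, derivative_C_mul_X_pow,
        map_mul (AdjoinRoot.mk (X ^ p - C b)), map_mul (AdjoinRoot.mk (X ^ p - C b)),
        map_pow (AdjoinRoot.mk (X ^ p - C b)), map_pow (AdjoinRoot.mk (X ^ p - C b)),
        AdjoinRoot.mk_C, AdjoinRoot.mk_X, AdjoinRoot.mk_C, Derivation.leibniz, Derivation.leibniz_pow,
        hD'r, hD'o]
      simp [smul_eq_mul, nsmul_eq_mul, mul_assoc]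
  have h1 : derivative g = 0 := by
    have h2 := (hder g).symm.trans (hg ▸ hc D' hD'b)
    rw [AdjoinRoot.mk_eq_zero] at h2
    refine eq_zero_of_dvd_of_degree_lt h2 ?_
    refine lt_of_le_of_lt (degree_derivative_le) ?_
    rw [degree_X_pow_sub_C hp.pos]
    exact degree_le_natDegree.trans_lt (by exact_mod_cast hgdeg)
  have hg0 : g = C (g.coeff 0) := by
    ext i
    rcases Nat.eq_zero_or_pos i with rfl | hi
    · rw [coeff_C_zero]
    rw [coeff_C_ne_zero (by omega)]
    by_cases hip : p ≤ i
    · exact coeff_eq_zero_of_natDegree_lt (lt_of_lt_of_le hgdeg hip)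
    have h3 := congrArg (fun q : M[X] => q.coeff (i - 1)) h1
    simp only [coeff_derivative, coeff_zero] at h3
    rw [← Nat.cast_add_one, Nat.sub_add_cancel hi] at h3
    refine (mul_eq_zero.mp h3).resolve_right fun h4 => ?_
    rw [CharP.cast_eq_zero_iff M p] at h4
    exact hip (Nat.le_of_dvd (by omega) h4)
  have hgC : c = AdjoinRoot.of (X ^ p - C b) (g.coeff 0) := by
    rw [← hg]; exact (congrArg _ hg0).trans (AdjoinRoot.mk_C _)
  obtain ⟨d, hd⟩ := exists_pow_of_kill p h b hb (S := AdjoinRoot (X ^ p - C b))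
    (AdjoinRoot.root _) (CplFib6.root_pow_eq p b) (g.coeff 0) fun D hD hDb => by
      obtain ⟨E, -, hE⟩ := exists_derivation_root p b D hDb 0
      refine (AdjoinRoot.of (X ^ p - C b)).injective ?_
      rw [map_zero, ← hE, ← hgC]
      exact hc E (hD.of_extends E fun x => hE x)
  exact ⟨d, by rw [hgC]; exact hd⟩

/-- Enough bounded derivations pass to finite separable extensions. -/
theorem good_separable (h : Good T p M) (L : Type u) [Field L] [Algebra M L] [Algebra T L] [IsScalarTower T M L]
    [FiniteDimensional M L] [Algebra.IsSeparable M L] : Good T p L := by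
  classical
  have hp : p.Prime := Fact.out
  intro c hc
  haveI : Algebra.FormallyEtale M L := Algebra.FormallyEtale.of_isSeparable M L
  haveI : CharP L p := charP_of_injective_algebraMap (algebraMap M L).injective p
  have hint : IsIntegral M c := Algebra.IsIntegral.isIntegral c
  set μ := minpoly M c with hμ
  have hkill : ∀ D : Derivation ℤ M M, Bdd T D → ∀ i, D (μ.coeff i) = 0 := by
    intro D hD
    obtain ⟨E, hE⟩ := SmoothingLib.GeomDiff.exists_derivation_extend_smooth (A := M) (K := L)
      (Derivation.mk' ((algebraMap M L).toAddMonoidHom.comp D.toLinearMap.toAddMonoidHom).toIntLinearMap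
        fun a b => by
          show algebraMap M L (D (a * b)) = a • algebraMap M L (D b) + b • algebraMap M L (D a)
          simp [Algebra.smul_def])
    have hEb : Bdd T E := hD.of_extends E hE
    let δ : M[X] := ∑ i ∈ Finset.range μ.natDegree, C (D (μ.coeff i)) * X ^ i
    have hev : aeval c δ = 0 := by
      have h0 : E (aeval c μ) = 0 := by rw [minpoly.aeval, map_zero]
      rw [aeval_eq_sum_range, map_sum] at h0
      have hterm : ∀ i, E (μ.coeff i • c ^ i) = algebraMap M L (D (μ.coeff i)) * c ^ i := fun i => by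
        rw [Algebra.smul_def, Derivation.leibniz, Derivation.leibniz_pow, hc E hEb, smul_zero, smul_zero,
          smul_zero, zero_add, hE]
        exact mul_comm _ _
      simp only [hterm] at h0
      rw [Finset.sum_range_succ, (minpoly.monic hint).coeff_natDegree, Derivation.map_one_eq_zero,
        map_zero, zero_mul, add_zero] at h0
      simp only [δ, map_sum, map_mul, aeval_C, map_pow, aeval_X]
      exact h0
    have hδ : δ = 0 := by
      by_contra hne
      have h1 := minpoly.degree_le_of_ne_zero M c hne hev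
      rw [← hμ, degree_eq_natDegree (minpoly.ne_zero hint)] at h1
      refine absurd h1 (not_le.2 ?_)
      refine (degree_sum_le _ _).trans_lt ((Finset.sup_lt_iff (WithBot.bot_lt_coe _)).2 fun i hi => ?_)
      exact (degree_C_mul_X_pow_le i _).trans_lt (WithBot.coe_lt_coe.2 (Finset.mem_range.1 hi))
    intro i
    by_cases hi : i < μ.natDegree
    · have := congrArg (fun q : M[X] => q.coeff i) hδ
      simpa [δ, finsetSum_coeff, coeff_C_mul_X_pow, Finset.sum_ite_eq, hi] using this
    · rcases lt_or_eq_of_le (not_lt.1 hi) with hlt | heq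
      · rw [coeff_eq_zero_of_natDegree_lt hlt, map_zero]
      · rw [← heq, (minpoly.monic hint).coeff_natDegree, Derivation.map_one_eq_zero]
  choose r hr using fun i => h (μ.coeff i) fun D hD => hkill D hD i
  let d := μ.natDegree
  let ν : M[X] := X ^ d + ∑ i ∈ Finset.range d, C (r i) * X ^ i
  have hνdeg : (∑ i ∈ Finset.range d, C (r i) * X ^ i).degree < (d : WithBot ℕ) :=
    (degree_sum_le _ _).trans_lt ((Finset.sup_lt_iff (WithBot.bot_lt_coe _)).2 fun i hi =>
      (degree_C_mul_X_pow_le i _).trans_lt (WithBot.coe_lt_coe.2 (Finset.mem_range.1 hi)))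
  have hνm : ν.Monic := monic_X_pow_add hνdeg
  let Ω := AlgebraicClosure L
  haveI : CharP Ω p := charP_of_injective_algebraMap (algebraMap L Ω).injective p
  obtain ⟨γ, hγ⟩ := IsAlgClosed.exists_pow_nat_eq (algebraMap L Ω c) hp.pos
  have hνγ : aeval γ ν = 0 := by
    have h1 : (aeval γ ν) ^ p = algebraMap L Ω (aeval c μ) := by
      simp only [ν, map_add, map_sum, map_mul, aeval_C, map_pow, aeval_X, add_pow_char, sum_pow_char,
        mul_pow, ← pow_mul, mul_comm _ p]
      simp only [pow_mul, hγ, ← map_pow, hr, aeval_eq_sum_range, Finset.sum_range_succ, map_add, map_sum]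
      rw [(minpoly.monic hint).coeff_natDegree, one_smul, add_comm]
      congr 1
      refine Finset.sum_congr rfl fun i _ => ?_
      rw [Algebra.smul_def, map_mul, map_pow, ← IsScalarTower.algebraMap_apply]
    rw [minpoly.aeval, map_zero] at h1
    exact pow_eq_zero_iff hp.ne_zero |>.1 h1
  have hγint : IsIntegral M γ := ⟨ν, hνm, hνγ⟩
  let Kc := IntermediateField.adjoin M {algebraMap L Ω c}
  let Kγ := IntermediateField.adjoin M {γ}
  have hle : Kc ≤ Kγ := by
    rw [IntermediateField.adjoin_le_iff, Set.singleton_subset_iff, ← hγ]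
    exact pow_mem (IntermediateField.mem_adjoin_simple_self M γ) p
  haveI : FiniteDimensional M Kγ := IntermediateField.adjoin.finiteDimensional hγint
  have hfin : Module.finrank M Kγ ≤ Module.finrank M Kc := by
    rw [IntermediateField.adjoin.finrank hγint, IntermediateField.adjoin.finrank (hint.algebraMap),
      minpoly.algebraMap_eq (algebraMap L Ω).injective]
    refine (natDegree_le_of_dvd (minpoly.dvd M γ hνγ) hνm.ne_zero).trans (le_of_eq ?_)
    exact natDegree_eq_of_degree_eq_some (by
      rw [degree_add_eq_left_of_degree_lt (by rwa [degree_X_pow]), degree_X_pow])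
  have heq : Kc = Kγ := IntermediateField.eq_of_le_of_finrank_le hle hfin
  have hmem : γ ∈ (IsScalarTower.toAlgHom M L Ω).fieldRange := by
    have h1 : Kc ≤ (IsScalarTower.toAlgHom M L Ω).fieldRange := by
      rw [IntermediateField.adjoin_le_iff, Set.singleton_subset_iff]
      exact ⟨c, rfl⟩
    exact h1 (heq ▸ IntermediateField.mem_adjoin_simple_self M γ)
  obtain ⟨a, rfl⟩ := hmem
  exact ⟨a, (algebraMap L Ω).injective (by rw [map_pow]; exact hγ)⟩

end Groth.Agent.Calg46.DerivField
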