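import Groth.Agent.RegLoc6.Basic
import Mathlib

/-!
# Derivations in characteristic zero: dimension bound and regularity from free differentials
-/

set_option autoImplicit false
set_option linter.style.haveILetI false

universe u

open IsLocalRing

namespace Groth.Agent.Calg46.DerivRegChar0

/-- In characteristic zero derivations preserve minimal primes. -/
theorem deriv_mem_of_minimalPrime {k R : Type u} [Field k] [CharZero k] [CommRing R] [Algebra k R]
    [IsNoetherianRing R] (D : Derivation k R R) {p : Ideal R} (hp : p ∈ minimalPrimes R) {a : R} (ha : a ∈ p) :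
    D a ∈ p := by
  haveI := hp.1.1
  obtain ⟨k₀, t, ht, h0⟩ : ∃ (m : ℕ) (t : R), t ∉ p ∧ t * a ^ m = 0 := by
    obtain ⟨m, hm⟩ : IsNilpotent (algebraMap R (Localization.AtPrime p) a) := by
      rw [← mem_nilradical, nilradical, Ideal.radical_eq_sInf, Ideal.mem_sInf]
      rintro P ⟨-, hP⟩
      have h1 : P.comap (algebraMap R (Localization.AtPrime p)) ≤ p :=
        (Ideal.comap_mono (le_maximalIdeal hP.ne_top)).trans_eq
          (IsLocalization.AtPrime.under_maximalIdeal (Localization.AtPrime p) p)
      exact hp.2 ⟨inferInstance, bot_le⟩ h1 ha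
    rw [← map_pow] at hm
    obtain ⟨t, ht⟩ := (IsLocalization.map_eq_zero_iff p.primeCompl (Localization.AtPrime p) _).1 hm
    exact ⟨m, t, t.2, ht⟩
  suffices h : ∀ j ≤ k₀, ∃ t m, t ∉ p ∧ t * a ^ (k₀ - j) * (D a) ^ m = 0 by
    obtain ⟨t, m, ht, h⟩ := h k₀ le_rfl
    rw [Nat.sub_self, pow_zero, mul_one] at h
    exact (‹p.IsPrime›).mem_of_pow_mem m (((‹p.IsPrime›).mem_or_mem (h ▸ p.zero_mem)).resolve_left ht)
  intro j
  induction j with
  | zero => exact fun _ => ⟨t, 0, ht, by simpa using h0⟩
  | succ j ih =>
    intro hj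
    obtain ⟨t, m, ht, h⟩ := ih (by omega)
    obtain ⟨l, hl⟩ : ∃ l, k₀ - j = l + 1 := ⟨k₀ - j - 1, by omega⟩
    rw [show k₀ - (j + 1) = l by omega]
    rw [hl] at h
    refine ⟨t * t, m + 2, fun hm => ht (((‹p.IsPrime›).mem_or_mem hm).elim id id), ?_⟩
    have hD : D (t * a ^ (l + 1) * D a ^ m) = 0 := by rw [h, map_zero]
    have hz : D t * (t * a ^ (l + 1) * D a ^ m) * D a = 0 := by rw [h, mul_zero, zero_mul]
    have hsmul : algebraMap k R ((l : k) + 1) * (t * t * a ^ l * D a ^ (m + 2)) = 0 := by
      rw [map_add, map_natCast, map_one]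
      have e1 := congrArg (fun z => z * (t * D a)) hD
      simp only [zero_mul, Derivation.leibniz, Derivation.leibniz_pow, smul_eq_mul, nsmul_eq_mul, Nat.add_sub_cancel] at e1
      push_cast at e1
      rcases Nat.eq_zero_or_pos m with rfl | hm
      · simp only [pow_zero, mul_one, Nat.cast_zero, zero_mul, mul_zero, zero_add] at e1 h hz ⊢
        linear_combination e1 - hz
      · obtain ⟨q, rfl⟩ : ∃ q, m = q + 1 := ⟨m - 1, by omega⟩
        rw [Nat.add_sub_cancel] at e1
        push_cast at e1
        linear_combination e1 - hz - (((q : R) + 1) * t * D (D a)) * h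
    have hne : IsUnit (algebraMap k R ((l : k) + 1)) :=
      (IsUnit.mk0 _ (by exact_mod_cast Nat.succ_ne_zero l)).map _
    exact hne.mul_right_eq_zero.1 hsmul

/-- A derivation preserving an ideal passes to the quotient. -/
theorem exists_quotient_derivation {k R : Type u} [Field k] [CommRing R] [Algebra k R] (I : Ideal R)
    (D : Derivation k R R) (hD : ∀ a ∈ I, D a ∈ I) :
    ∃ D' : Derivation k (R ⧸ I) (R ⧸ I), ∀ a, D' (Ideal.Quotient.mk I a) = Ideal.Quotient.mk I (D a) := by
  refine ⟨Derivation.mk' (Submodule.liftQ (I.restrictScalars k)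
    ((Ideal.Quotient.mkₐ k I).toLinearMap ∘ₗ (D : R →ₗ[k] R)) fun a ha => by
      rw [LinearMap.mem_ker]; exact Ideal.Quotient.eq_zero_iff_mem.2 (hD a ha)) ?_, fun a => rfl⟩
  intro a b
  obtain ⟨a, rfl⟩ := Ideal.Quotient.mk_surjective a
  obtain ⟨b, rfl⟩ := Ideal.Quotient.mk_surjective b
  show Ideal.Quotient.mk I (D (a * b)) = _
  rw [Derivation.leibniz, map_add]
  rfl

/-- Dual derivations and elements of the maximal ideal bound the dimension from below. -/
theorem le_ringKrullDim {k : Type u} [Field k] [CharZero k] : ∀ (n : ℕ) (R : Type u) [CommRing R] [Algebra k R]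
    [IsLocalRing R] [IsNoetherianRing R] (x : Fin n → R) (D : Fin n → Derivation k R R),
    (∀ i, x i ∈ maximalIdeal R) → (∀ i j, D i (x j) = if i = j then 1 else 0) →
      (n : WithBot ℕ∞) ≤ ringKrullDim R
  | 0, R, _, _, _, _, _, _, _, _ => ringKrullDim_nonneg_of_nontrivial
  | n + 1, R, _, _, _, _, x, D, hx, hD => by
    obtain ⟨p, hp, -⟩ := Ideal.exists_minimalPrimes_le (bot_le : ⊥ ≤ maximalIdeal R)
    haveI := hp.1.1
    let J : Ideal R := p ⊔ Ideal.span {x 0}
    have hJ : J ≤ maximalIdeal R :=
      sup_le (le_maximalIdeal hp.1.1.ne_top) ((Ideal.span_singleton_le_iff_mem _).2 (hx 0))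
    have hstab : ∀ i : Fin n, ∀ a ∈ J, D i.succ a ∈ J := by
      intro i a ha
      obtain ⟨b, hb, c, hc, rfl⟩ := Submodule.mem_sup.1 ha
      obtain ⟨d, rfl⟩ := Ideal.mem_span_singleton'.1 hc
      rw [map_add, Derivation.leibniz, hD, if_neg (Fin.succ_ne_zero i), smul_zero, zero_add, smul_eq_mul]
      exact J.add_mem (Submodule.mem_sup_left (deriv_mem_of_minimalPrime (D i.succ) hp hb))
        (Submodule.mem_sup_right (Ideal.mul_mem_right _ _ (Ideal.mem_span_singleton_self _)))
    choose D' hD' using fun i => exists_quotient_derivation J (D i.succ) (hstab i)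
    haveI : Nontrivial (R ⧸ J) :=
      Ideal.Quotient.nontrivial_iff.2 fun h => (maximalIdeal.isMaximal R).ne_top (top_le_iff.1 (h ▸ hJ))
    haveI : IsLocalRing (R ⧸ J) := IsLocalRing.of_surjective' (Ideal.Quotient.mk J) Ideal.Quotient.mk_surjective
    have hrec := le_ringKrullDim n (R ⧸ J) (fun i => Ideal.Quotient.mk J (x i.succ)) D'
      (fun i => by
        rw [← map_maximalIdeal_of_surjective (Ideal.Quotient.mk J) Ideal.Quotient.mk_surjective]
        exact Ideal.mem_map_of_mem _ (hx i.succ))
      (fun i j => by rw [hD', hD]; simp [Fin.succ_inj, apply_ite])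
    have hx0 : Ideal.Quotient.mk p (x 0) ∈ nonZeroDivisors (R ⧸ p) := by
      refine mem_nonZeroDivisors_of_ne_zero fun h => hp.1.1.ne_top ((Ideal.eq_top_iff_one _).2 ?_)
      have h1 := deriv_mem_of_minimalPrime (D 0) hp (Ideal.Quotient.eq_zero_iff_mem.1 h)
      rwa [hD, if_pos rfl] at h1
    have e : ringKrullDim ((R ⧸ p) ⧸ Ideal.span {Ideal.Quotient.mk p (x 0)}) = ringKrullDim (R ⧸ J) := by
      rw [← Set.image_singleton, ← Ideal.map_span]
      exact ringKrullDim_eq_of_ringEquiv (DoubleQuot.quotQuotEquivQuotSup p (Ideal.span {x 0}))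
    have h2 := ringKrullDim_quotient_succ_le_of_nonZeroDivisor hx0
    rw [e] at h2
    push_cast
    exact (add_le_add_left hrec 1).trans (h2.trans (ringKrullDim_quotient_le p))

/-- Free differentials at a rational point in characteristic zero: regular, of that dimension. -/
theorem isRegularLocalRing_of_free_kaehler {k R : Type u} [Field k] [CharZero k] [CommRing R] [Algebra k R]
    [IsLocalRing R] [IsNoetherianRing R] (hres : Function.Surjective (algebraMap k (ResidueField R))) (n : ℕ)
    (e : KaehlerDifferential k R ≃ₗ[R] (Fin n → R)) : IsRegularLocalRing R ∧ ringKrullDim R = n := by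
  classical
  choose c hc using fun a : R => hres (residue R a)
  have hcm : ∀ a, a - algebraMap k R (c a) ∈ maximalIdeal R := fun a => by
    rw [← residue_eq_zero_iff, map_sub, sub_eq_zero, ← hc a]
    rfl
  let d := fun a => e (KaehlerDifferential.D k R a)
  let B : (Fin n → R) →+ (Fin n → ResidueField R) := AddMonoidHom.compLeft (residue R).toAddMonoidHom (Fin n)
  have hdm : ∀ a, d a = d (a - algebraMap k R (c a)) := fun a => by simp [d, map_sub]
  have hspan : Submodule.span (ResidueField R) (Set.range fun a : maximalIdeal R => B (d a)) = ⊤ := by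
    refine eq_top_iff.2 ?_
    rintro v -
    obtain ⟨v, rfl⟩ : ∃ w, B w = v := by
      choose w hw using fun i => residue_surjective (v i)
      exact ⟨w, funext hw⟩
    have hv : v ∈ Submodule.span R (Set.range d) := by
      rw [show Set.range d = e.toLinearMap '' Set.range (KaehlerDifferential.D k R) from Set.range_comp e _,
        Submodule.span_image, KaehlerDifferential.span_range_derivation, Submodule.map_top, LinearEquiv.range]
      trivial
    induction hv using Submodule.span_induction with
    | mem y hy =>
      obtain ⟨a, rfl⟩ := hy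
      rw [hdm]
      exact Submodule.subset_span ⟨⟨_, hcm a⟩, rfl⟩
    | zero => rw [map_zero]; exact zero_mem _
    | add y z _ _ hy hz => rw [map_add]; exact add_mem hy hz
    | smul r y _ hy =>
      have : B (r • y) = residue R r • B y := funext fun i => map_mul (residue R) r (y i)
      rw [this]
      exact Submodule.smul_mem _ _ hy
  obtain ⟨s, hs, hsspan, hli⟩ := exists_linearIndependent (ResidueField R) (Set.range fun a : maximalIdeal R => B (d a))
  let bs : Module.Basis s (ResidueField R) (Fin n → ResidueField R) := Module.Basis.mk hli (by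
    rw [Subtype.range_coe, hsspan, hspan])
  haveI : Finite s := hli.finite
  haveI := Fintype.ofFinite s
  let σ : s ≃ Fin n := Fintype.equivFinOfCardEq (by rw [← Module.finrank_eq_card_basis bs, Module.finrank_fin_fun])
  choose a ha using fun i : s => hs i.2
  let x : Fin n → R := fun i => (a (σ.symm i) : R)
  let M : Matrix (Fin n) (Fin n) R := Matrix.of fun l j => d (x j) l
  have hM : IsUnit M.det := by
    rw [← not_not (a := IsUnit M.det), ← mem_nonunits_iff, ← mem_maximalIdeal, ← residue_eq_zero_iff]
    intro h0
    rw [RingHom.map_det] at h0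
    have hcol : LinearIndependent (ResidueField R) ((residue R).mapMatrix M).col := by
      have hb := hli.comp σ.symm σ.symm.injective
      have he : ((residue R).mapMatrix M).col = (Subtype.val ∘ σ.symm : Fin n → Fin n → ResidueField R) := by
        funext j
        show (fun l => residue R (d (x j) l)) = ((σ.symm j : s) : Fin n → ResidueField R)
        rw [← ha (σ.symm j)]
        rfl
      rw [he]
      exact hb
    have h1 := (Matrix.linearIndependent_cols_iff_isUnit).1 hcol
    exact ((Matrix.isUnit_iff_isUnit_det _).1 h1).ne_zero h0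
  let D₀ : Fin n → Derivation k R R := fun i =>
    ((LinearMap.proj i).comp e.toLinearMap).compDer (KaehlerDifferential.D k R)
  let D : Fin n → Derivation k R R := fun i => ∑ l, (M⁻¹ i l) • D₀ l
  have hD : ∀ i j, D i (x j) = if i = j then 1 else 0 := fun i j => by
    have h1 : (M⁻¹ * M) i j = (1 : Matrix (Fin n) (Fin n) R) i j := by rw [Matrix.nonsing_inv_mul M hM]
    rw [Matrix.one_apply, Matrix.mul_apply] at h1
    rw [← h1]
    show (∑ l, M⁻¹ i l • D₀ l) (x j) = _
    rw [show ((∑ l, M⁻¹ i l • D₀ l : Derivation k R R)) (x j) = ∑ l, (M⁻¹ i l • D₀ l) (x j) from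
      map_sum ({ toFun := fun E : Derivation k R R => E (x j), map_zero' := rfl, map_add' := fun _ _ => rfl } :
        Derivation k R R →+ R) _ _]
    rfl
  have hdim : (n : WithBot ℕ∞) ≤ ringKrullDim R := le_ringKrullDim n R x D (fun i => (a (σ.symm i)).2) hD
  -- the maximal ideal
  let δ : Derivation k R (maximalIdeal R).Cotangent := Derivation.mk'
    { toFun := fun r => (maximalIdeal R).toCotangent ⟨_, hcm r⟩
      map_add' := fun r t => by
        rw [← map_add]
        congr 1
        refine Subtype.ext ?_
        show r + t - algebraMap k R (c (r + t)) = (r - algebraMap k R (c r)) + (t - algebraMap k R (c t))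
        have : c (r + t) = c r + c t := (algebraMap k (ResidueField R)).injective (by rw [map_add, hc, hc, hc, map_add])
        rw [this, map_add]; ring
      map_smul' := fun z r => by
        rw [RingHom.id_apply, ← algebraMap_smul R z ((maximalIdeal R).toCotangent _), ← map_smul]
        congr 1
        refine Subtype.ext ?_
        show z • r - algebraMap k R (c (z • r)) = algebraMap k R z * (r - algebraMap k R (c r))
        have : c (z • r) = z * c r := (algebraMap k (ResidueField R)).injective (by
          rw [map_mul, hc, hc, Algebra.smul_def, map_mul]; rfl)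
        rw [this, map_mul, Algebra.smul_def]; ring }
    (fun r t => by
      show (maximalIdeal R).toCotangent _ = r • (maximalIdeal R).toCotangent _ + t • (maximalIdeal R).toCotangent _
      rw [← map_smul, ← map_smul, ← map_add, Ideal.toCotangent_eq]
      have : c (r * t) = c r * c t := (algebraMap k (ResidueField R)).injective (by rw [map_mul, hc, hc, hc, map_mul])
      show r * t - algebraMap k R (c (r * t)) -
          (r * (t - algebraMap k R (c t)) + t * (r - algebraMap k R (c r))) ∈ maximalIdeal R ^ 2
      rw [this, map_mul, show r * t - algebraMap k R (c r) * algebraMap k R (c t) -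
          (r * (t - algebraMap k R (c t)) + t * (r - algebraMap k R (c r))) =
        -((r - algebraMap k R (c r)) * (t - algebraMap k R (c t))) by ring, pow_two]
      exact Submodule.neg_mem _ (Ideal.mul_mem_mul (hcm r) (hcm t)))
  let φ : (Fin n → R) →ₗ[R] (maximalIdeal R).Cotangent := δ.liftKaehlerDifferential ∘ₗ e.symm.toLinearMap
  have hφ : Function.Surjective φ := fun y => by
    obtain ⟨⟨r, hr⟩, rfl⟩ := (maximalIdeal R).toCotangent_surjective y
    refine ⟨d r, ?_⟩
    show δ.liftKaehlerDifferential (e.symm (e (KaehlerDifferential.D k R r))) = _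
    rw [LinearEquiv.symm_apply_apply, Derivation.liftKaehlerDifferential_comp_D]
    show (maximalIdeal R).toCotangent _ = _
    congr 1
    refine Subtype.ext ?_
    have : c r = 0 := (algebraMap k (ResidueField R)).injective (by rw [hc, map_zero, residue_eq_zero_iff]; exact hr)
    show r - algebraMap k R (c r) = r
    rw [this, map_zero, sub_zero]
  choose g hg using fun i : Fin n => (maximalIdeal R).toCotangent_surjective (φ (Pi.single i 1))
  have hgen : maximalIdeal R = Ideal.span (Set.range fun i => (g i : R)) := by
    refine le_antisymm ?_ (Ideal.span_le.2 (by rintro _ ⟨i, rfl⟩; exact (g i).2))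
    refine Submodule.le_of_le_smul_of_le_jacobson_bot (IsNoetherian.noetherian _) (maximalIdeal_le_jacobson _) ?_
    intro r hr
    obtain ⟨v, hv⟩ := hφ ((maximalIdeal R).toCotangent ⟨r, hr⟩)
    have h1 : (maximalIdeal R).toCotangent (∑ i, v i • g i) = (maximalIdeal R).toCotangent ⟨r, hr⟩ := by
      rw [← hv, pi_eq_sum_univ' v, map_sum, map_sum]
      refine Finset.sum_congr rfl fun i _ => ?_
      rw [map_smul, map_smul, hg]
      simp [Pi.single_apply]
    have h2 := (Ideal.toCotangent_eq _).1 h1
    rw [pow_two, ← smul_eq_mul] at h2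
    have h3 : ((∑ i, v i • g i : maximalIdeal R) : R) ∈ Ideal.span (Set.range fun i => (g i : R)) := by
      rw [AddSubmonoidClass.coe_finset_sum]
      exact sum_mem fun i _ => Ideal.mul_mem_left _ _ (Ideal.subset_span ⟨i, rfl⟩)
    have := sub_mem (Submodule.mem_sup_left (T := maximalIdeal R • maximalIdeal R) h3) (Submodule.mem_sup_right h2)
    rwa [sub_sub_cancel] at this
  have hle : (maximalIdeal R).spanFinrank ≤ n := by
    rw [hgen]
    exact (Submodule.spanFinrank_span_le_ncard_of_finite (Set.finite_range _)).trans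
      ((Nat.card_coe_set_eq _).symm.trans_le ((Finite.card_range_le _).trans_eq (Nat.card_fin n)))
  haveI : IsRegularLocalRing R :=
    IsRegularLocalRing.of_spanFinrank_maximalIdeal_le R (le_trans (by exact_mod_cast hle) hdim)
  refine ⟨‹_›, le_antisymm ?_ hdim⟩
  rw [← IsRegularLocalRing.spanFinrank_maximalIdeal (R := R)]
  exact_mod_cast hle

end Groth.Agent.Calg46.DerivRegChar0
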