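import Groth.Agent.RegLoc6.Basic
import Mathlib

/-!
# Regular quotients from derivations
-/

set_option autoImplicit false
set_option linter.style.haveILetI false
universe u

open IsLocalRing RingTheory.Sequence

namespace Groth.Agent.Calg46.DerivRegular

/-- Independence in the cotangent space. -/
def CotIndep {R : Type u} [CommRing R] [IsLocalRing R] {m : ℕ} (f : Fin m → R) : Prop :=
  ∀ c : Fin m → R, ∑ i, c i * f i ∈ maximalIdeal R ^ 2 → ∀ i, c i ∈ maximalIdeal R

theorem aux : ∀ (m : ℕ) (R : Type u) [CommRing R] [IsRegularLocalRing R] (f : Fin m → R),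
    (∀ i, f i ∈ maximalIdeal R) → CotIndep f →
      IsRegularLocalRing (R ⧸ Ideal.span (Set.range f)) ∧ IsWeaklyRegular R (List.ofFn f) := by
  intro m
  induction m with
  | zero =>
    intro R _ _ f _ _
    refine ⟨?_, by simp⟩
    have : Ideal.span (Set.range f) = ⊥ := by simp [Set.range_eq_empty]
    exact IsRegularLocalRing.of_ringEquiv ((RingEquiv.quotientBot R).symm.trans (Ideal.quotEquivOfEq this.symm))
  | succ m ih =>
    intro R _ _ f hf hind
    have hx2 : f 0 ∉ maximalIdeal R ^ 2 := fun h => by
      classical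
      have := hind (Pi.single 0 1) (by simpa [Pi.single_apply] using h) 0
      rw [Pi.single_eq_same] at this
      exact (maximalIdeal.isMaximal R).ne_top ((Ideal.eq_top_iff_one _).2 this)
    obtain ⟨hreg, -⟩ := RegLoc6.isRegularLocalRing_quot_and (hf 0) hx2
    haveI := hreg
    let Q := R ⧸ Ideal.span {f 0}
    let π : R →+* Q := Ideal.Quotient.mk _
    have hπ : Function.Surjective π := Ideal.Quotient.mk_surjective
    have hmax : (maximalIdeal R).map π = maximalIdeal Q := by
      haveI : ((maximalIdeal R).map π).IsMaximal :=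
        (Ideal.map_eq_top_or_isMaximal_of_surjective π hπ (maximalIdeal.isMaximal R)).resolve_left fun h => by
          have := Ideal.comap_map_of_surjective π hπ (maximalIdeal R)
          rw [h, Ideal.comap_top, ← RingHom.ker_eq_comap_bot, Ideal.mk_ker,
            sup_eq_left.2 ((Ideal.span_singleton_le_iff_mem _).2 (hf 0))] at this
          exact (maximalIdeal.isMaximal R).ne_top this.symm
      exact (IsLocalRing.eq_maximalIdeal inferInstance)
    obtain ⟨h1, h2⟩ := ih Q (fun i => π (f i.succ)) (fun i => hmax ▸ Ideal.mem_map_of_mem π (hf _)) fun c hc i => by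
      choose d hd using fun i => hπ (c i)
      have hmem : π (∑ j, d j * f j.succ) ∈ (maximalIdeal R ^ 2).map π := by
        rw [Ideal.map_pow, hmax, map_sum]
        simpa [hd] using hc
      rw [Ideal.mem_map_iff_of_surjective π hπ] at hmem
      obtain ⟨z, hz, hzπ⟩ := hmem
      obtain ⟨r, hr⟩ := Ideal.mem_span_singleton'.1 (Ideal.Quotient.eq.1 hzπ)
      have := hind (Fin.cons r d) (by
        rw [Fin.sum_univ_succ]
        simp only [Fin.cons_zero, Fin.cons_succ]
        rw [hr, sub_add_cancel]; exact hz) i.succ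
      rw [Fin.cons_succ] at this
      exact hmax ▸ hd i ▸ Ideal.mem_map_of_mem π this
    refine ⟨?_, ?_⟩
    · have hsup : Ideal.span (Set.range f) = Ideal.span {f 0} ⊔ Ideal.span (Set.range fun i : Fin m => f i.succ) := by
        rw [← Ideal.span_union, Fin.range_fin_succ]
        rfl
      have hmapspan : (Ideal.span (Set.range fun i : Fin m => f i.succ)).map π =
          Ideal.span (Set.range fun i : Fin m => π (f i.succ)) := by
        rw [Ideal.map_span, ← Set.range_comp]
        rfl
      exact IsRegularLocalRing.of_ringEquiv (((Ideal.quotEquivOfEq hmapspan.symm).trans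
        (DoubleQuot.quotQuotEquivQuotSup _ _)).trans (Ideal.quotEquivOfEq hsup.symm))
    · rw [List.ofFn_succ, isWeaklyRegular_cons_iff]
      refine ⟨?_, ?_⟩
      · haveI : IsDomain R := RegLoc6.isDomain_aux _ R le_rfl
        intro a b h
        exact mul_left_cancel₀ (fun h0 : f 0 = 0 => hx2 (by rw [h0]; exact zero_mem _)) h
      · have h3 : IsWeaklyRegular Q (List.ofFn fun i : Fin m => f i.succ) := by
          rw [← isWeaklyRegular_map_algebraMap_iff Q Q, List.map_ofFn]
          exact h2
        refine (LinearEquiv.isWeaklyRegular_congr (Submodule.quotEquivOfEq _ _ ?_) _).2 h3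
        ext a
        rw [Submodule.mem_smul_pointwise_iff_exists, Ideal.mem_span_singleton']
        exact ⟨fun ⟨b, _, hb⟩ => ⟨b, by rw [mul_comm]; exact hb⟩, fun ⟨b, hb⟩ => ⟨b, trivial, by rw [← hb, mul_comm]; rfl⟩⟩

/-- A derivation maps the square of an ideal into the ideal. -/
theorem deriv_sq_mem {R : Type u} [CommRing R] (I : Ideal R) (D : Derivation ℤ R R) {x : R} (hx : x ∈ I ^ 2) : D x ∈ I := by
  rw [pow_two] at hx
  refine Submodule.mul_induction_on hx (fun a ha b hb => ?_) fun a b ha hb => by rw [map_add]; exact add_mem ha hb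
  rw [Derivation.leibniz]
  exact add_mem (I.mul_mem_right _ ha) (I.mul_mem_right _ hb)

theorem cotIndep_of_det {R : Type u} [CommRing R] [IsLocalRing R] {m : ℕ} (f : Fin m → R)
    (hf : ∀ i, f i ∈ maximalIdeal R) (D : Fin m → Derivation ℤ R R)
    (hdet : IsUnit (Matrix.det (Matrix.of (fun i j : Fin m => D i (f j))))) : CotIndep f := by
  intro c hc i
  let J : Matrix (Fin m) (Fin m) R := Matrix.of (fun i j => D i (f j))
  have h1 : ∀ k, (J.mulVec c) k ∈ maximalIdeal R := by
    intro k
    have h := deriv_sq_mem _ (D k) hc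
    rw [map_sum] at h
    have h2 : (J.mulVec c) k = (∑ j, D k (c j * f j)) - ∑ j, f j * (D k (c j)) := by
      show ∑ j, D k (f j) * c j = _
      rw [← Finset.sum_sub_distrib (s := Finset.univ)]
      refine Finset.sum_congr rfl fun j _ => ?_
      rw [Derivation.leibniz, smul_eq_mul, smul_eq_mul]
      ring
    rw [h2]
    exact sub_mem h (Ideal.sum_mem _ fun j _ => Ideal.mul_mem_right _ _ (hf j))
  have h2 : c = J⁻¹.mulVec (J.mulVec c) := by
    rw [Matrix.mulVec_mulVec, Matrix.nonsing_inv_mul J hdet, Matrix.one_mulVec]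
  rw [h2]
  show ∑ j, J⁻¹ i j * J.mulVec c j ∈ maximalIdeal R
  exact Ideal.sum_mem _ fun j _ => Ideal.mul_mem_left _ (J⁻¹ i j) (h1 j)

theorem regular_quotient (R : Type u) [CommRing R] [IsRegularLocalRing R] {m : ℕ} (f : Fin m → R)
    (hf : ∀ i, f i ∈ maximalIdeal R) (D : Fin m → Derivation ℤ R R)
    (hdet : IsUnit (Matrix.det (Matrix.of (fun i j : Fin m => D i (f j))))) :
    IsRegularLocalRing (R ⧸ Ideal.span (Set.range f)) ∧ IsRegular R (List.ofFn f) := by
  obtain ⟨h1, h2⟩ := aux m R f hf (cotIndep_of_det f hf D hdet)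
  refine ⟨h1, h2, fun h => ?_⟩
  have hle : Ideal.ofList (List.ofFn f) ≤ maximalIdeal R := by
    rw [Ideal.ofList, Ideal.span_le]
    intro x hx
    obtain ⟨i, rfl⟩ := List.mem_ofFn.1 hx
    exact hf i
  rw [smul_eq_mul, Ideal.mul_top] at h
  exact (maximalIdeal.isMaximal R).ne_top (top_le_iff.1 (h.le.trans hle))

end Groth.Agent.Calg46.DerivRegular
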