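import Groth.Agent.RegLoc6.Basic
import Mathlib

/-!
# `R[z]/(p(z) - f)` is regular when some derivation makes `f` a unit
-/

set_option autoImplicit false
set_option linter.style.haveILetI false
universe u

open IsLocalRing Polynomial

namespace Groth.Agent.Calg46.DerivRegular

/-- A quotient by an element with unit derivative stays regular. -/
theorem isRegularRing_quot_span (T : Type u) [CommRing T] [IsRegularRing T] (g : T) (D : Derivation ℤ T T)
    (hg : IsUnit (D g)) : IsRegularRing (T ⧸ Ideal.span {g}) := by
  haveI : IsNoetherianRing T := inferInstance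
  refine isRegularRing_iff.2 fun P hP => ?_
  haveI := hP
  let π : T →+* T ⧸ Ideal.span {g} := Ideal.Quotient.mk _
  let P' : Ideal T := P.comap π
  let L := Localization.AtPrime P'
  have hgP : g ∈ P' := by
    show π g ∈ P
    rw [Ideal.Quotient.eq_zero_iff_mem.2 (Ideal.mem_span_singleton_self g)]
    exact P.zero_mem
  have hgm : algebraMap T L g ∈ maximalIdeal L := (IsLocalization.AtPrime.to_map_mem_maximal_iff L P' g).2 hgP
  have hg2 : algebraMap T L g ∉ maximalIdeal L ^ 2 := by
    intro h
    rw [← Localization.AtPrime.map_eq_maximalIdeal, ← Ideal.map_pow,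
      IsLocalization.algebraMap_mem_map_algebraMap_iff P'.primeCompl] at h
    obtain ⟨s, hs, hsg⟩ := h
    have hmem : D (s * g) ∈ P' := by
      rw [pow_two] at hsg
      refine Submodule.mul_induction_on hsg (fun a ha b hb => ?_) fun a b ha hb => by rw [map_add]; exact add_mem ha hb
      rw [Derivation.leibniz]
      exact add_mem (P'.mul_mem_right _ ha) (P'.mul_mem_right _ hb)
    rw [Derivation.leibniz, smul_eq_mul, smul_eq_mul] at hmem
    have h1 : s * D g ∈ P' := (P'.add_mem_iff_left (P'.mul_mem_right _ hgP)).1 hmem
    rcases Ideal.IsPrime.mem_or_mem inferInstance h1 with h2 | h2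
    · exact hs h2
    · exact (Ideal.IsPrime.ne_top inferInstance) (P'.eq_top_of_isUnit_mem h2 hg)
  obtain ⟨hreg, -⟩ := RegLoc6.isRegularLocalRing_quot_and hgm hg2
  -- identify the localizations
  let Q := L ⧸ Ideal.span {algebraMap T L g}
  have hmapspan : (Ideal.span {g}).map (algebraMap T L) = Ideal.span {algebraMap T L g} := by
    rw [Ideal.map_span, Set.image_singleton]
  letI : Algebra (T ⧸ Ideal.span {g}) Q :=
    (Ideal.quotientMap _ (algebraMap T L) (by rw [← hmapspan]; exact Ideal.le_comap_map)).toAlgebra
  haveI : IsScalarTower T (T ⧸ Ideal.span {g}) Q := IsScalarTower.of_algebraMap_eq fun x => rfl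
  haveI : IsLocalization.AtPrime Q P := by
    have h := IsLocalization.of_surjective (S := L) P'.primeCompl π Ideal.Quotient.mk_surjective
      (Ideal.Quotient.mk (Ideal.span {algebraMap T L g})) Ideal.Quotient.mk_surjective (S' := Q)
      (RingHom.ext fun x => rfl) (by rw [Ideal.mk_ker, Ideal.mk_ker, hmapspan])
    have heq : P'.primeCompl.map (π : T →* T ⧸ Ideal.span {g}) = P.primeCompl := by
      ext y
      constructor
      · rintro ⟨x, hx, rfl⟩; exact hx
      · intro hy
        obtain ⟨x, rfl⟩ := Ideal.Quotient.mk_surjective y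
        exact ⟨x, hy, rfl⟩
    show IsLocalization P.primeCompl Q
    rw [← heq]; exact h
  exact IsRegularLocalRing.of_ringEquiv (IsLocalization.algEquiv P.primeCompl Q (Localization.AtPrime P)).toRingEquiv

theorem regular_adjoin_root (R : Type u) [CommRing R] [IsRegularRing R] (f : R) (D : Derivation ℤ R R)
    (hD : IsUnit (D f)) (p : Polynomial ℤ) :
    IsRegularRing (Polynomial R ⧸
      Ideal.span ({Polynomial.map (Int.castRingHom R) p - Polynomial.C f} : Set (Polynomial R))) := by
  let D' : Derivation ℤ R[X] R[X] :=
    (PolynomialModule.equivPolynomialSelf (R := R)).toLinearMap.compDer D.mapCoeffs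
  have hC : ∀ r, D' (Polynomial.C r) = Polynomial.C (D r) := fun r => by
    simp [D']
  have hX : D' Polynomial.X = 0 := by simp [D']
  refine isRegularRing_quot_span _ _ D' ?_
  have h0 : D' (Polynomial.map (Int.castRingHom R) p) = 0 := by
    induction p using Polynomial.induction_on' with
    | add a b ha hb => rw [Polynomial.map_add, map_add, ha, hb, add_zero]
    | monomial n a =>
      rw [Polynomial.map_monomial, ← Polynomial.C_mul_X_pow_eq_monomial, Derivation.leibniz, Derivation.leibniz_pow, hX, hC]
      simp
  have h1 : D' (Polynomial.map (Int.castRingHom R) p - Polynomial.C f) = -Polynomial.C (D f) := by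
    refine (D'.toLinearMap.map_sub _ _).trans ?_
    show D' _ - D' _ = _
    rw [h0, hC, zero_sub]
  exact h1.symm ▸ (Polynomial.isUnit_C.2 hD).neg

end Groth.Agent.Calg46.DerivRegular
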