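import Groth.Agent.Calg46.DerivField
import Groth.Agent.CplFib6.PolyDer

/-!
# Domains with enough derivations and their finitely generated algebraic extensions
-/

set_option autoImplicit false
set_option linter.style.haveILetI false

namespace Groth.Agent.Calg46.DerivField

universe u

open Polynomial
open CplFib6 (EnoughDer exists_derivation_localization derivation_pow_char)

attribute [local instance 10000] Ring.toIntAlgebra

/-- Enough bounded derivations pass to finite field extensions. -/
theorem good_finite {T : Type u} [CommRing T] (p : ℕ) [Fact p.Prime] :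
    ∀ (n : ℕ) (M : Type u) [Field M] [Algebra T M] [CharP M p], Good T p M →
      ∀ (L : Type u) [Field L] [Algebra M L] [Algebra T L] [IsScalarTower T M L] [FiniteDimensional M L],
        Module.finrank M L ≤ n → Good T p L := by
  have hp : p.Prime := Fact.out
  intro n
  induction n with
  | zero =>
    intro M _ _ _ _ L _ _ _ _ _ hn
    exact absurd hn (by have := Module.finrank_pos (R := M) (M := L); omega)
  | succ n ih =>
    intro M _ _ _ h L _ _ _ _ _ hn
    haveI : CharP L p := charP_of_injective_algebraMap (algebraMap M L).injective p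
    let S := separableClosure M L
    letI : Algebra T S := ((algebraMap M S).comp (algebraMap T M)).toAlgebra
    haveI : IsScalarTower T M S := IsScalarTower.of_algebraMap_eq fun _ => rfl
    haveI : IsScalarTower T S L := IsScalarTower.of_algebraMap_eq fun t => by
      rw [IsScalarTower.algebraMap_apply T M L, IsScalarTower.algebraMap_apply M S L]; rfl
    have hS : Good T p S := good_separable p h S
    haveI : CharP S p := charP_of_injective_algebraMap (algebraMap M S).injective p
    haveI : ExpChar S p := ExpChar.prime hp
    haveI : FiniteDimensional S L := Module.Finite.of_restrictScalars_finite M S L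
    haveI : IsPurelyInseparable S L := separableClosure.isPurelyInseparable M L
    have hSL : Module.finrank S L ≤ Module.finrank M L :=
      Nat.le_of_dvd Module.finrank_pos ⟨_, by rw [mul_comm]; exact (Module.finrank_mul_finrank M S L).symm⟩
    by_cases hsurj : Function.Surjective (algebraMap S L)
    · intro c hc
      obtain ⟨c, rfl⟩ := hsurj c
      let e : S ≃+* L := RingEquiv.ofBijective (algebraMap S L) ⟨(algebraMap S L).injective, hsurj⟩
      obtain ⟨a, ha⟩ := hS c fun D hD => by
        let ψ : L →+ L := (e.toAddMonoidHom.comp D.toLinearMap.toAddMonoidHom).comp e.symm.toAddMonoidHom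
        let E : Derivation ℤ L L := Derivation.mk' ψ.toIntLinearMap fun x y => by
          show e (D (e.symm (x * y))) = x • e (D (e.symm y)) + y • e (D (e.symm x))
          simp [Derivation.leibniz]
        have hE : ∀ x, E (algebraMap S L x) = algebraMap S L (D x) := fun x => by
          show e (D (e.symm (e x))) = e (D x)
          rw [e.symm_apply_apply]
        refine e.injective ?_
        rw [map_zero]
        exact (hE c).symm.trans (hc E (hD.of_extends E hE))
      exact ⟨algebraMap S L a, by rw [← map_pow, ha]⟩
    rw [Function.Surjective] at hsurj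
    push Not at hsurj
    obtain ⟨x, hx⟩ := hsurj
    obtain ⟨m, hm⟩ := IsPurelyInseparable.pow_mem S p x
    obtain ⟨β, hβ, b, hb⟩ : ∃ β : L, (∀ s, algebraMap S L s ≠ β) ∧ β ^ p ∈ (algebraMap S L).range := by
      induction m generalizing x with
      | zero =>
        obtain ⟨s, hs⟩ := hm
        exact absurd (hs.trans (by simp)) (hx s)
      | succ m ihm =>
        by_cases hxp : x ^ p ∈ (algebraMap S L).range
        · exact ⟨x, hx, hxp⟩
        · exact ihm (x ^ p) (fun s hs => hxp ⟨s, hs⟩) (by rwa [← pow_mul, ← pow_succ'])
    have hbp : ∀ a : S, a ^ p ≠ b := fun a ha => hβ a (frobenius_inj L p (by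
      rw [frobenius_def, frobenius_def, ← map_pow, ha, hb]))
    haveI : Fact (Irreducible (X ^ p - C b)) := ⟨X_pow_sub_C_irreducible_of_prime hp hbp⟩
    have hM' := good_root p hS b hbp
    let j : AdjoinRoot (X ^ p - C b) →+* L := AdjoinRoot.lift (algebraMap S L) β (by simp [hb])
    letI : Algebra (AdjoinRoot (X ^ p - C b)) L := j.toAlgebra
    haveI : IsScalarTower S (AdjoinRoot (X ^ p - C b)) L := IsScalarTower.of_algebraMap_eq fun s =>
      (AdjoinRoot.lift_of _).symm
    haveI : IsScalarTower T (AdjoinRoot (X ^ p - C b)) L := IsScalarTower.of_algebraMap_eq fun t => by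
      rw [IsScalarTower.algebraMap_apply T S L, IsScalarTower.algebraMap_apply S (AdjoinRoot (X ^ p - C b)) L,
        ← IsScalarTower.algebraMap_apply T S (AdjoinRoot (X ^ p - C b))]
    haveI : CharP (AdjoinRoot (X ^ p - C b)) p :=
      charP_of_injective_algebraMap (algebraMap S (AdjoinRoot (X ^ p - C b))).injective p
    haveI : FiniteDimensional (AdjoinRoot (X ^ p - C b)) L := Module.Finite.of_restrictScalars_finite S _ L
    haveI : Module.Finite S (AdjoinRoot (X ^ p - C b)) := (monic_X_pow_sub_C b hp.ne_zero).finite_adjoinRoot
    refine ih (AdjoinRoot (X ^ p - C b)) hM' L ?_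
    have h2 : Module.finrank S (AdjoinRoot (X ^ p - C b)) = p := by
      rw [(AdjoinRoot.powerBasis (X_pow_sub_C_ne_zero hp.pos b)).finrank]
      simp
    have h3 := Module.finrank_mul_finrank S (AdjoinRoot (X ^ p - C b)) L
    have h4 : 0 < Module.finrank (AdjoinRoot (X ^ p - C b)) L := Module.finrank_pos
    have h5 := hp.two_le
    have h6 : 2 * Module.finrank (AdjoinRoot (X ^ p - C b)) L ≤ p * Module.finrank (AdjoinRoot (X ^ p - C b)) L :=
      Nat.mul_le_mul_right _ h5
    rw [h2] at h3
    omega

/-- A domain with enough derivations has enough bounded derivations in its fraction field. -/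
theorem good_fractionRing {T : Type u} [CommRing T] [IsDomain T] (p : ℕ) [Fact p.Prime] [CharP T p]
    (h : EnoughDer p T) (K : Type u) [Field K] [Algebra T K] [IsFractionRing T K] : Good T p K := by
  have hp : p.Prime := Fact.out
  have hinj := IsFractionRing.injective T K
  haveI : CharP K p := charP_of_injective_algebraMap hinj p
  intro c hc
  obtain ⟨a, b, hb, rfl⟩ := IsFractionRing.div_surjective (A := T) c
  have hb0 : algebraMap T K b ≠ 0 := (map_ne_zero_iff _ hinj).2 (nonZeroDivisors.ne_zero hb)
  have hid : algebraMap T K a / algebraMap T K b * algebraMap T K b ^ p = algebraMap T K (a * b ^ (p - 1)) := by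
    rw [map_mul, map_pow, show algebraMap T K b ^ p = algebraMap T K b * algebraMap T K b ^ (p - 1) by
      rw [← pow_succ', Nat.sub_add_cancel hp.pos], ← mul_assoc, div_mul_cancel₀ _ hb0]
  obtain ⟨s, hs, r, hr⟩ := h (a * b ^ (p - 1)) fun D => by
    obtain ⟨E, hE⟩ := exists_derivation_localization (S := K) (nonZeroDivisors T) D
    have hEb : Bdd T E := ⟨Submodule.span T {1}, Submodule.fg_span_singleton 1, fun t => by
      rw [hE]; exact Submodule.mem_span_singleton.2 ⟨D t, (Algebra.algebraMap_eq_smul_one _).symm⟩⟩
    apply hinj
    rw [map_zero, ← hE, ← hid, Derivation.leibniz, hc E hEb, derivation_pow_char p E]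
    simp
  have hs0 : algebraMap T K s ≠ 0 := (map_ne_zero_iff _ hinj).2 hs
  refine ⟨algebraMap T K r / (algebraMap T K s * algebraMap T K b), ?_⟩
  rw [div_pow, ← map_pow, ← hr, map_mul, ← hid, map_pow, mul_pow]
  field_simp

/-- A derivation of the fraction field that is bounded gives, after scaling, a derivation of a finite type
algebra. -/
theorem exists_derivation_of_bdd {T B L : Type u} [CommRing T] [CommRing B] [IsDomain B] [Field L]
    [Algebra T B] [Algebra T L] [Algebra B L] [IsScalarTower T B L] [IsFractionRing B L] [Algebra.FiniteType T B]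
    (E : Derivation ℤ L L) (hE : Bdd T E) :
    ∃ (s : B) (D : Derivation ℤ B B), s ≠ 0 ∧ ∀ b, algebraMap B L (D b) = algebraMap B L s * E (algebraMap B L b) := by
  classical
  obtain ⟨N, ⟨F, hF⟩, hN⟩ := hE
  obtain ⟨G, hG⟩ := (Algebra.FiniteType.out : (⊤ : Subalgebra T B).FG)
  obtain ⟨⟨s, hs⟩, hsF⟩ := IsLocalization.exist_integer_multiples_of_finset (nonZeroDivisors B)
    (F ∪ G.image fun g => E (algebraMap B L g))
  simp only [Algebra.smul_def] at hsF
  have hinj := IsFractionRing.injective B L
  have hmem : ∀ x ∈ F ∪ G.image fun g => E (algebraMap B L g), algebraMap B L s * x ∈ (algebraMap B L).range :=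
    fun x hx => hsF x hx
  have key : ∀ b : B, algebraMap B L s * E (algebraMap B L b) ∈ (algebraMap B L).range := by
    intro b
    have hb : b ∈ Algebra.adjoin T (G : Set B) := hG ▸ Algebra.mem_top
    induction hb using Algebra.adjoin_induction with
    | mem x hx => exact hmem _ (Finset.mem_union_right _ (Finset.mem_image_of_mem _ hx))
    | algebraMap t =>
      rw [← IsScalarTower.algebraMap_apply T B L]
      have h := hN t
      rw [← hF] at h
      generalize E (algebraMap T L t) = z at h ⊢
      induction h using Submodule.span_induction with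
      | mem x hx => exact hmem _ (Finset.mem_union_left _ hx)
      | zero => simp
      | add x y _ _ hx hy => rw [mul_add]; exact add_mem hx hy
      | smul c x _ hx =>
        rw [Algebra.smul_def, IsScalarTower.algebraMap_apply T B L, mul_left_comm]
        exact mul_mem ⟨_, rfl⟩ hx
    | add x y _ _ hx hy => rw [map_add, map_add, mul_add]; exact add_mem hx hy
    | mul x y _ _ hx hy =>
      rw [map_mul, Derivation.leibniz, smul_eq_mul, smul_eq_mul, mul_add, mul_left_comm, mul_left_comm _ (algebraMap B L y)]
      exact add_mem (mul_mem ⟨_, rfl⟩ hy) (mul_mem ⟨_, rfl⟩ hx)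
  choose d hd using key
  let D : B →+ B := AddMonoidHom.mk' d fun x y => hinj (by simp [hd, mul_add])
  refine ⟨s, Derivation.mk' D.toIntLinearMap fun x y => hinj ?_, nonZeroDivisors.ne_zero hs, hd⟩
  show algebraMap B L (d (x * y)) = algebraMap B L (x • d y + y • d x)
  simp only [smul_eq_mul, map_add, map_mul, hd, Derivation.leibniz]
  ring

/-- Polynomial rings in finitely many variables have enough derivations. -/
theorem enoughDer_mvPolynomial {T : Type u} [CommRing T] [IsDomain T] (p : ℕ) [Fact p.Prime] [CharP T p]
    (h : EnoughDer p T) (ι : Type u) [Finite ι] : EnoughDer p (MvPolynomial ι T) := by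
  classical
  have congr : ∀ {R S : Type u} [CommRing R] [CommRing S] (e : R ≃+* S), EnoughDer p R → EnoughDer p S := by
    intro R S _ _ e hR c hc
    obtain ⟨s, hs, a, ha⟩ := hR (e.symm c) fun D => by
      let ψ : S →+ S := (e.toAddMonoidHom.comp D.toLinearMap.toAddMonoidHom).comp e.symm.toAddMonoidHom
      have := hc (Derivation.mk' ψ.toIntLinearMap fun x y => by
        show e (D (e.symm (x * y))) = x • e (D (e.symm y)) + y • e (D (e.symm x))
        simp [Derivation.leibniz])
      exact e.injective (this.trans (map_zero e).symm)
    exact ⟨e s, (map_ne_zero_iff _ e.injective).2 hs, e a, by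
      rw [← map_pow, ← map_pow, ← ha, map_mul, e.apply_symm_apply]⟩
  cases nonempty_fintype ι
  have key : ∀ n : ℕ, EnoughDer p (MvPolynomial (Fin n) T) := by
    intro n
    induction n with
    | zero => exact congr (MvPolynomial.isEmptyRingEquiv T (Fin 0)).symm h
    | succ n ih =>
      haveI : CharP (MvPolynomial (Fin n) T) p :=
        charP_of_injective_ringHom (MvPolynomial.C_injective (Fin n) T) p
      exact congr (MvPolynomial.finSuccEquiv T n).toRingEquiv.symm (ih.polynomial p)
  exact congr (MvPolynomial.renameEquiv T (Fintype.equivFin ι).symm).toRingEquiv (key _)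

/-- In a finite type domain over a domain with enough derivations an element without `p`th root in the
fraction field is moved by a derivation. -/
theorem exists_derivation_ne_zero {C B : Type u} [CommRing C] [IsDomain C] [CommRing B] [IsDomain B] [Algebra C B]
    [FaithfulSMul C B] [Algebra.FiniteType C B] (p : ℕ) [Fact p.Prime] [CharP C p] (h : EnoughDer p C) (f : B)
    (hf : ∀ x : FractionRing B, x ^ p ≠ algebraMap B (FractionRing B) f) :
    ∃ D : Derivation ℤ B B, D f ≠ 0 := by
  classical
  obtain ⟨G, hG⟩ := (Algebra.FiniteType.out : (⊤ : Subalgebra C B).FG)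
  haveI : Algebra.IsAlgebraic (Algebra.adjoin C (G : Set B)) B :=
    ⟨fun b => isAlgebraic_algebraMap (⟨b, hG ▸ Algebra.mem_top⟩ : Algebra.adjoin C (G : Set B))⟩
  obtain ⟨t, htG, ht⟩ := exists_isTranscendenceBasis_subset (R := C) (A := B) (G : Set B)
  haveI : Finite t := (G.finite_toSet.subset htG).to_subtype
  let T := MvPolynomial t C
  haveI : CharP T p := charP_of_injective_ringHom (MvPolynomial.C_injective t C) p
  letI : Algebra T B := (MvPolynomial.aeval fun x : t => (x : B)).toRingHom.toAlgebra
  haveI : IsScalarTower C T B := IsScalarTower.of_algebraMap_eq fun c =>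
    ((MvPolynomial.aeval fun x : t => (x : B)).commutes c).symm
  haveI : Algebra.FiniteType T B := Algebra.FiniteType.of_restrictScalars_finiteType C T B
  have hTB : Function.Injective (algebraMap T B) := ht.1
  haveI : FaithfulSMul T B := (faithfulSMul_iff_algebraMap_injective _ _).2 hTB
  haveI : Algebra.IsAlgebraic T B := by
    haveI := ht.isAlgebraic
    refine ⟨fun b => ?_⟩
    obtain ⟨q, hq0, hq⟩ := Algebra.IsAlgebraic.isAlgebraic (R := Algebra.adjoin C (Set.range fun x : t => (x : B))) b
    let e := ht.1.aevalEquiv
    refine ⟨q.map e.symm.toRingHom, (Polynomial.map_ne_zero_iff e.symm.injective).2 hq0, ?_⟩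
    rw [Polynomial.aeval_def, Polynomial.eval₂_map]
    rw [Polynomial.aeval_def] at hq
    rw [show (algebraMap T B).comp e.symm.toRingHom = algebraMap (Algebra.adjoin C (Set.range fun x : t => (x : B))) B
      from RingHom.ext fun y => ?_]
    · exact hq
    show MvPolynomial.aeval (fun x : t => (x : B)) (e.symm y) = (y : B)
    rw [← AlgebraicIndependent.algebraMap_aevalEquiv ht.1]
    exact congrArg Subtype.val (e.apply_symm_apply y)
  let L := FractionRing B
  let K := FractionRing T
  have hTL : Function.Injective (algebraMap T L) := by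
    rw [IsScalarTower.algebraMap_eq T B L]; exact (IsFractionRing.injective B L).comp hTB
  haveI : FaithfulSMul T L := (faithfulSMul_iff_algebraMap_injective _ _).2 hTL
  letI : Algebra K L := FractionRing.liftAlgebra T L
  haveI : IsScalarTower T K L := FractionRing.isScalarTower_liftAlgebra T L
  haveI : Algebra.EssFiniteType T L := Algebra.EssFiniteType.comp T B L
  haveI : Algebra.EssFiniteType K L := Algebra.EssFiniteType.of_comp T K L
  haveI : Algebra.IsAlgebraic B L := IsLocalization.isAlgebraic L (nonZeroDivisors B)
  haveI : Algebra.IsAlgebraic T L := Algebra.IsAlgebraic.trans T B L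
  haveI : Algebra.IsAlgebraic K L := (IsFractionRing.comap_isAlgebraic_iff (A := T) (K := K) (C := L)).1 inferInstance
  haveI : FiniteDimensional K L := Algebra.finite_of_essFiniteType_of_isAlgebraic
  haveI : CharP K p := charP_of_injective_algebraMap (IsFractionRing.injective T K) p
  have hgood : Good T p L :=
    good_finite p _ K (good_fractionRing p (enoughDer_mvPolynomial p h t) K) L le_rfl
  by_contra hno
  push Not at hno
  obtain ⟨a, ha⟩ := hgood (algebraMap B L f) fun E hE => by
    obtain ⟨s, D, hs, hD⟩ := exists_derivation_of_bdd (B := B) E hE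
    have := hD f
    rw [hno D, map_zero] at this
    exact (mul_eq_zero.1 this.symm).resolve_left ((map_ne_zero_iff _ (IsFractionRing.injective B L)).2 hs)
  exact hf a ha

end Groth.Agent.Calg46.DerivField
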