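import Mathlib.CategoryTheory.Sites.Descent.DescentData

/-!
# Recognising canonical descent data
-/

universe t v' v u' u

open CategoryTheory Opposite

namespace Groth.Agent.Calg46

variable {C : Type u} [Category.{v} C] {F : Pseudofunctor (LocallyDiscrete Cᵒᵖ) Cat.{v', u'}}
  {ι : Type t} {S : C} {X : ι → C} {f : ∀ i, X i ⟶ S}

/-- The composition isomorphism on an object, between iterated images. -/
def compApp {A B D : C} (p : B ⟶ A) (g : D ⟶ B) (q : D ⟶ A) (w : g ≫ p = q) (M : F.obj (.mk (op A))) :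
    (F.map q.op.toLoc).toFunctor.obj M ⟶ (F.map g.op.toLoc).toFunctor.obj ((F.map p.op.toLoc).toFunctor.obj M) :=
  (F.mapComp' p.op.toLoc g.op.toLoc q.op.toLoc (by subst w; rfl)).hom.toNatTrans.app M

/-- Its inverse. -/
def compAppInv {A B D : C} (p : B ⟶ A) (g : D ⟶ B) (q : D ⟶ A) (w : g ≫ p = q) (M : F.obj (.mk (op A))) :
    (F.map g.op.toLoc).toFunctor.obj ((F.map p.op.toLoc).toFunctor.obj M) ⟶ (F.map q.op.toLoc).toFunctor.obj M :=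
  (F.mapComp' p.op.toLoc g.op.toLoc q.op.toLoc (by subst w; rfl)).inv.toNatTrans.app M

theorem compApp_inv {A B D : C} (p : B ⟶ A) (g : D ⟶ B) (q : D ⟶ A) (w : g ≫ p = q) (M : F.obj (.mk (op A))) :
    compApp p g q w M ≫ compAppInv p g q w M = 𝟙 _ :=
  Cat.Hom.hom_inv_id_toNatTrans_app _ _

theorem compAppInv_comp {A B D : C} (p : B ⟶ A) (g : D ⟶ B) (q : D ⟶ A) (w : g ≫ p = q) (M : F.obj (.mk (op A))) :
    compAppInv p g q w M ≫ compApp p g q w M = 𝟙 _ :=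
  Cat.Hom.inv_hom_id_toNatTrans_app _ _

theorem pullHom_eq_compApp {A B W W' : C} {M₁ : F.obj (.mk (op A))} {M₂ : F.obj (.mk (op B))} (g : W' ⟶ W)
    (f₁ : W ⟶ A) (f₂ : W ⟶ B) (gf₁ : W' ⟶ A) (gf₂ : W' ⟶ B) (h₁ : g ≫ f₁ = gf₁) (h₂ : g ≫ f₂ = gf₂)
    (φ : (F.map f₁.op.toLoc).toFunctor.obj M₁ ⟶ (F.map f₂.op.toLoc).toFunctor.obj M₂) :
    Pseudofunctor.LocallyDiscreteOpToCat.pullHom φ g gf₁ gf₂ h₁ h₂ =
      compApp f₁ g gf₁ h₁ M₁ ≫ (F.map g.op.toLoc).toFunctor.map φ ≫ compAppInv f₂ g gf₂ h₂ M₂ :=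
  rfl

set_option backward.isDefEq.respectTransparency false in
/-- An object with compatible identifications gives the datum. -/
theorem nonempty_iso_toDescentData (D : F.DescentData f) (M : F.obj (.mk (op S)))
    (e : ∀ i, (F.map (f i).op.toLoc).toFunctor.obj M ≅ D.obj i)
    (h : ∀ ⦃Y : C⦄ (q : Y ⟶ S) ⦃i₁ i₂ : ι⦄ (f₁ : Y ⟶ X i₁) (f₂ : Y ⟶ X i₂) (hf₁ : f₁ ≫ f i₁ = q)
      (hf₂ : f₂ ≫ f i₂ = q),
      compApp (f i₁) f₁ q hf₁ M ≫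
          (F.map f₁.op.toLoc).toFunctor.map (e i₁).hom ≫ D.hom q f₁ f₂ hf₁ hf₂ =
        compApp (f i₂) f₂ q hf₂ M ≫
          (F.map f₂.op.toLoc).toFunctor.map (e i₂).hom) :
    Nonempty ((F.toDescentData f).obj M ≅ D) := by
  refine ⟨Pseudofunctor.DescentData.isoMk e fun Y q i₁ i₂ f₁ f₂ hf₁ hf₂ => ?_⟩
  show _ = (compAppInv (f i₁) f₁ q hf₁ M ≫ compApp (f i₂) f₂ q hf₂ M) ≫ _
  rw [Category.assoc, ← h q f₁ f₂ hf₁ hf₂, ← Category.assoc (compAppInv _ _ _ _ _), compAppInv_comp,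
    Category.id_comp]

set_option backward.isDefEq.respectTransparency false in
/-- The gluing of a canonical datum. -/
theorem toDescentData_hom (M : F.obj (.mk (op S))) ⦃Y : C⦄ (q : Y ⟶ S) ⦃i₁ i₂ : ι⦄ (f₁ : Y ⟶ X i₁) (f₂ : Y ⟶ X i₂)
    (hf₁ : f₁ ≫ f i₁ = q) (hf₂ : f₂ ≫ f i₂ = q) :
    ((F.toDescentData f).obj M).hom q f₁ f₂ hf₁ hf₂ =
      compAppInv (f i₁) f₁ q hf₁ M ≫ compApp (f i₂) f₂ q hf₂ M :=
  rfl

set_option backward.isDefEq.respectTransparency false in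
/-- A morphism of canonical data, without the data. -/
theorem comm_canonical {M N : F.obj (.mk (op S))} (ψ : (F.toDescentData f).obj M ⟶ (F.toDescentData f).obj N)
    ⦃Y : C⦄ (q : Y ⟶ S) ⦃i₁ i₂ : ι⦄ (f₁ : Y ⟶ X i₁) (f₂ : Y ⟶ X i₂) (hf₁ : f₁ ≫ f i₁ = q) (hf₂ : f₂ ≫ f i₂ = q)
    (a₁ : (F.map (f i₁).op.toLoc).toFunctor.obj M ⟶ (F.map (f i₁).op.toLoc).toFunctor.obj N)
    (a₂ : (F.map (f i₂).op.toLoc).toFunctor.obj M ⟶ (F.map (f i₂).op.toLoc).toFunctor.obj N)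
    (ha₁ : a₁ = ψ.hom i₁) (ha₂ : a₂ = ψ.hom i₂) :
    compApp (f i₁) f₁ q hf₁ M ≫ (F.map f₁.op.toLoc).toFunctor.map a₁ ≫ compAppInv (f i₁) f₁ q hf₁ N =
      compApp (f i₂) f₂ q hf₂ M ≫ (F.map f₂.op.toLoc).toFunctor.map a₂ ≫ compAppInv (f i₂) f₂ q hf₂ N := by
  subst ha₁ ha₂
  have h := ψ.comm q f₁ f₂ hf₁ hf₂
  rw [toDescentData_hom, toDescentData_hom] at h
  have h' := congrArg (fun k => compApp (f i₁) f₁ q hf₁ M ≫ k ≫ compAppInv (f i₂) f₂ q hf₂ N) h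
  simp only [Category.assoc, compApp_inv, Category.comp_id] at h'
  rw [h', ← Category.assoc (compApp (f i₁) f₁ q hf₁ M) (compAppInv (f i₁) f₁ q hf₁ M), compApp_inv,
    Category.id_comp]

end Groth.Agent.Calg46
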