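import Mathlib
import Groth.Prelude.Def_CAlgX

/-!
# The smooth locus of generic determinantal rings
-/

set_option autoImplicit false
set_option linter.style.haveILetI false
universe u

open MvPolynomial

namespace Groth.Agent.Calg46.DetSmooth

/-- Minors of a product through a smaller index set vanish. -/
theorem det_mul_eq_zero {R : Type u} [CommRing R] {r : ℕ} (U : Matrix (Fin (r + 1)) (Fin r) R)
    (V : Matrix (Fin r) (Fin (r + 1)) R) : (U * V).det = 0 := by
  let U' : Matrix (Fin (r + 1)) (Fin (r + 1)) R := Matrix.of fun i => Fin.snoc (U i) 0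
  let V' : Matrix (Fin (r + 1)) (Fin (r + 1)) R := Fin.snoc V 0
  have h : U * V = U' * V' := by
    ext i j
    rw [Matrix.mul_apply, Matrix.mul_apply, Fin.sum_univ_castSucc]
    simp only [U', Matrix.of_apply, Fin.snoc_last, zero_mul, add_zero, Fin.snoc_castSucc]
    exact Finset.sum_congr rfl fun x _ => by
      rw [show V' x.castSucc = V x from Fin.snoc_castSucc (α := fun _ => Fin (r + 1) → R) 0 V x]
  rw [h, Matrix.det_mul, Matrix.det_eq_zero_of_column_eq_zero (Fin.last r) (fun i => by simp [U']), zero_mul]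

theorem map_minor_eq {R S : Type u} [CommRing R] [CommRing S] (φ : R →+* S) {n m s : ℕ}
    (M : Matrix (Fin n) (Fin m) R) (a : Fin s → Fin n) (b : Fin s → Fin m) :
    φ (M.submatrix a b).det = ((M.map φ).submatrix a b).det := by
  rw [RingHom.map_det]; rfl

/-- An invertible minor with vanishing bordered minors determines the matrix. -/
theorem eq_mul_of_bordered {R : Type u} [CommRing R] {n m r : ℕ} (M : Matrix (Fin n) (Fin m) R)
    (a : Fin r → Fin n) (b : Fin r → Fin m) (hu : IsUnit (M.submatrix a b).det)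
    (h : ∀ (f : Fin (r + 1) → Fin n) (g : Fin (r + 1) → Fin m), (M.submatrix f g).det = 0) :
    M = M.submatrix id b * ((M.submatrix a b)⁻¹ * M.submatrix a id) := by
  ext i j
  letI := (M.submatrix a b).invertibleOfIsUnitDet hu
  let f : Fin r ⊕ Fin 1 → Fin n := Sum.elim a (fun _ => i)
  let g : Fin r ⊕ Fin 1 → Fin m := Sum.elim b (fun _ => j)
  have h0 := h (f ∘ finSumFinEquiv.symm) (g ∘ finSumFinEquiv.symm)
  have h1 : M.submatrix (f ∘ finSumFinEquiv.symm) (g ∘ finSumFinEquiv.symm) =
      (Matrix.fromBlocks (M.submatrix a b) (M.submatrix a fun _ => j) (M.submatrix (fun _ => i) b)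
        (M.submatrix (fun _ : Fin 1 => i) (fun _ : Fin 1 => j))).submatrix
        finSumFinEquiv.symm finSumFinEquiv.symm := by
    ext p q
    simp only [Matrix.submatrix_apply, Function.comp_apply]
    rcases finSumFinEquiv.symm p with p | p <;> rcases finSumFinEquiv.symm q with q | q <;> rfl
  rw [h1, Matrix.det_submatrix_equiv_self, Matrix.det_fromBlocks₁₁, Matrix.det_fin_one, Matrix.sub_apply] at h0
  have h2 := sub_eq_zero.1 (hu.mul_right_eq_zero.1 h0)
  rw [Matrix.submatrix_apply, Matrix.invOf_eq_nonsing_inv, Matrix.mul_assoc] at h2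
  exact h2

/-- Adding an infinitesimal annihilating all sub-maximal minors does not change a determinant. -/
theorem det_add_eq {R S : Type u} [CommRing R] [CommRing S] (φ : R →+* S) {r : ℕ}
    (M D : Matrix (Fin (r + 1)) (Fin (r + 1)) R) (hD : ∀ i j, φ (D i j) = 0)
    (hK : ∀ i j c, φ c = 0 → D i j * c = 0)
    (hminor : ∀ f g : Fin r → Fin (r + 1), φ (M.submatrix f g).det = 0) :
    (M + D).det = M.det := by
  classical
  suffices H : ∀ s : Finset (Fin (r + 1)),
      (Matrix.of fun i => if i ∈ s then M i + D i else M i).det = M.det by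
    have := H Finset.univ
    simp only [Finset.mem_univ, if_true] at this
    exact this
  intro s
  induction s using Finset.induction with
  | empty => simp only [Finset.notMem_empty, if_false]; rfl
  | insert i s hi ih =>
    set N : Matrix (Fin (r + 1)) (Fin (r + 1)) R := Matrix.of fun i => if i ∈ s then M i + D i else M i
    set N' : Matrix (Fin (r + 1)) (Fin (r + 1)) R := Matrix.of fun j => if j ∈ insert i s then M j + D j else M j
    have hsub : ∀ j : Fin (r + 1), (N'.submatrix i.succAbove j.succAbove) = N.submatrix i.succAbove j.succAbove := by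
      intro j
      ext p q
      simp only [N, N', Matrix.submatrix_apply, Matrix.of_apply, Finset.mem_insert, Fin.succAbove_ne i p, false_or]
    have hker : ∀ j : Fin (r + 1), φ (N.submatrix i.succAbove j.succAbove).det = 0 := by
      intro j
      rw [map_minor_eq, show N.map φ = M.map φ from ?_, ← map_minor_eq]
      · exact hminor _ _
      · ext p q
        simp only [N, Matrix.map_apply, Matrix.of_apply]
        split_ifs <;> simp [hD]
    rw [← ih, Matrix.det_succ_row N' i, Matrix.det_succ_row N i]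
    refine Finset.sum_congr rfl fun j _ => ?_
    rw [hsub, show N' i j = N i j + D i j from by simp [N, N', hi], mul_add, add_mul,
      mul_assoc _ (D i j), hK i j _ (hker j), mul_zero, add_zero]

variable (k : Type u) [Field k] (n m r : ℕ)

local notation "A" => MvPolynomial (Fin n × Fin m) k
local notation "genX" => (Matrix.of fun (i : Fin n) (j : Fin m) => (MvPolynomial.X (i, j) : A))
local notation "B" => A ⧸ CAlgX.minorIdeal genX (r + 1)

/-- The locus of a nonvanishing `r`-minor is smooth. -/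
theorem formallySmooth_away (a : Fin r → Fin n) (b : Fin r → Fin m) :
    Algebra.FormallySmooth k
      (Localization.Away (Ideal.Quotient.mk (CAlgX.minorIdeal genX (r + 1)) (Matrix.submatrix genX a b).det)) := by
  set g := Ideal.Quotient.mk (CAlgX.minorIdeal genX (r + 1)) (Matrix.submatrix genX a b).det
  refine .of_comp_surjective fun C _ _ J hJ f => ?_
  let φ : A →ₐ[k] C ⧸ J := f.comp ((IsScalarTower.toAlgHom k B (Localization.Away g)).comp
    (Ideal.Quotient.mkₐ k _))
  let M : Matrix (Fin n) (Fin m) (C ⧸ J) := Matrix.of fun i j => φ (X (i, j))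
  have hM : (genX).map φ.toRingHom = M := rfl
  choose Y hY using fun i j => Ideal.Quotient.mk_surjective (M i j)
  let Y0 : Matrix (Fin n) (Fin m) C := Matrix.of Y
  have hY0 : Y0.map (Ideal.Quotient.mk J) = M := by ext i j; exact hY i j
  have hφg : IsUnit (φ (Matrix.submatrix genX a b).det) :=
    (IsLocalization.Away.algebraMap_isUnit (S := Localization.Away g) g).map f
  have huM : IsUnit (M.submatrix a b).det := by
    rw [← hM, ← map_minor_eq]; exact hφg
  have hu : IsUnit (Y0.submatrix a b).det := by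
    refine (IsNilpotent.isUnit_quotient_mk_iff ⟨2, hJ⟩).mp ?_
    rw [map_minor_eq, hY0]; exact huM
  have hminM : ∀ (f' : Fin (r + 1) → Fin n) (g' : Fin (r + 1) → Fin m), (M.submatrix f' g').det = 0 := by
    intro f' g'
    rw [← hM, ← map_minor_eq]
    have h0 : Ideal.Quotient.mk (CAlgX.minorIdeal genX (r + 1)) (Matrix.submatrix genX f' g').det = 0 :=
      Ideal.Quotient.eq_zero_iff_mem.2 (Ideal.subset_span ⟨(f', g'), rfl⟩)
    show f (algebraMap B (Localization.Away g) (Ideal.Quotient.mk _ _)) = 0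
    rw [h0, map_zero, map_zero]
  let U := Y0.submatrix id b
  let V := (Y0.submatrix a b)⁻¹ * Y0.submatrix a id
  let Z := U * V
  have hZ : Z.map (Ideal.Quotient.mk J) = M := by
    conv_rhs => rw [eq_mul_of_bordered M a b huM hminM]
    rw [show Z.map (Ideal.Quotient.mk J) = U.map (Ideal.Quotient.mk J) * V.map (Ideal.Quotient.mk J) from
      Matrix.map_mul, ← hY0, Matrix.map_mul]
    congr 2
    have hinv : (Y0.submatrix a b)⁻¹.map (Ideal.Quotient.mk J) * (Y0.map (Ideal.Quotient.mk J)).submatrix a b = 1 := by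
      rw [show (Y0.map (Ideal.Quotient.mk J)).submatrix a b = (Y0.submatrix a b).map (Ideal.Quotient.mk J) from rfl,
        ← Matrix.map_mul, Matrix.nonsing_inv_mul _ hu]
      exact Matrix.map_one _ (map_zero _) (map_one _)
    exact (Matrix.inv_eq_left_inv hinv).symm
  let ψ₀ : A →ₐ[k] C := aeval fun ij => Z ij.1 ij.2
  have hψ₀ : ∀ x ∈ CAlgX.minorIdeal genX (r + 1), ψ₀ x = 0 := by
    intro x hx
    refine Submodule.span_induction ?_ (map_zero _) (fun p q _ _ hp hq => by rw [map_add, hp, hq, add_zero])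
      (fun c p _ hp => by rw [smul_eq_mul, map_mul, hp, mul_zero]) hx
    rintro _ ⟨⟨f', g'⟩, rfl⟩
    have h1 : (genX).map ψ₀.toRingHom = Z := by ext i j; simp [ψ₀]
    show ψ₀.toRingHom _ = 0
    rw [map_minor_eq, h1, Matrix.submatrix_mul U V f' id g' Function.bijective_id]
    exact det_mul_eq_zero _ _
  let ψ₁ : B →ₐ[k] C := Ideal.Quotient.liftₐ _ ψ₀ hψ₀
  have hcomp : (Ideal.Quotient.mkₐ k J).comp ψ₀ = φ := MvPolynomial.algHom_ext fun ij => by
    simp only [AlgHom.comp_apply, ψ₀, aeval_X]
    exact congrFun (congrFun hZ ij.1) ij.2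
  have hψu : ∀ y : Submonoid.powers g, IsUnit (ψ₁ y) := by
    rintro ⟨_, e, rfl⟩
    rw [map_pow]
    refine IsUnit.pow e ((IsNilpotent.isUnit_quotient_mk_iff ⟨2, hJ⟩).mp ?_)
    show IsUnit (((Ideal.Quotient.mkₐ k J).comp ψ₀) (Matrix.submatrix genX a b).det)
    rw [hcomp]; exact hφg
  refine ⟨IsLocalization.liftAlgHom (M := Submonoid.powers g) (f := ψ₁) hψu, ?_⟩
  refine IsLocalization.algHom_ext (Submonoid.powers g) ?_
  refine Ideal.Quotient.algHom_ext k ?_
  refine MvPolynomial.algHom_ext fun ij => ?_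
  have := congrArg (fun h : A →ₐ[k] C ⧸ J => h (X ij)) hcomp
  simp only [AlgHom.comp_apply, IsLocalization.liftAlgHom_apply, Algebra.algHom, IsScalarTower.coe_toAlgHom']
  show Ideal.Quotient.mk J (IsLocalization.lift _ (algebraMap B (Localization.Away g) (Ideal.Quotient.mk _ (X ij)))) =
    f (algebraMap B (Localization.Away g) (Ideal.Quotient.mk _ (X ij)))
  rw [IsLocalization.lift_eq]
  exact this

/-- A criterion for the vanishing of the ideal at a smooth point of a quotient. -/
theorem map_eq_bot_of_formallySmooth {k R : Type u} [CommRing k] [CommRing R] [Algebra k R] [IsNoetherianRing R]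
    (I : Ideal R) (P : Ideal (R ⧸ I)) [P.IsPrime] [Algebra.FormallySmooth k (Localization.AtPrime P)]
    (H : ∀ (C : Type u) [CommRing C] [Algebra k C] (F : Type u) [CommRing F] (ρ : C →+* F) (τ ι : R →ₐ[k] C),
      (∀ x, Ideal.Quotient.mk I x ∈ P → ρ (ι x) = 0) → (∀ x, ρ (τ x - ι x) = 0) →
      (∀ x c, ρ c = 0 → (τ x - ι x) * c = 0) → (∀ x ∈ I, τ x = 0) → ∀ x ∈ I, ι x = 0) :
    I.map (algebraMap R (Localization.AtPrime (P.comap (Ideal.Quotient.mk I)))) = ⊥ := by
  let P' := P.comap (Ideal.Quotient.mk I)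
  let L := Localization.AtPrime P'
  let IL := I.map (algebraMap R L)
  let K := IsLocalRing.maximalIdeal L * IL
  have hIP : I ≤ P' := fun x hx => by
    show Ideal.Quotient.mk I x ∈ P
    rw [Ideal.Quotient.eq_zero_iff_mem.2 hx]; exact P.zero_mem
  have hILm : IL ≤ IsLocalRing.maximalIdeal L := by
    rw [← Localization.AtPrime.map_eq_maximalIdeal]; exact Ideal.map_mono hIP
  let π₀ : L →+* Localization.AtPrime P := Localization.localRingHom P' P (Ideal.Quotient.mk I) rfl
  have hπ : ∀ x : R, π₀ (algebraMap R L x) = algebraMap (R ⧸ I) (Localization.AtPrime P) (Ideal.Quotient.mk I x) :=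
    fun x => Localization.localRingHom_to_map P' P (Ideal.Quotient.mk I) rfl x
  let π : L →ₐ[k] Localization.AtPrime P :=
    ⟨π₀, fun c => by
      rw [IsScalarTower.algebraMap_apply k R L]
      exact (hπ _).trans (IsScalarTower.algebraMap_apply k (R ⧸ I) (Localization.AtPrime P) c).symm⟩
  have hπs : Function.Surjective π := by
    intro z
    obtain ⟨x, t, rfl⟩ := IsLocalization.exists_mk'_eq P.primeCompl z
    obtain ⟨x, rfl⟩ := Ideal.Quotient.mk_surjective x
    obtain ⟨t', ht'⟩ := Ideal.Quotient.mk_surjective (t : R ⧸ I)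
    have hmem : t' ∈ P'.primeCompl := fun h => t.2 (by rw [← ht']; exact h)
    refine ⟨IsLocalization.mk' L x ⟨t', hmem⟩, ?_⟩
    show Localization.localRingHom P' P (Ideal.Quotient.mk I) rfl _ = _
    rw [Localization.localRingHom_mk']
    exact congrArg _ (Subtype.ext ht')
  have hπk : ∀ z, π z = 0 → z ∈ IL := by
    intro z hz
    obtain ⟨x, t, rfl⟩ := IsLocalization.exists_mk'_eq P'.primeCompl z
    have hz' : Localization.localRingHom P' P (Ideal.Quotient.mk I) rfl (IsLocalization.mk' L x t) = 0 := hz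
    rw [Localization.localRingHom_mk', IsLocalization.mk'_eq_zero_iff] at hz'
    obtain ⟨t₁, ht⟩ := hz'
    obtain ⟨t', ht'⟩ := Ideal.Quotient.mk_surjective (t₁ : R ⧸ I)
    rw [← ht', ← map_mul, Ideal.Quotient.eq_zero_iff_mem] at ht
    have hmem : t' ∈ P'.primeCompl := fun h => t₁.2 (by rw [← ht']; exact h)
    have hu : IsUnit (algebraMap R L t') := IsLocalization.map_units L (⟨t', hmem⟩ : P'.primeCompl)
    rw [IsLocalization.mk'_mem_iff, ← Ideal.unit_mul_mem_iff_mem _ hu, ← map_mul]
    exact Ideal.mem_map_of_mem _ ht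
  have hKker : ∀ x ∈ K, π x = 0 := by
    intro x hx
    have hx' : x ∈ IL := (Ideal.mul_le.2 (fun a _ b hb => IL.mul_mem_left a hb) : K ≤ IL) hx
    have hle : I.map (algebraMap R L) ≤ RingHom.ker π₀ := by
      rw [Ideal.map_le_iff_le_comap]
      intro y hy
      rw [Ideal.mem_comap, RingHom.mem_ker, hπ, Ideal.Quotient.eq_zero_iff_mem.2 hy, map_zero]
    have h0 : π₀ x = 0 := hle hx'
    exact h0
  let q : L ⧸ K →ₐ[k] Localization.AtPrime P := Ideal.Quotient.liftₐ K π hKker
  have hq : Function.Surjective q := fun z => by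
    obtain ⟨x, rfl⟩ := hπs z
    exact ⟨Ideal.Quotient.mk K x, rfl⟩
  have hnil : IsNilpotent (RingHom.ker (q : L ⧸ K →+* Localization.AtPrime P)) := by
    refine ⟨2, ?_⟩
    refine ((Submodule.pow_succ _).trans ?_)
    rw [Submodule.pow_one]
    refine le_bot_iff.1 (Ideal.mul_le.2 fun x hx y hy => ?_)
    obtain ⟨x, rfl⟩ := Ideal.Quotient.mk_surjective x
    obtain ⟨y, rfl⟩ := Ideal.Quotient.mk_surjective y
    rw [Ideal.mem_bot, ← map_mul, Ideal.Quotient.eq_zero_iff_mem]
    exact Ideal.mul_mem_mul (hILm (hπk x hx)) (hπk y hy)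
  let σ := Algebra.FormallySmooth.liftOfSurjective (AlgHom.id k (Localization.AtPrime P)) q hq hnil
  have hσ : ∀ z, q (σ z) = z := fun z =>
    Algebra.FormallySmooth.liftOfSurjective_apply (AlgHom.id k (Localization.AtPrime P)) q hq hnil z
  let ι : R →ₐ[k] L ⧸ K := (Ideal.Quotient.mkₐ k K).comp (IsScalarTower.toAlgHom k R L)
  let τ : R →ₐ[k] L ⧸ K :=
    σ.comp ((IsScalarTower.toAlgHom k (R ⧸ I) (Localization.AtPrime P)).comp (Ideal.Quotient.mkₐ k I))
  have hD : ∀ x, ∃ d ∈ IL, Ideal.Quotient.mk K d = τ x - ι x := by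
    intro x
    obtain ⟨d, hd⟩ := Ideal.Quotient.mk_surjective (τ x - ι x)
    refine ⟨d, hπk d ?_, hd⟩
    show q (Ideal.Quotient.mk K d) = 0
    rw [hd, map_sub, sub_eq_zero]
    exact (hσ _).trans (hπ x).symm
  let ρ : L ⧸ K →+* IsLocalRing.ResidueField L := Ideal.Quotient.lift K (IsLocalRing.residue L) fun x hx =>
    Ideal.Quotient.eq_zero_iff_mem.2 ((Ideal.mul_le.2 (fun a ha b _ => (IsLocalRing.maximalIdeal L).mul_mem_right b ha) : K ≤ IsLocalRing.maximalIdeal L) hx)
  have hmem : ∀ x ∈ I, algebraMap R L x ∈ K := fun x hx => Ideal.Quotient.eq_zero_iff_mem.1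
    (H (L ⧸ K) (IsLocalRing.ResidueField L) ρ τ ι
      (fun y hy => Ideal.Quotient.eq_zero_iff_mem.2 (by
        rw [← Localization.AtPrime.map_eq_maximalIdeal]
        exact Ideal.mem_map_of_mem _ hy))
      (fun y => by
        obtain ⟨d, hd, hde⟩ := hD y
        rw [← hde]
        exact Ideal.Quotient.eq_zero_iff_mem.2 (hILm hd))
      (fun y c hc => by
        obtain ⟨d, hd, hde⟩ := hD y
        obtain ⟨c, rfl⟩ := Ideal.Quotient.mk_surjective c
        rw [← hde, ← map_mul, Ideal.Quotient.eq_zero_iff_mem, mul_comm]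
        exact Ideal.mul_mem_mul (Ideal.Quotient.eq_zero_iff_mem.1 hc) hd)
      (fun y hy => by
        show σ (algebraMap (R ⧸ I) (Localization.AtPrime P) (Ideal.Quotient.mk I y)) = 0
        rw [Ideal.Quotient.eq_zero_iff_mem.2 hy, map_zero, map_zero]) x hx)
  refine Submodule.eq_bot_of_le_smul_of_le_jacobson_bot (IsLocalRing.maximalIdeal L) IL
    (IsNoetherian.noetherian IL) (Ideal.map_le_iff_le_comap.2 hmem) ?_
  exact (IsLocalRing.jacobson_eq_maximalIdeal _ bot_ne_top).ge

/-- Over a point where all `r`-minors vanish the ring is not smooth. -/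
theorem not_isSmoothAt (hn : r + 1 ≤ n) (hm : r + 1 ≤ m) (P : Ideal B) [P.IsPrime]
    (hP : (CAlgX.minorIdeal genX r).map (Ideal.Quotient.mk (CAlgX.minorIdeal genX (r + 1))) ≤ P) :
    ¬ Algebra.IsSmoothAt k P := by
  intro hs
  haveI : Algebra.FormallySmooth k (Localization.AtPrime P) := hs
  have hbot := map_eq_bot_of_formallySmooth (k := k) (CAlgX.minorIdeal genX (r + 1)) P fun C _ _ F _ ρ τ ι h1 h2 h3 h4 x hx => by
    refine Submodule.span_induction ?_ (map_zero _) (fun p q _ _ hp hq => by rw [map_add, hp, hq, add_zero])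
      (fun c p _ hp => by rw [smul_eq_mul, map_mul, hp, mul_zero]) hx
    rintro _ ⟨⟨f, g⟩, rfl⟩
    show ι.toRingHom (Matrix.submatrix genX f g).det = 0
    let D : Matrix (Fin n) (Fin m) C := Matrix.of fun i j => τ (X (i, j)) - ι (X (i, j))
    rw [← h4 _ (Ideal.subset_span ⟨(f, g), rfl⟩), show τ (Matrix.submatrix genX f g).det =
      τ.toRingHom (Matrix.submatrix genX f g).det from rfl, map_minor_eq, map_minor_eq,
      show ((genX).map τ.toRingHom).submatrix f g = ((genX).map ι.toRingHom).submatrix f g + D.submatrix f g by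
        ext p q; simp [D]]
    refine (det_add_eq ρ _ _ (fun p q => h2 _) (fun p q c hc => h3 _ c hc) fun f' g' => ?_).symm
    rw [Matrix.submatrix_submatrix, ← map_minor_eq]
    exact h1 _ (hP (Ideal.mem_map_of_mem _ (Ideal.subset_span ⟨(f ∘ f', g ∘ g'), rfl⟩)))
  let a : Fin (r + 1) → Fin n := Fin.castLE hn
  let b : Fin (r + 1) → Fin m := Fin.castLE hm
  have h0 : (Matrix.submatrix genX a b).det = 0 := by
    have h1 : algebraMap A (Localization.AtPrime (P.comap (Ideal.Quotient.mk (CAlgX.minorIdeal genX (r + 1)))))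
        (Matrix.submatrix genX a b).det ∈ (CAlgX.minorIdeal genX (r + 1)).map (algebraMap A
          (Localization.AtPrime (P.comap (Ideal.Quotient.mk (CAlgX.minorIdeal genX (r + 1)))))) :=
      Ideal.mem_map_of_mem _ (Ideal.subset_span ⟨(a, b), rfl⟩)
    rw [hbot, Ideal.mem_bot] at h1
    exact (map_eq_zero_iff _ (IsLocalization.injective _ (P.comap (Ideal.Quotient.mk (CAlgX.minorIdeal genX (r + 1)))).primeCompl_le_nonZeroDivisors)).1 h1
  have h2 := congrArg (MvPolynomial.eval fun ij : Fin n × Fin m => if (ij.1 : ℕ) = ij.2 then (1 : k) else 0) h0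
  rw [map_minor_eq, map_zero, show ((genX).map _).submatrix a b = (1 : Matrix (Fin (r + 1)) (Fin (r + 1)) k) from ?_,
    Matrix.det_one] at h2
  · exact one_ne_zero h2
  · ext p q
    simp [a, b, Matrix.one_apply, Fin.ext_iff]

end Groth.Agent.Calg46.DetSmooth
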