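import Groth.Agent.PPLib.SymPow

/-!
Symmetric powers and homogeneous polynomials.
-/

set_option autoImplicit false

universe u v

open MvPolynomial Groth.Agent.PPLib

namespace Groth.Agent.Calg46.QRSym

variable {R : Type u} [CommRing R] {M : Type u} [AddCommGroup M] [Module R M] {σ : Type v}
  {ι : Type u} [Fintype ι]

theorem exists_mult_eq (d : σ →₀ ℕ) (hd : d.degree = Fintype.card ι) : ∃ c : ι → σ, mult c = d := by
  classical
  have hcard : Fintype.card ι = Fintype.card (Σ s : d.support, Fin (d s)) := by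
    simp only [← hd, Fintype.card_sigma, Fintype.card_fin, Finsupp.degree_apply, Finset.univ_eq_attach]
    exact (Finset.sum_attach d.support fun s => d s).symm
  let e := Fintype.equivOfCardEq hcard
  refine ⟨fun i => (e i).1.1, ?_⟩
  rw [mult, e.sum_comp (fun x : Σ s : d.support, Fin (d s) => Finsupp.single x.1.1 1), Fintype.sum_sigma]
  simp only [Finset.sum_const, Finset.card_univ, Fintype.card_fin, Finsupp.smul_single, smul_eq_mul, mul_one,
    Finset.univ_eq_attach]
  rw [Finset.sum_attach d.support fun s => Finsupp.single s (d s)]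
  exact Finsupp.sum_single d

/-- A homogeneous polynomial gives an element of the symmetric power. -/
theorem exists_sym (v : σ → M) (P : MvPolynomial σ R) (hP : P.IsHomogeneous (Fintype.card ι)) :
    ∃ y : SymmetricPower R ι M, ∀ (N : Type (max u v)) [AddCommGroup N] [Module R N]
      (Φ : SymmetricPower R ι M →ₗ[R] N) (ψ : MvPolynomial σ R →ₗ[R] N),
      (∀ c : ι → σ, Φ (SymmetricPower.tprod R fun i => v (c i)) = ψ (∏ i, X (c i))) → Φ y = ψ P := by
  classical
  have hdeg : ∀ d : P.support, (d : σ →₀ ℕ).degree = Fintype.card ι := fun d =>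
    (Finsupp.degree_apply _).trans (hP.degree_eq_sum_deg_support d.2).symm
  choose c hc using fun d : P.support => exists_mult_eq (ι := ι) d.1 (hdeg d)
  refine ⟨∑ d : P.support, P.coeff d.1 • SymmetricPower.tprod R fun i => v (c d i), fun N _ _ Φ ψ h => ?_⟩
  simp only [map_sum, map_smul, h, prod_X_eq_monomial, hc]
  conv_rhs => rw [P.as_sum, map_sum, ← Finset.sum_coe_sort]
  refine Finset.sum_congr rfl fun d _ => ?_
  rw [← map_smul, smul_monomial, smul_eq_mul, mul_one]

/-- Every element of the symmetric power comes from a homogeneous polynomial. -/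
theorem exists_poly (v : σ → M) (hv : Submodule.span R (Set.range v) = ⊤) (y : SymmetricPower R ι M) :
    ∃ P : MvPolynomial σ R, P.IsHomogeneous (Fintype.card ι) ∧
      ∀ (N : Type (max u v)) [AddCommGroup N] [Module R N]
      (Φ : SymmetricPower R ι M →ₗ[R] N) (ψ : MvPolynomial σ R →ₗ[R] N),
      (∀ c : ι → σ, Φ (SymmetricPower.tprod R fun i => v (c i)) = ψ (∏ i, X (c i))) → Φ y = ψ P := by
  classical
  let S : Submodule R (SymmetricPower R ι M) :=
    Submodule.span R (Set.range fun c : ι → σ => SymmetricPower.tprod R fun i => v (c i))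
  have hS : S.mkQ = 0 := sym_ext_span v hv fun c => by
    rw [LinearMap.zero_apply]
    exact (Submodule.Quotient.mk_eq_zero S).2 (Submodule.subset_span ⟨c, rfl⟩)
  have hy : y ∈ S := (Submodule.Quotient.mk_eq_zero S).1 (LinearMap.congr_fun hS y)
  induction hy using Submodule.span_induction with
  | mem w hw =>
    obtain ⟨c, rfl⟩ := hw
    refine ⟨∏ i, X (c i), ?_, fun N _ _ Φ ψ h => h c⟩
    simpa using IsHomogeneous.prod Finset.univ (fun i => (X (c i) : MvPolynomial σ R)) (fun _ => 1)
      fun i _ => isHomogeneous_X _ (c i)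
  | zero => exact ⟨0, isHomogeneous_zero _ _ _, fun N _ _ Φ ψ _ => by simp⟩
  | add a b _ _ ha hb =>
    obtain ⟨P, hP, hP'⟩ := ha
    obtain ⟨Q, hQ, hQ'⟩ := hb
    exact ⟨P + Q, hP.add hQ, fun N _ _ Φ ψ h => by rw [map_add, map_add, hP' N Φ ψ h, hQ' N Φ ψ h]⟩
  | smul r a _ ha =>
    obtain ⟨P, hP, hP'⟩ := ha
    exact ⟨r • P, (homogeneousSubmodule σ R _).smul_mem r hP,
      fun N _ _ Φ ψ h => by rw [map_smul, map_smul, hP' N Φ ψ h]⟩

section poly

variable {L : Type u} [CommRing L] [Algebra R L] {τ : Type*}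

/-- The map into polynomials induced by linear coordinates. -/
noncomputable def polyMap (θ : M →ₗ[R] τ →₀ L) : SymmetricPower R ι M →ₗ[R] MvPolynomial τ L :=
  symLift ((MultilinearMap.mkPiAlgebra R ι (MvPolynomial τ L)).compLinearMap
    fun _ => ((linForm (R := L) (σ := τ)).restrictScalars R).comp θ) fun e x => by
      simp only [MultilinearMap.compLinearMap_apply, MultilinearMap.mkPiAlgebra_apply]
      exact Equiv.prod_comp e fun i => (linForm.restrictScalars R).comp θ (x i)

theorem polyMap_tprod (θ : M →ₗ[R] τ →₀ L) (x : ι → M) :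
    polyMap θ (SymmetricPower.tprod R x) = ∏ i, linForm (θ (x i)) := by
  simp [polyMap]

theorem polyMap_spec (θ : M →ₗ[R] τ →₀ L) (v : σ → M) (c : ι → σ) :
    polyMap θ (SymmetricPower.tprod R fun i => v (c i)) =
      (aeval fun s => linForm (θ (v s))).toLinearMap (∏ i, (X (c i) : MvPolynomial σ R)) := by
  rw [polyMap_tprod, AlgHom.toLinearMap_apply, map_prod]
  simp

end poly

/-- Scaling the variables of a homogeneous polynomial. -/
theorem aeval_smul_homogeneous {A : Type*} [CommRing A] [Algebra R A] (a : R) (v : σ → A) {P : MvPolynomial σ R}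
    {n : ℕ} (hP : P.IsHomogeneous n) : aeval (fun s => a • v s) P = a ^ n • aeval v P := by
  classical
  rw [P.as_sum, map_sum, map_sum, Finset.smul_sum]
  refine Finset.sum_congr rfl fun d hd => ?_
  rw [aeval_monomial, aeval_monomial, ← mul_smul_comm]
  congr 1
  simp only [Finsupp.prod, smul_pow, Finset.prod_smul, Finset.prod_pow_eq_pow_sum]
  rw [← hP.degree_eq_sum_deg_support hd]

end Groth.Agent.Calg46.QRSym
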