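import Groth.Agent.PPLib.SmoothBaseChange
import Groth.Agent.Calg46.QRSym

/-!
Differential smoothness through homogeneous polynomials.
-/

set_option autoImplicit false
set_option linter.style.haveILetI false

universe u

open TensorProduct MvPolynomial PP16 Groth.Agent.PPLib

namespace Groth.Agent.Calg46.DiffPoly

variable (A B : Type u) [CommRing A] [CommRing B] [Algebra A B]

/-- `I^n/I^(n+1)` inside `(B ⊗ B)/I^(n+1)`. -/
noncomputable def embI (n : ℕ) : grI A B n →ₗ[B] (B ⊗[A] B) ⧸ KaehlerDifferential.ideal A B ^ (n + 1) :=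
  Submodule.liftQ _
    ((Ideal.Quotient.mkₐ B (KaehlerDifferential.ideal A B ^ (n + 1))).toLinearMap ∘ₗ Submodule.subtype _)
    fun _ hx => Ideal.Quotient.eq_zero_iff_mem.2 hx

theorem embI_injective (n : ℕ) : Function.Injective (embI A B n) := by
  rw [injective_iff_map_eq_zero]
  intro w hw
  obtain ⟨z, rfl⟩ := Submodule.Quotient.mk_surjective _ w
  exact (Submodule.Quotient.mk_eq_zero _).2 (Ideal.Quotient.eq_zero_iff_mem.1 hw)

variable {A B} {σ : Type u} (x : σ → KaehlerDifferential.ideal A B)

/-- The differential of an element of the ideal. -/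
noncomputable def dcls (s : σ) : KaehlerDifferential A B := KaehlerDifferential.fromIdeal A B (x s)

/-- Evaluation modulo `I^(n+1)`. -/
noncomputable def evalI (n : ℕ) : MvPolynomial σ B →ₗ[B] (B ⊗[A] B) ⧸ KaehlerDifferential.ideal A B ^ (n + 1) :=
  ((Ideal.Quotient.mkₐ B _).comp (aeval fun s => (x s : B ⊗[A] B))).toLinearMap

theorem evalI_eq_zero {n : ℕ} {P : MvPolynomial σ B} :
    evalI x n P = 0 ↔ aeval (fun s => (x s : B ⊗[A] B)) P ∈ KaehlerDifferential.ideal A B ^ (n + 1) :=
  Ideal.Quotient.eq_zero_iff_mem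

variable {ι : Type u} [Fintype ι]

theorem phi_spec (c : ι → σ) :
    ((embI A B _).comp (phi A B)) (SymmetricPower.tprod B fun i => dcls x (c i)) =
      evalI x (Fintype.card ι) (∏ i, (X (c i) : MvPolynomial σ B)) := by
  rw [LinearMap.comp_apply, phi_tprod]
  show Ideal.Quotient.mk _ _ = Ideal.Quotient.mk _ (aeval (fun s => (x s : B ⊗[A] B)) _)
  rw [map_prod, Ideal.Quotient.eq]
  simp only [aeval_X]
  have h := prod_sub_prod_mem (J := KaehlerDifferential.ideal A B)
    (x := fun i => rep A B (dcls x (c i))) (y := fun i => (x (c i) : B ⊗[A] B)) (fun i => sub_mem_sq A B (rep_mem A B _) (x (c i)).2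
      ((tensorProductTo_rep A B _).trans (KaehlerDifferential.D_tensorProductTo _).symm))
    (fun i => (x (c i)).2) Finset.univ
  simpa using h

/-- If the zeta map is injective, polynomials vanishing to higher order have zero coordinates. -/
theorem coords_eq_zero (hinj : Function.Injective (phi A B (ι := ι))) {P : MvPolynomial σ B}
    (hP : P.IsHomogeneous (Fintype.card ι))
    (hev : aeval (fun s => (x s : B ⊗[A] B)) P ∈ KaehlerDifferential.ideal A B ^ (Fintype.card ι + 1))
    {τ : Type u} {L : Type u} [CommRing L] [Algebra B L] (θ : KaehlerDifferential A B →ₗ[B] τ →₀ L) :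
    aeval (fun s => linForm (θ (dcls x s))) P = 0 := by
  obtain ⟨y, hy⟩ := QRSym.exists_sym (ι := ι) (dcls x) P hP
  have hy0 : y = 0 := by
    refine hinj (embI_injective A B _ ?_)
    have h1 := hy _ ((embI A B _).comp (phi A B)) (evalI x _) (phi_spec x)
    rw [LinearMap.comp_apply, (evalI_eq_zero x).2 hev] at h1
    rw [h1, map_zero, map_zero]
  have hy' := hy (MvPolynomial τ L) (QRSym.polyMap θ) (aeval fun s => linForm (θ (dcls x s))).toLinearMap
  have h1 := hy' fun c => QRSym.polyMap_spec θ (dcls x) c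
  rw [hy0, map_zero] at h1
  exact h1.symm

/-- A criterion for the injectivity of the zeta map. -/
theorem injective_of_coords (hx : Submodule.span B (Set.range (dcls x)) = ⊤) {τ : Type u}
    (j : KaehlerDifferential A B →ₗ[B] τ →₀ B) (r : (τ →₀ B) →ₗ[B] KaehlerDifferential A B)
    (hjr : r ∘ₗ j = LinearMap.id)
    (H : ∀ P : MvPolynomial σ B, P.IsHomogeneous (Fintype.card ι) →
      aeval (fun s => (x s : B ⊗[A] B)) P ∈ KaehlerDifferential.ideal A B ^ (Fintype.card ι + 1) →
        aeval (fun s => linForm (j (dcls x s))) P = 0) :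
    Function.Injective (phi A B (ι := ι)) := by
  rw [injective_iff_map_eq_zero]
  intro y hy
  obtain ⟨P, hP, hspec⟩ := QRSym.exists_poly (ι := ι) (dcls x) hx y
  have h1 := hspec _ ((embI A B _).comp (phi A B)) (evalI x _) (phi_spec x)
  rw [LinearMap.comp_apply, hy, map_zero, eq_comm, evalI_eq_zero] at h1
  have hy' := hspec (MvPolynomial τ B) (QRSym.polyMap j) (aeval fun s => linForm (j (dcls x s))).toLinearMap
  have h2 := hy' fun c => QRSym.polyMap_spec j (dcls x) c
  rw [AlgHom.toLinearMap_apply, H P hP h1] at h2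
  refine symPoly_symMap_injective j r hjr ((?_ : (symPoly ∘ₗ symMap j) y = _).trans (map_zero _).symm)
  rw [← h2]
  refine LinearMap.congr_fun (sym_ext fun z => ?_) y
  rw [LinearMap.comp_apply, symMap_tprod, symPoly_tprod, QRSym.polyMap_tprod]

end Groth.Agent.Calg46.DiffPoly
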