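import Groth.Agent.EGA41Lib.IntDim
import Mathlib

/-!
# The dimension of an affine algebra is unchanged by algebraic extensions of the field
-/

set_option autoImplicit false
set_option linter.style.haveILetI false
universe u

namespace Groth.Agent.Calg46.DimExt

open scoped TensorProduct

theorem dim_tensor (k K A : Type u) [Field k] [Field K] [Algebra k K] [Algebra.IsAlgebraic k K]
    [CommRing A] [Algebra k A] : ringKrullDim (A ⊗[k] K) = ringKrullDim A := by
  haveI : Algebra.IsIntegral k K := Algebra.IsAlgebraic.isIntegral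
  exact EGA41Lib.ringKrullDim_eq_of_integral
    (Algebra.TensorProduct.includeLeft_injective (S := k) (algebraMap k K).injective)

theorem ringKrullDim_map (k K : Type u) [Field k] [Field K] [Algebra k K] [Algebra.IsAlgebraic k K]
    {σ : Type} (I : Ideal (MvPolynomial σ k)) :
    ringKrullDim (MvPolynomial σ K ⧸ I.map (MvPolynomial.map (algebraMap k K))) =
      ringKrullDim (MvPolynomial σ k ⧸ I) := by
  let A := MvPolynomial σ k ⧸ I
  have h1 : ringKrullDim (A ⊗[k] K) = ringKrullDim A := dim_tensor k K A
  let e₁ : K ⊗[k] A ≃ₐ[K] (K ⊗[k] MvPolynomial σ k) ⧸ I.map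
      (Algebra.TensorProduct.includeRight (A := K) (R := k)) :=
    Algebra.TensorProduct.tensorQuotientEquiv K (MvPolynomial σ k) K I
  let e₂ : ((K ⊗[k] MvPolynomial σ k) ⧸ I.map (Algebra.TensorProduct.includeRight (A := K) (R := k))) ≃+*
      MvPolynomial σ K ⧸ I.map (MvPolynomial.map (algebraMap k K)) := by
    refine Ideal.quotientEquiv _ _ (MvPolynomial.algebraTensorAlgEquiv k K).toRingEquiv ?_
    rw [show I.map (Algebra.TensorProduct.includeRight (A := K) (R := k)) =
      I.map (Algebra.TensorProduct.includeRight (A := K) (R := k)).toRingHom from rfl, Ideal.map_map]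
    congr 1
    refine RingHom.ext fun x => ?_
    simp [MvPolynomial.algebraTensorAlgEquiv_tmul]
  let e : A ⊗[k] K ≃+* MvPolynomial σ K ⧸ I.map (MvPolynomial.map (algebraMap k K)) :=
    ((Algebra.TensorProduct.comm k A K).toRingEquiv.trans e₁.toRingEquiv).trans e₂
  have h2 : ringKrullDim (A ⊗[k] K) = ringKrullDim (MvPolynomial σ K ⧸ I.map (MvPolynomial.map (algebraMap k K))) :=
    @ringKrullDim_eq_of_ringEquiv (A ⊗[k] K) (MvPolynomial σ K ⧸ I.map (MvPolynomial.map (algebraMap k K))) _ _ e
  rw [← h2, h1]

end Groth.Agent.Calg46.DimExt
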