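import Groth.Agent.KrullAkiLen.Basic
import Groth.Agent.TameLib.Decomp
import Mathlib

/-!
# `∑ [κ(m):κ] · e_m ≤ [L:K] · e` for extensions of one-dimensional local domains
-/

set_option autoImplicit false
set_option linter.style.haveILetI false
universe u

open Pointwise

namespace Groth.Agent.Calg46.DimOneBound

variable {A : Type u} [CommRing A]

theorem range_lsmul_eq {M : Type u} [AddCommGroup M] [Module A M] (x : A) :
    LinearMap.range (LinearMap.lsmul A M x) = x • (⊤ : Submodule A M) := by
  ext y
  simp only [LinearMap.mem_range, LinearMap.lsmul_apply, Submodule.mem_smul_pointwise_iff_exists]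
  exact ⟨fun ⟨z, hz⟩ => ⟨z, trivial, hz⟩, fun ⟨z, _, hz⟩ => ⟨z, hz⟩⟩

/-- Commensurable lattices have the same length modulo a regular element. -/
theorem length_quot_eq_of_finite_coker {F N : Type u} [AddCommGroup F] [Module A F] [AddCommGroup N] [Module A N]
    (g : F →ₗ[A] N) (hg : Function.Injective g) (x : A) (hx : Function.Injective fun y : N => x • y)
    (hfin : Module.length A (N ⧸ LinearMap.range g) ≠ ⊤) :
    Module.length A (F ⧸ x • (⊤ : Submodule A F)) = Module.length A (N ⧸ x • (⊤ : Submodule A N)) := by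
  let S : Submodule A N := LinearMap.range (g ∘ₗ LinearMap.lsmul A F x)
  have h1 : x • (⊤ : Submodule A F) ≤ S.comap g := by
    rw [← range_lsmul_eq]; rintro _ ⟨z, rfl⟩; exact ⟨z, rfl⟩
  have h2 : LinearMap.range g ≤ S.comap (LinearMap.lsmul A N x) := by
    rintro _ ⟨z, rfl⟩; exact ⟨z, map_smul g x z⟩
  have h3 : S ≤ LinearMap.range g := by rintro _ ⟨z, rfl⟩; exact ⟨_, rfl⟩
  have h4 : S ≤ x • (⊤ : Submodule A N) := by
    rintro _ ⟨z, rfl⟩
    rw [← range_lsmul_eq]; exact ⟨g z, (map_smul g x z).symm⟩
  have e1 := Module.length_eq_add_of_exact ((x • (⊤ : Submodule A F)).mapQ S g h1) (Submodule.factor h3) ?_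
    (Submodule.factor_surjective h3) ?_
  have e2 := Module.length_eq_add_of_exact ((LinearMap.range g).mapQ S (LinearMap.lsmul A N x) h2) (Submodule.factor h4) ?_
    (Submodule.factor_surjective h4) ?_
  · rw [e1, add_comm (Module.length A (N ⧸ LinearMap.range g))] at e2
    exact WithTop.add_right_cancel hfin e2
  · rw [← LinearMap.ker_eq_bot, eq_bot_iff]
    intro z hz
    obtain ⟨z, rfl⟩ := Submodule.Quotient.mk_surjective _ z
    obtain ⟨w, hw⟩ := (Submodule.Quotient.mk_eq_zero _).1 hz
    rw [Submodule.mem_bot, Submodule.Quotient.mk_eq_zero]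
    exact ⟨w, hx (((map_smul g x w).symm.trans hw))⟩
  · intro z
    obtain ⟨z, rfl⟩ := Submodule.Quotient.mk_surjective _ z
    constructor
    · intro hz
      have h0 := (Submodule.Quotient.mk_eq_zero _).1 hz
      rw [← range_lsmul_eq] at h0
      obtain ⟨w, hw⟩ := h0
      exact ⟨Submodule.Quotient.mk w, congrArg Submodule.Quotient.mk hw⟩
    · rintro ⟨w, hw⟩
      obtain ⟨w, rfl⟩ := Submodule.Quotient.mk_surjective _ w
      rw [← hw]
      refine (Submodule.Quotient.mk_eq_zero _).2 ?_
      rw [← range_lsmul_eq]; exact ⟨w, rfl⟩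
  · rw [← LinearMap.ker_eq_bot, eq_bot_iff]
    intro z hz
    obtain ⟨z, rfl⟩ := Submodule.Quotient.mk_surjective _ z
    obtain ⟨w, hw⟩ := (Submodule.Quotient.mk_eq_zero _).1 hz
    rw [Submodule.mem_bot, Submodule.Quotient.mk_eq_zero, ← hg hw, ← range_lsmul_eq]
    exact ⟨w, rfl⟩
  · intro z
    obtain ⟨z, rfl⟩ := Submodule.Quotient.mk_surjective _ z
    constructor
    · intro hz
      obtain ⟨w, hw⟩ := (Submodule.Quotient.mk_eq_zero _).1 hz
      exact ⟨Submodule.Quotient.mk w, congrArg Submodule.Quotient.mk hw⟩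
    · rintro ⟨w, hw⟩
      obtain ⟨w, rfl⟩ := Submodule.Quotient.mk_surjective _ w
      rw [← hw]
      exact (Submodule.Quotient.mk_eq_zero _).2 ⟨w, rfl⟩

theorem length_pi_quot (ι : Type u) [Fintype ι] (x : A) :
    Module.length A ((ι → A) ⧸ x • (⊤ : Submodule A (ι → A))) =
      (Fintype.card ι : ℕ∞) * Module.length A (A ⧸ Ideal.span {x}) := by
  let φ : (ι → A) →ₗ[A] (ι → A ⧸ Ideal.span {x}) := LinearMap.pi fun i => (Submodule.mkQ _).comp (LinearMap.proj i)
  have hs : Function.Surjective φ := fun w => by
    choose v hv using fun i => Submodule.Quotient.mk_surjective _ (w i)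
    exact ⟨v, funext hv⟩
  have hk : LinearMap.ker φ = x • (⊤ : Submodule A (ι → A)) := by
    ext v
    rw [← range_lsmul_eq, LinearMap.mem_ker, funext_iff]
    constructor
    · intro h
      choose w hw using fun i => Ideal.mem_span_singleton'.1 ((Submodule.Quotient.mk_eq_zero _).1 (h i))
      exact ⟨w, funext fun i => (mul_comm _ _).trans (hw i)⟩
    · rintro ⟨w, rfl⟩ i
      exact (Submodule.Quotient.mk_eq_zero _).2 (Ideal.mem_span_singleton'.2 ⟨w i, mul_comm _ _⟩)
  rw [← hk, (φ.quotKerEquivOfSurjective hs).length_eq, Module.length_pi, ENat.card_eq_coe_fintype_card]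

variable [IsDomain A] [IsNoetherianRing A] [Ring.KrullDimLE 1 A] {K L : Type u} [Field K] [Algebra A K]
  [IsFractionRing A K] [Field L] [Algebra K L] [Algebra A L] [IsScalarTower A K L] [FiniteDimensional K L]
  {M : Type u} [AddCommGroup M] [Module A M]

theorem length_le_finrank {f : M →ₗ[A] L} (hf : Function.Injective f) {x : A} (hx : x ≠ 0) :
    Module.length A (M ⧸ x • (⊤ : Submodule A M)) ≤
      (Module.finrank K L : ℕ∞) * Module.length A (A ⧸ Ideal.span {x}) :=
  KrullAkiLen.length_le (K := K) _ M ((((Module.finBasis K L).equivFun.restrictScalars A).toLinearMap).comp f)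
    (((Module.finBasis K L).equivFun.injective).comp hf) x hx

/-- Finitely generated lattices attain the bound. -/
theorem length_eq_finrank [Module.Finite A M] {f : M →ₗ[A] L} (hf : Function.Injective f) {x : A} (hx : x ≠ 0)
    (v : Fin (Module.finrank K L) → M) (hv : LinearIndependent K (f ∘ v)) :
    Module.length A (M ⧸ x • (⊤ : Submodule A M)) =
      (Module.finrank K L : ℕ∞) * Module.length A (A ⧸ Ideal.span {x}) := by
  let n := Module.finrank K L
  let g : (ULift.{u} (Fin n) → A) →ₗ[A] M := Fintype.linearCombination A (fun i => v i.down)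
  have hg : Function.Injective g := by
    have hA : LinearIndependent A (f ∘ v) := hv.restrict_scalars (fun a b h => IsFractionRing.injective A K (by simpa [Algebra.smul_def] using h))
    rw [← LinearMap.ker_eq_bot, eq_bot_iff]
    intro c hc
    rw [Submodule.mem_bot]
    have h0 : f (g c) = 0 := by rw [LinearMap.mem_ker.1 hc, map_zero]
    rw [Fintype.linearCombination_apply, map_sum] at h0
    have := Fintype.linearIndependent_iff.1 (hA.comp ULift.down ULift.down_injective) c (by simpa [map_smul] using h0)
    exact funext this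
  haveI : IsDomain A := inferInstance
  have htf : ∀ c : A, c ≠ 0 → Function.Injective fun y : M => c • y := fun c hc y z h => by
    refine hf (smul_right_injective L ((map_ne_zero_iff (algebraMap A K) (IsFractionRing.injective A K)).2 hc) ?_)
    show algebraMap A K c • f y = algebraMap A K c • f z
    rw [algebraMap_smul, algebraMap_smul, ← map_smul, ← map_smul]
    exact congrArg f h
  have hfin : Module.length A (M ⧸ LinearMap.range g) ≠ ⊤ := by
    have hspan : ∀ y : M, ∃ c : A, c ≠ 0 ∧ c • y ∈ LinearMap.range g := by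
      intro y
      have htop := hv.span_eq_top_of_card_eq_finrank' (Fintype.card_fin _)
      obtain ⟨a, ha⟩ := (Submodule.mem_span_range_iff_exists_fun K).1 (htop ▸ Submodule.mem_top : f y ∈ _)
      obtain ⟨⟨c, hc⟩, hc'⟩ := IsLocalization.exist_integer_multiples (nonZeroDivisors A) Finset.univ a
      choose b hb using fun i => hc' i (Finset.mem_univ i)
      refine ⟨c, nonZeroDivisors.ne_zero hc, fun i => b i.down, hf ?_⟩
      rw [Fintype.linearCombination_apply, map_sum, map_smul, ← ha, Finset.smul_sum,
        ← Equiv.sum_comp Equiv.ulift.symm]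
      refine Finset.sum_congr rfl fun i _ => ?_
      rw [map_smul]
      show b i • f (v i) = c • (a i • f (v i))
      rw [← algebraMap_smul K (b i), hb i, ← smul_assoc]
    obtain ⟨s, hs⟩ := Module.Finite.fg_top (R := A) (M := M)
    choose c hc0 hc using hspan
    let C := ∏ y ∈ s, c y
    have hle : C • (⊤ : Submodule A M) ≤ LinearMap.range g := by
      rw [← hs, Submodule.smul_span, Submodule.span_le]
      rintro _ ⟨y, hy, rfl⟩
      obtain ⟨d, hd⟩ := Finset.dvd_prod_of_mem c hy
      show C • y ∈ _
      rw [show C = c y * d from hd, mul_comm, mul_smul]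
      exact Submodule.smul_mem _ d (hc y)
    have hC : C ≠ 0 := Finset.prod_ne_zero_iff.2 fun y _ => hc0 y
    refine ne_top_of_le_ne_top ?_ (Module.length_le_of_surjective (Submodule.factor hle) (Submodule.factor_surjective hle))
    refine ne_top_of_le_ne_top ?_ (length_le_finrank (K := K) hf hC)
    exact WithTop.mul_ne_top (ENat.natCast_ne_top _)
      (Module.length_ne_top_iff.2 (isFiniteLength_quotient_span_singleton A (mem_nonZeroDivisors_of_ne_zero hC)))
  rw [← length_quot_eq_of_finite_coker g hg x (htf x hx) hfin, length_pi_quot, Fintype.card_ulift, Fintype.card_fin]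

end Groth.Agent.Calg46.DimOneBound
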