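import Groth.Agent.Calg46.DimOneBound
import Groth.Agent.ResSurf.Colength

/-!
# `∑ [κ(m):κ] · e_m ≤ [L:K] · e`: the ring-theoretic form
-/

set_option autoImplicit false
set_option linter.style.haveILetI false
set_option linter.unusedSectionVars false
universe u

open Pointwise

namespace Groth.Agent.Calg46.DimOneBound

variable {A B : Type u} [CommRing A] [CommRing B] [Algebra A B]

open Classical in
/-- Length over the base as a sum over the maximal ideals containing a killing element. -/
theorem length_eq_sum_maximal {y : B} (s : Finset (MaximalSpectrum B)) (hs : ∀ m : MaximalSpectrum B, y ∈ m.asIdeal → m ∈ s)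
    (X : Type u) [AddCommGroup X] [Module B X] [Module A X] [IsScalarTower A B X] (hX : IsFiniteLength B X)
    (hy : ∀ v : X, y • v = 0) :
    Module.length A X = ∑ m ∈ s, Module.length A (B ⧸ m.asIdeal) *
      Module.length (Localization.AtPrime m.asIdeal) (LocalizedModule m.asIdeal.primeCompl X) := by
  rename_i instA instT
  revert instA instT
  induction hX with
  | @of_subsingleton M _ _ _ =>
    intro _ _
    have : ∀ q : MaximalSpectrum B, Subsingleton (LocalizedModule q.asIdeal.primeCompl M) := fun q =>
      subsingleton_of_forall_eq 0 fun z => by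
        induction z using LocalizedModule.induction_on with
        | _ x t => rw [Subsingleton.elim x 0, LocalizedModule.zero_mk]
    simp [Module.length_eq_zero]
  | @of_simple_quotient M _ _ N hN _ ih =>
    intro _ _
    obtain ⟨m, hm, ⟨e⟩⟩ := isSimpleModule_iff_quot_maximal.mp hN
    have hmem : y ∈ m := by
      obtain ⟨v, hv⟩ := N.mkQ_surjective (e.symm 1)
      have h1 : y • (1 : B ⧸ m) = 0 := by
        rw [← e.apply_symm_apply 1, ← map_smul, ← hv, ← map_smul, hy v, map_zero, map_zero]
      rw [← Ideal.Quotient.eq_zero_iff_mem]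
      simpa [Algebra.smul_def] using h1
    rw [Module.length_eq_add_of_exact (N.subtype.restrictScalars A) (N.mkQ.restrictScalars A)
      (Submodule.injective_subtype N) (Submodule.mkQ_surjective N) (LinearMap.exact_subtype_mkQ N),
      ih (fun v => Subtype.ext (hy v))]
    simp only [fun q : MaximalSpectrum B => TameLib.length_localized_exact q.asIdeal (Submodule.injective_subtype N)
      (Submodule.mkQ_surjective N) (LinearMap.exact_subtype_mkQ N), mul_add, Finset.sum_add_distrib]
    congr 1
    rw [(e.restrictScalars A).length_eq, Finset.sum_eq_single (⟨m, hm⟩ : MaximalSpectrum B)]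
    · rw [TameLib.length_localized_congr m e, TameLib.length_localized_simple m, mul_one]
    · intro q _ hq
      rw [TameLib.length_localized_congr q.asIdeal e, TameLib.length_localized_ne q.asIdeal m fun h =>
        hq (MaximalSpectrum.ext (hm.eq_of_le q.isMaximal.ne_top h).symm), mul_zero]
    · exact fun h => absurd (hs ⟨m, hm⟩ hmem) h

/-- `B/yB` and `B/y • B` agree. -/
theorem length_quot_span (x : A) :
    Module.length A (B ⧸ Ideal.span {algebraMap A B x}) = Module.length A (B ⧸ x • (⊤ : Submodule A B)) := by
  refine ((Submodule.Quotient.restrictScalarsEquiv A (Ideal.span {algebraMap A B x})).restrictScalars A).symm.trans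
    (Submodule.quotEquivOfEq _ _ ?_) |>.length_eq
  ext v
  rw [Submodule.restrictScalars_mem, Ideal.mem_span_singleton', Submodule.mem_smul_pointwise_iff_exists]
  exact ⟨fun ⟨w, hw⟩ => ⟨w, trivial, by rw [Algebra.smul_def, mul_comm, hw]⟩,
    fun ⟨w, _, hw⟩ => ⟨w, by rw [mul_comm, ← Algebra.smul_def, hw]⟩⟩

theorem result (A B K L : Type u)
    [CommRing A] [IsDomain A] [IsNoetherianRing A] [IsLocalRing A] (hdim : ringKrullDim A = 1)
    [CommRing B] [IsDomain B] [Algebra A B] [FaithfulSMul A B]
    [Field K] [Field L] [Algebra A K] [IsFractionRing A K] [Algebra B L] [IsFractionRing B L]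
    [Algebra K L] [Algebra A L] [IsScalarTower A K L] [IsScalarTower A B L] [FiniteDimensional K L]
    (x : A) (hx : x ∈ IsLocalRing.maximalIdeal A) (hx0 : x ≠ 0) :
    Finite (MaximalSpectrum B) ∧
      (∑ᶠ m : MaximalSpectrum B,
          Module.length A (B ⧸ m.asIdeal) *
            Module.length (Localization.AtPrime m.asIdeal)
              (Localization.AtPrime m.asIdeal ⧸
                Ideal.span ({algebraMap A (Localization.AtPrime m.asIdeal) x} : Set _)) ≤
        (Module.finrank K L : ℕ∞) * Module.length A (A ⧸ Ideal.span ({x} : Set A))) ∧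
      ((∑ᶠ m : MaximalSpectrum B,
          Module.length A (B ⧸ m.asIdeal) *
            Module.length (Localization.AtPrime m.asIdeal)
              (Localization.AtPrime m.asIdeal ⧸
                Ideal.span ({algebraMap A (Localization.AtPrime m.asIdeal) x} : Set _)) =
        (Module.finrank K L : ℕ∞) * Module.length A (A ⧸ Ideal.span ({x} : Set A))) ↔ Module.Finite A B) := by
  classical
  haveI : Ring.KrullDimLE 1 A := Ring.krullDimLE_iff.mpr hdim.le
  let f : B →ₗ[A] L := (IsScalarTower.toAlgHom A B L).toLinearMap
  have hf : Function.Injective f := IsFractionRing.injective B L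
  let y := algebraMap A B x
  let S := B ⧸ Ideal.span {y}
  have hle : Module.length A S ≤ (Module.finrank K L : ℕ∞) * Module.length A (A ⧸ Ideal.span ({x} : Set A)) :=
    (length_quot_span x).trans_le (length_le_finrank hf hx0)
  have hℓ : (Module.finrank K L : ℕ∞) * Module.length A (A ⧸ Ideal.span ({x} : Set A)) ≠ ⊤ :=
    WithTop.mul_ne_top (ENat.natCast_ne_top _)
      (Module.length_ne_top_iff.2 (isFiniteLength_quotient_span_singleton A (mem_nonZeroDivisors_of_ne_zero hx0)))
  have hfinB : IsFiniteLength B S :=
    Module.length_ne_top_iff.1 (ne_top_of_le_ne_top (ne_top_of_le_ne_top hℓ hle) (ResSurf.length_le_restrictScalars A S))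
  -- the maximal ideals containing `x`
  haveI : IsArtinianRing S :=
    isArtinian_of_tower B (isFiniteLength_iff_isNoetherian_isArtinian.1 hfinB).2
  have hfinset : {m : MaximalSpectrum B | y ∈ m.asIdeal}.Finite := by
    refine Set.Finite.subset (((Set.finite_univ (α := PrimeSpectrum S)).image
      (fun p : PrimeSpectrum S => p.asIdeal.comap (Ideal.Quotient.mk (Ideal.span {y})))).preimage
      (f := fun m : MaximalSpectrum B => m.asIdeal) fun a _ b _ h => MaximalSpectrum.ext h) ?_
    intro m hm
    have hker : RingHom.ker (Ideal.Quotient.mk (Ideal.span {y})) ≤ m.asIdeal := by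
      rw [Ideal.mk_ker, Ideal.span_le, Set.singleton_subset_iff]; exact hm
    haveI := Ideal.map_isPrime_of_surjective Ideal.Quotient.mk_surjective hker
    exact ⟨⟨m.asIdeal.map (Ideal.Quotient.mk _), inferInstance⟩, trivial, by
      show Ideal.comap _ (Ideal.map _ m.asIdeal) = _
      rw [Ideal.comap_map_of_surjective _ Ideal.Quotient.mk_surjective, ← RingHom.ker_eq_comap_bot,
        sup_eq_left.2 hker]⟩
  let s := hfinset.toFinset
  have hterm : ∀ m : MaximalSpectrum B,
      Module.length (Localization.AtPrime m.asIdeal) (Localization.AtPrime m.asIdeal ⧸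
        Ideal.span ({algebraMap A (Localization.AtPrime m.asIdeal) x} : Set _)) =
      Module.length (Localization.AtPrime m.asIdeal) (LocalizedModule m.asIdeal.primeCompl S) := by
    intro m
    rw [TameLib.ord_atPrime, Ring.ord, IsScalarTower.algebraMap_apply A B (Localization.AtPrime m.asIdeal)]
  have hsum : (∑ᶠ m : MaximalSpectrum B,
      Module.length A (B ⧸ m.asIdeal) *
        Module.length (Localization.AtPrime m.asIdeal)
          (Localization.AtPrime m.asIdeal ⧸
            Ideal.span ({algebraMap A (Localization.AtPrime m.asIdeal) x} : Set _))) = Module.length A S := by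
    rw [length_eq_sum_maximal (y := y) s (fun m hm => hfinset.mem_toFinset.2 hm) S hfinB
      (fun v => by
        obtain ⟨v, rfl⟩ := Ideal.Quotient.mk_surjective v
        exact Ideal.Quotient.eq_zero_iff_mem.2 (Ideal.mul_mem_right v _ (Ideal.mem_span_singleton_self y))),
      finsum_eq_sum_of_support_subset _ (s := s) ?_]
    · exact Finset.sum_congr rfl fun m _ => by rw [hterm m]
    · intro m hm
      rw [Finset.mem_coe, hfinset.mem_toFinset]
      by_contra hmem
      refine hm ?_
      have hu : IsUnit (algebraMap A (Localization.AtPrime m.asIdeal) x) := by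
        rw [IsScalarTower.algebraMap_apply A B (Localization.AtPrime m.asIdeal)]
        exact IsLocalization.map_units _ (⟨y, hmem⟩ : m.asIdeal.primeCompl)
      haveI : Subsingleton (Localization.AtPrime m.asIdeal ⧸
          Ideal.span ({algebraMap A (Localization.AtPrime m.asIdeal) x} : Set _)) :=
        Ideal.Quotient.subsingleton_iff.2 (Ideal.span_singleton_eq_top.2 hu)
      simp [Module.length_eq_zero]
  refine ⟨?_, hsum ▸ hle, ?_⟩
  · -- finitely many maximal ideals
    have halg : ∀ m : MaximalSpectrum B, m.asIdeal = ⊥ ∨ y ∈ m.asIdeal := by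
      intro m
      by_cases hb : m.asIdeal = ⊥
      · exact Or.inl hb
      obtain ⟨b, hb, hb0⟩ := Submodule.exists_mem_ne_zero_of_ne_bot hb
      haveI : Algebra.IsAlgebraic A L := (IsFractionRing.comap_isAlgebraic_iff (A := A) (K := K) (C := L)).2 inferInstance
      have hba : IsAlgebraic A b :=
        (isAlgebraic_algHom_iff (IsScalarTower.toAlgHom A B L) hf).1 (Algebra.IsAlgebraic.isAlgebraic (f b))
      obtain ⟨r, hr0, hr⟩ := hba.exists_nonzero_dvd (mem_nonZeroDivisors_of_ne_zero hb0)
      obtain ⟨k, hk⟩ : x ∈ (Ideal.span {r}).radical := by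
        rw [Ideal.radical_eq_sInf]
        refine Ideal.mem_sInf.2 fun J ⟨hJ, hJp⟩ => ?_
        haveI := hJp
        have hJ0 : J ≠ ⊥ := fun h => hr0 ((Submodule.mem_bot A).1 (h ▸ hJ (Ideal.mem_span_singleton_self r)))
        haveI : J.IsMaximal := hJp.isMaximal_of_ne_bot hJ0
        rwa [IsLocalRing.eq_maximalIdeal (I := J) inferInstance]
      right
      refine m.isMaximal.isPrime.mem_of_pow_mem k ?_
      rw [← map_pow]
      obtain ⟨c, hc⟩ := Ideal.mem_span_singleton'.1 hk
      rw [← hc, map_mul]
      exact Ideal.mul_mem_left _ _ (Ideal.mem_of_dvd _ hr hb)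
    refine Set.finite_univ_iff.1 (Set.Finite.subset (hfinset.union (Set.Subsingleton.finite
      (s := {m : MaximalSpectrum B | m.asIdeal = ⊥}) fun a ha b hb => MaximalSpectrum.ext (ha.trans hb.symm))) ?_)
    exact fun m _ => (halg m).symm
  rw [hsum]
  -- a spanning family inside `B`
  have hv : ∃ v : Fin (Module.finrank K L) → B, LinearIndependent K (f ∘ v) := by
    haveI : Algebra.IsAlgebraic A L := (IsFractionRing.comap_isAlgebraic_iff (A := A) (K := K) (C := L)).2 inferInstance
    let b := Module.finBasis K L
    have hex : ∀ i, ∃ (z : B) (w : K), w ≠ 0 ∧ f z = w • b i := by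
      intro i
      obtain ⟨⟨z, t⟩, hzt⟩ := IsLocalization.surj (nonZeroDivisors B) (b i)
      have hba : IsAlgebraic A (t : B) :=
        (isAlgebraic_algHom_iff (IsScalarTower.toAlgHom A B L) hf).1 (Algebra.IsAlgebraic.isAlgebraic (f t))
      obtain ⟨r, hr0, u, hu⟩ := hba.exists_nonzero_dvd t.2
      refine ⟨z * u, algebraMap A K r, (map_ne_zero_iff _ (IsFractionRing.injective A K)).2 hr0, ?_⟩
      show algebraMap B L (z * u) = _
      rw [algebraMap_smul, Algebra.smul_def, IsScalarTower.algebraMap_apply A B L, hu, map_mul, map_mul, ← hzt]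
      ring
    choose z w hw0 hz using hex
    refine ⟨z, ?_⟩
    rw [show f ∘ z = (fun i => Units.mk0 (w i) (hw0 i)) • (b : _ → L) from funext fun i => hz i]
    exact b.linearIndependent.units_smul _
  obtain ⟨v, hv⟩ := hv
  constructor
  · intro heq
    have hS : Module.Finite A S := by
      haveI := (isFiniteLength_iff_isNoetherian_isArtinian.1
        (Module.length_ne_top_iff.1 (ne_top_of_le_ne_top hℓ hle))).1
      infer_instance
    obtain ⟨gens, hgens⟩ := hS.fg_top
    let lift : S → B := Function.surjInv Ideal.Quotient.mk_surjective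
    let N : Submodule A B := Submodule.span A (Set.range v ∪ lift '' gens)
    haveI : Module.Finite A N := Module.Finite.iff_fg.2
      (Submodule.fg_span ((Set.finite_range v).union (gens.finite_toSet.image _)))
    let v' : Fin (Module.finrank K L) → N := fun i => ⟨v i, Submodule.subset_span (Or.inl ⟨i, rfl⟩)⟩
    have hN := length_eq_finrank (A := A) (f := f.comp N.subtype) (hf.comp Subtype.val_injective) hx0 v' hv
    let q : N →ₗ[A] S := (Ideal.Quotient.mkₐ A (Ideal.span {y})).toLinearMap.comp N.subtype
    have hq : Function.Surjective q := by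
      rw [← LinearMap.range_eq_top, eq_top_iff, ← hgens, Submodule.span_le]
      intro g hg
      exact ⟨⟨lift g, Submodule.subset_span (Or.inr ⟨g, hg, rfl⟩)⟩, Function.surjInv_eq Ideal.Quotient.mk_surjective g⟩
    have hqle : x • (⊤ : Submodule A N) ≤ LinearMap.ker q := by
      rw [← range_lsmul_eq]
      rintro _ ⟨z, rfl⟩
      exact Ideal.Quotient.eq_zero_iff_mem.2 (show x • (z : B) ∈ Ideal.span {y} by
        rw [Algebra.smul_def]; exact Ideal.mul_mem_right _ _ (Ideal.mem_span_singleton_self y))
    have hker : LinearMap.ker q ≤ x • (⊤ : Submodule A N) := by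
      have e1 := Module.length_eq_add_of_exact ((LinearMap.ker q).map (x • (⊤ : Submodule A N)).mkQ).subtype
        (Submodule.liftQ _ q hqle) (Submodule.injective_subtype _)
        (fun s => by obtain ⟨t, rfl⟩ := hq s; exact ⟨Submodule.Quotient.mk t, rfl⟩)
        (fun t => by
          obtain ⟨t, rfl⟩ := Submodule.Quotient.mk_surjective _ t
          exact ⟨fun h => ⟨⟨_, t, h, rfl⟩, rfl⟩, fun ⟨⟨_, s, hs, rfl⟩, hw⟩ => by rw [← hw]; exact hs⟩)
      rw [hN, heq] at e1
      have h0 : Module.length A ((LinearMap.ker q).map (x • (⊤ : Submodule A N)).mkQ) = 0 :=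
        WithTop.add_right_cancel hℓ (e1.symm.trans (zero_add _).symm)
      rw [Module.length_eq_zero_iff] at h0
      intro t ht
      rw [← Submodule.Quotient.mk_eq_zero (x • (⊤ : Submodule A N))]
      exact congrArg Subtype.val (h0.elim ⟨_, t, ht, rfl⟩ 0)
    have hxinj : ∀ k, ∀ z z' : B, y ^ k * z = y ^ k * z' → z = z' := fun k z z' h =>
      mul_left_cancel₀ (pow_ne_zero k ((map_ne_zero_iff (algebraMap A B) (FaithfulSMul.algebraMap_injective A B)).2 hx0)) h
    -- `N ∩ x^k B = x^k N`
    have hstep : ∀ k (z : B), y ^ k * z ∈ N → z ∈ N := by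
      intro k
      induction k with
      | zero => intro z hz; simpa using hz
      | succ k ih =>
        intro z hz
        have h0 : q ⟨_, hz⟩ = 0 := Ideal.Quotient.eq_zero_iff_mem.2
          (Ideal.mem_span_singleton'.2 ⟨y ^ k * z, show y ^ k * z * y = y ^ (k + 1) * z by ring⟩)
        obtain ⟨w, _, hw⟩ := (Submodule.mem_smul_pointwise_iff_exists _ _ _).1 (hker h0)
        refine ih z ?_
        have hw' : y * (w : B) = y ^ (k + 1) * z := (Algebra.smul_def _ _).symm.trans (congrArg Subtype.val hw)
        rw [show y ^ k * z = (w : B) from hxinj 1 _ _ (by rw [pow_one, hw']; ring)]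
        exact w.2
    refine Module.finite_def.2 ?_
    suffices hN : N = ⊤ by
      rw [← hN]; exact Submodule.fg_span ((Set.finite_range v).union (gens.finite_toSet.image _))
    rw [eq_top_iff]
    intro z _
    show z ∈ N
    haveI : Algebra.IsAlgebraic A L := (IsFractionRing.comap_isAlgebraic_iff (A := A) (K := K) (C := L)).2 inferInstance
    obtain ⟨c, hc⟩ := (Submodule.mem_span_range_iff_exists_fun K).1
      ((hv.span_eq_top_of_card_eq_finrank' (Fintype.card_fin _)) ▸ Submodule.mem_top : f z ∈ _)
    obtain ⟨⟨r, hr⟩, hr'⟩ := IsLocalization.exist_integer_multiples (nonZeroDivisors A) Finset.univ c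
    choose a ha using fun i => hr' i (Finset.mem_univ i)
    obtain ⟨k, hk⟩ : x ∈ (Ideal.span {r}).radical := by
      rw [Ideal.radical_eq_sInf]
      refine Ideal.mem_sInf.2 fun J ⟨hJ, hJp⟩ => ?_
      haveI := hJp
      have hJ0 : J ≠ ⊥ := fun h =>
        nonZeroDivisors.ne_zero hr ((Submodule.mem_bot A).1 (h ▸ hJ (Ideal.mem_span_singleton_self r)))
      haveI : J.IsMaximal := hJp.isMaximal_of_ne_bot hJ0
      rwa [IsLocalRing.eq_maximalIdeal (I := J) inferInstance]
    obtain ⟨d, hd⟩ := Ideal.mem_span_singleton'.1 hk
    have hrz : r • z = ∑ i, a i • v i := hf (by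
      rw [map_smul, map_sum, ← hc, Finset.smul_sum]
      refine Finset.sum_congr rfl fun i _ => ?_
      rw [map_smul, ← algebraMap_smul K (a i), ha i, ← smul_assoc]
      rfl)
    refine hstep k z ?_
    rw [← map_pow, ← hd, ← Algebra.smul_def, mul_smul, hrz]
    exact Submodule.smul_mem _ d (Submodule.sum_mem _ fun i _ =>
      Submodule.smul_mem _ _ (Submodule.subset_span (Or.inl ⟨i, rfl⟩)))
  · intro hfinAB
    exact (length_quot_span x).trans (length_eq_finrank hf hx0 v hv)

end Groth.Agent.Calg46.DimOneBound
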