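import Groth.Agent.Calg46.DimOneBound
import Groth.Agent.ResSurf.Colength
import Mathlib

/-!
# Fibres over the closed point of a one-dimensional local domain in a finite extension of its fraction field
-/

set_option autoImplicit false
set_option linter.style.haveILetI false
universe u

open Pointwise

namespace Groth.Agent.Calg46.FibreDimOne

theorem fibre_finite (R S K L : Type u)
    [CommRing R] [IsDomain R] [IsNoetherianRing R] [IsLocalRing R] (hdim : ringKrullDim R = 1)
    [CommRing S] [IsDomain S] [Algebra R S] [Field K] [Field L] [Algebra R K] [IsFractionRing R K]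
    [Algebra S L] [IsFractionRing S L] [Algebra K L] [Algebra R L] [IsScalarTower R K L]
    [IsScalarTower R S L] [FiniteDimensional K L] :
    (∀ n ∈ (IsLocalRing.maximalIdeal R).primesOver S, n.IsMaximal) ∧
      ((IsLocalRing.maximalIdeal R).primesOver S).Finite ∧
      ∀ n ∈ (IsLocalRing.maximalIdeal R).primesOver S, Module.Finite R (S ⧸ n) := by
  haveI : Ring.KrullDimLE 1 R := Ring.krullDimLE_iff.mpr hdim.le
  obtain ⟨x, hx, hx0⟩ : ∃ x ∈ IsLocalRing.maximalIdeal R, x ≠ 0 :=
    Submodule.exists_mem_ne_zero_of_ne_bot fun h => by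
      have := ringKrullDim_eq_zero_of_isField ((IsLocalRing.isField_iff_maximalIdeal_eq).2 h)
      rw [hdim] at this
      exact one_ne_zero this
  let f : S →ₗ[R] L := (IsScalarTower.toAlgHom R S L).toLinearMap
  let y := algebraMap R S x
  let T := S ⧸ Ideal.span {y}
  let π : S →ₐ[R] T := Ideal.Quotient.mkₐ R _
  have hle : Module.length R (S ⧸ x • (⊤ : Submodule R S)) ≠ ⊤ :=
    ne_top_of_le_ne_top (WithTop.mul_ne_top (ENat.natCast_ne_top _)
      (Module.length_ne_top_iff.2 (isFiniteLength_quotient_span_singleton R (mem_nonZeroDivisors_of_ne_zero hx0))))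
      (DimOneBound.length_le_finrank (K := K) (f := f) (IsFractionRing.injective S L) hx0)
  have hlen : Module.length R T ≠ ⊤ := by
    refine ne_top_of_le_ne_top hle (Module.length_le_of_surjective
      ((x • (⊤ : Submodule R S)).liftQ π.toLinearMap ?_) fun t => ?_)
    · rw [← DimOneBound.range_lsmul_eq]
      rintro _ ⟨z, rfl⟩
      exact Ideal.Quotient.eq_zero_iff_mem.2 (show x • z ∈ Ideal.span {y} by
        rw [Algebra.smul_def]; exact Ideal.mul_mem_right _ _ (Ideal.mem_span_singleton_self y))
    · obtain ⟨t, rfl⟩ := Ideal.Quotient.mk_surjective t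
      exact ⟨Submodule.Quotient.mk t, rfl⟩
  obtain ⟨hnoeth, hart⟩ := isFiniteLength_iff_isNoetherian_isArtinian.1 (Module.length_ne_top_iff.1 hlen)
  haveI : Module.Finite R T := inferInstance
  haveI : IsArtinianRing T := isArtinian_of_tower R hart
  have key : ∀ n ∈ (IsLocalRing.maximalIdeal R).primesOver S, y ∈ n ∧ n.IsMaximal ∧ Module.Finite R (S ⧸ n) := by
    rintro n ⟨hn, hover⟩
    haveI := hn
    have hy : y ∈ n := by rw [hover.over] at hx; exact hx
    have hle' : Ideal.span {y} ≤ n := (Ideal.span_singleton_le_iff_mem _).2 hy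
    let g : T →ₐ[R] S ⧸ n := Ideal.Quotient.factorₐ R hle'
    have hg : Function.Surjective g := Ideal.Quotient.factor_surjective hle'
    haveI : IsArtinianRing (S ⧸ n) := Function.Surjective.isArtinianRing (f := g.toRingHom) hg
    exact ⟨hy, Ideal.Quotient.maximal_of_isField _ (IsArtinianRing.isField_of_isDomain _),
      Module.Finite.of_surjective g.toLinearMap hg⟩
  refine ⟨fun n hn => (key n hn).2.1, ?_, fun n hn => (key n hn).2.2⟩
  refine Set.Finite.subset ((Set.finite_univ (α := PrimeSpectrum T)).image
    fun p => p.asIdeal.comap (Ideal.Quotient.mk (Ideal.span {y}))) fun n hn => ?_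
  haveI := hn.1
  have hker : RingHom.ker (Ideal.Quotient.mk (Ideal.span {y})) ≤ n := by
    rw [Ideal.mk_ker]; exact (Ideal.span_singleton_le_iff_mem _).2 (key n hn).1
  haveI := Ideal.map_isPrime_of_surjective Ideal.Quotient.mk_surjective hker
  exact ⟨⟨n.map (Ideal.Quotient.mk _), inferInstance⟩, trivial, by
    show Ideal.comap _ (Ideal.map _ n) = n
    rw [Ideal.comap_map_of_surjective _ Ideal.Quotient.mk_surjective, ← RingHom.ker_eq_comap_bot, sup_eq_left.2 hker]⟩

theorem primesOver_finite_height_one (A B : Type u) [CommRing A] [IsDomain A]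
    [IsNoetherianRing A] [CommRing B] [IsDomain B] [Algebra A B] [FaithfulSMul A B]
    [Algebra.FiniteType A B] [Algebra.IsAlgebraic A B] (p : Ideal A) [p.IsPrime] (hp : p.height = 1) :
    (p.primesOver B).Finite ∧ ∀ q ∈ p.primesOver B, q.height = 1 := by
  let W := Algebra.algebraMapSubmonoid B p.primeCompl
  let Ap := Localization.AtPrime p
  let Bp := Localization W
  let L := FractionRing B
  let K := FractionRing A
  have hinj : Function.Injective (algebraMap A B) := FaithfulSMul.algebraMap_injective A B
  have hW : W ≤ nonZeroDivisors B := by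
    rintro _ ⟨a, ha, rfl⟩
    exact mem_nonZeroDivisors_of_ne_zero ((map_ne_zero_iff _ hinj).2 fun h => ha (h ▸ p.zero_mem))
  haveI : IsDomain Bp := IsLocalization.isDomain_localization hW
  haveI : IsDomain Ap := inferInstance
  haveI : IsNoetherianRing Ap := inferInstance
  letI : Algebra Bp L := (IsLocalization.lift (M := W) (S := Bp) (g := algebraMap B L)
    fun w => IsLocalization.map_units L (⟨w, hW w.2⟩ : nonZeroDivisors B)).toAlgebra
  haveI : IsScalarTower B Bp L := IsScalarTower.of_algebraMap_eq fun b => by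
    rw [RingHom.algebraMap_toAlgebra, IsLocalization.lift_eq]
  haveI : IsFractionRing Bp L := IsFractionRing.isFractionRing_of_isDomain_of_isLocalization W Bp L
  letI : Algebra Ap K := (IsLocalization.lift (M := p.primeCompl) (S := Ap) (g := algebraMap A K)
    fun w => IsLocalization.map_units K (⟨w, p.primeCompl_le_nonZeroDivisors w.2⟩ : nonZeroDivisors A)).toAlgebra
  haveI : IsScalarTower A Ap K := IsScalarTower.of_algebraMap_eq fun a => by
    rw [RingHom.algebraMap_toAlgebra, IsLocalization.lift_eq]
  haveI : IsFractionRing Ap K := IsFractionRing.isFractionRing_of_isDomain_of_isLocalization p.primeCompl Ap K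
  letI : Algebra K L := FractionRing.liftAlgebra A L
  letI : Algebra Ap Bp := localizationAlgebra p.primeCompl B
  haveI : IsScalarTower A Ap Bp := IsScalarTower.of_algebraMap_eq fun a => by
    rw [RingHom.algebraMap_toAlgebra, IsLocalization.map_eq]; rfl
  letI : Algebra Ap L := ((algebraMap Bp L).comp (algebraMap Ap Bp)).toAlgebra
  haveI : IsScalarTower Ap Bp L := IsScalarTower.of_algebraMap_eq fun _ => rfl
  haveI : IsScalarTower A Bp L := IsScalarTower.to₁₃₄ A B Bp L
  haveI : IsScalarTower A Ap L := IsScalarTower.of_algebraMap_eq fun a => by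
    rw [RingHom.algebraMap_toAlgebra, RingHom.comp_apply, ← IsScalarTower.algebraMap_apply A Ap Bp,
      ← IsScalarTower.algebraMap_apply A Bp L]
  haveI : IsScalarTower Ap K L := IsScalarTower.of_algebraMap_eq' <| IsLocalization.ringHom_ext p.primeCompl <| by
    ext a
    simp only [RingHom.comp_apply, ← IsScalarTower.algebraMap_apply A Ap L, ← IsScalarTower.algebraMap_apply A Ap K,
      ← IsScalarTower.algebraMap_apply A K L]
  haveI : Algebra.IsAlgebraic B L := IsLocalization.isAlgebraic L (nonZeroDivisors B)
  haveI : Algebra.IsAlgebraic A L := Algebra.IsAlgebraic.trans A B L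
  haveI : Algebra.IsAlgebraic K L := (IsFractionRing.comap_isAlgebraic_iff (A := A) (K := K) (C := L)).1 inferInstance
  haveI : Algebra.EssFiniteType B L := Algebra.EssFiniteType.of_isLocalization L (nonZeroDivisors B)
  haveI : Algebra.EssFiniteType A L := Algebra.EssFiniteType.comp A B L
  haveI : Algebra.EssFiniteType K L := Algebra.EssFiniteType.of_comp A K L
  haveI : FiniteDimensional K L := Algebra.finite_of_essFiniteType_of_isAlgebraic
  obtain ⟨h1, h2, -⟩ := fibre_finite Ap Bp K L (by
    rw [IsLocalization.AtPrime.ringKrullDim_eq_height p, hp]; rfl)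
  -- primes over `p` are primes over the maximal ideal of the localization
  have hdisj : ∀ q ∈ p.primesOver B, Disjoint (W : Set B) q := by
    rintro q ⟨-, hover⟩
    rw [Set.disjoint_left]
    rintro _ ⟨a, ha, rfl⟩ hq
    exact ha (hover.over ▸ hq)
  have hmap : ∀ q ∈ p.primesOver B, q.map (algebraMap B Bp) ∈ (IsLocalRing.maximalIdeal Ap).primesOver Bp := by
    intro q hq
    haveI := hq.1
    haveI hQ : (q.map (algebraMap B Bp)).IsPrime :=
      IsLocalization.isPrime_of_isPrime_disjoint W Bp q inferInstance (hdisj q hq)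
    refine ⟨hQ, ⟨?_⟩⟩
    rw [← IsLocalization.map_comap p.primeCompl Ap (IsLocalRing.maximalIdeal Ap),
      ← IsLocalization.map_comap p.primeCompl Ap (Ideal.under Ap (q.map (algebraMap B Bp)))]
    congr 1
    rw [IsLocalization.AtPrime.comap_maximalIdeal Ap p, Ideal.under, Ideal.comap_comap, ← IsScalarTower.algebraMap_eq,
      IsScalarTower.algebraMap_eq A B Bp, ← Ideal.comap_comap,
      show Ideal.comap (algebraMap B Bp) (Ideal.map (algebraMap B Bp) q) = q from
        IsLocalization.under_map_of_isPrime_disjoint W Bp inferInstance (hdisj q hq)]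
    exact hq.2.over
  refine ⟨Set.Finite.of_finite_image (f := Ideal.map (algebraMap B Bp)) (h2.subset (by rintro _ ⟨q, hq, rfl⟩; exact hmap q hq))
    fun q hq q' hq' h => ?_, fun q hq => ?_⟩
  · haveI := hq.1
    haveI := hq'.1
    rw [← IsLocalization.comap_map_of_isPrime_disjoint W Bp inferInstance (hdisj q hq),
      ← IsLocalization.comap_map_of_isPrime_disjoint W Bp inferInstance (hdisj q' hq')]
    exact congrArg _ h
  · haveI := hq.1
    have hbot : ∀ q' : Ideal B, q'.IsPrime → q'.comap (algebraMap A B) = ⊥ → q' = ⊥ := by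
      intro q' hq' h
      by_contra hne
      obtain ⟨b, hb, hb0⟩ := Submodule.exists_mem_ne_zero_of_ne_bot hne
      obtain ⟨r, hr0, hr⟩ :=
        (Algebra.IsAlgebraic.isAlgebraic (R := A) b).exists_nonzero_dvd (mem_nonZeroDivisors_of_ne_zero hb0)
      exact hr0 ((Submodule.mem_bot A).1 (h ▸ (Ideal.mem_comap.2 (Ideal.mem_of_dvd _ hr hb) : r ∈ q'.comap (algebraMap A B))))
    have hqne : q ≠ ⊥ := fun h => by
      have : p = ⊥ := by rw [hq.2.over, h]; exact Ideal.comap_bot_of_injective _ hinj
      rw [this, Ideal.height_bot] at hp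
      exact zero_ne_one hp
    refine le_antisymm ?_ (Order.one_le_iff_pos.2 (pos_iff_ne_zero.2 fun h => hqne ?_))
    · show q.height ≤ ((1 : ℕ) : ℕ∞)
      rw [Ideal.height_le_iff]
      intro q' hq' hlt
      have hle : q'.comap (algebraMap A B) ≤ p := hq.2.over ▸ Ideal.comap_mono hlt.le
      rcases eq_or_lt_of_le hle with heq | hlt'
      · exfalso
        have hq'mem : q' ∈ p.primesOver B := ⟨hq', ⟨heq.symm⟩⟩
        haveI := hq'
        have e := (h1 _ (hmap q' hq'mem)).eq_of_le (hmap q hq).1.ne_top (Ideal.map_mono hlt.le)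
        refine hlt.ne ?_
        rw [← IsLocalization.comap_map_of_isPrime_disjoint W Bp inferInstance (hdisj q' hq'mem), e,
          IsLocalization.comap_map_of_isPrime_disjoint W Bp inferInstance (hdisj q hq)]
      · have h0 : (q'.comap (algebraMap A B)).height < 1 := hp ▸ Ideal.height_strict_mono_of_isPrime_of_isPrime hlt'
        rw [ENat.lt_one_iff_eq_zero, Ideal.height_eq_zero_iff] at h0
        rw [IsDomain.minimalPrimes_eq_singleton_bot, Set.mem_singleton_iff] at h0
        rw [hbot q' hq' h0, Ideal.height_bot]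
        exact zero_lt_one
    · rw [Ideal.height_eq_zero_iff, IsDomain.minimalPrimes_eq_singleton_bot] at h
      exact h

end Groth.Agent.Calg46.FibreDimOne
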