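import Mathlib

/-!
# Identifying the algebraic closure of a function field with a large ground field
-/

noncomputable section

namespace Groth.Agent.Calg46

universe u

open Cardinal TensorProduct

/-- Two algebraically closed extensions with bases of the same size are isomorphic over the base. -/
theorem exists_ringEquiv_of_trdeg_eq (R K L : Type u) [CommRing R] [IsDomain R] [Field K] [Field L]
    [IsAlgClosed K] [IsAlgClosed L] [Algebra R K] [Algebra R L] [FaithfulSMul R K] [FaithfulSMul R L]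
    (h : Algebra.trdeg R K = Algebra.trdeg R L) :
    ∃ e : K ≃+* L, ∀ r : R, e (algebraMap R K r) = algebraMap R L r := by
  obtain ⟨ι, v, hv⟩ := exists_isTranscendenceBasis' R K
  obtain ⟨κ, w, hw⟩ := exists_isTranscendenceBasis' R L
  obtain ⟨eι⟩ := Cardinal.eq.1 (hv.cardinalMk_eq_trdeg.trans (h.trans hw.cardinalMk_eq_trdeg.symm))
  have := IsAlgClosed.isAlgClosure_of_transcendence_basis v hv
  have := IsAlgClosed.isAlgClosure_of_transcendence_basis w hw
  let a : Algebra.adjoin R (Set.range v) ≃ₐ[R] Algebra.adjoin R (Set.range w) :=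
    hv.1.aevalEquiv.symm.trans ((MvPolynomial.renameEquiv R eι).trans hw.1.aevalEquiv)
  refine ⟨IsAlgClosure.equivOfEquiv K L a.toRingEquiv, fun r => ?_⟩
  rw [IsScalarTower.algebraMap_apply R (Algebra.adjoin R (Set.range v)) K,
    IsAlgClosure.equivOfEquiv_algebraMap, IsScalarTower.algebraMap_apply R (Algebra.adjoin R (Set.range w)) L]
  exact congrArg _ (a.commutes r)

/-- Two algebraically closed fields of the same infinite transcendence degree over `k₀`. -/
theorem exists_ringEquiv_of_algHom (k₀ R₀ K L : Type u) [Field k₀] [CommRing R₀] [IsDomain R₀]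
    [Algebra k₀ R₀] [Algebra.FiniteType k₀ R₀] [Field K] [Field L] [IsAlgClosed K] [IsAlgClosed L]
    [Algebra k₀ K] [Algebra k₀ L] (i : R₀ →ₐ[k₀] K) (hi : Function.Injective i)
    (j : R₀ →ₐ[k₀] L) (hj : Function.Injective j) (hκ : ℵ₀ ≤ Algebra.trdeg k₀ L)
    (h : Algebra.trdeg k₀ K = Algebra.trdeg k₀ L) :
    ∃ e : K ≃+* L, ∀ r : R₀, e (i r) = j r := by
  let : Algebra R₀ K := i.toRingHom.toAlgebra
  let : Algebra R₀ L := j.toRingHom.toAlgebra
  have : IsScalarTower k₀ R₀ K := IsScalarTower.of_algebraMap_eq fun a => (i.commutes a).symm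
  have : IsScalarTower k₀ R₀ L := IsScalarTower.of_algebraMap_eq fun a => (j.commutes a).symm
  have : FaithfulSMul R₀ K := (faithfulSMul_iff_algebraMap_injective _ _).2 hi
  have : FaithfulSMul R₀ L := (faithfulSMul_iff_algebraMap_injective _ _).2 hj
  have : FaithfulSMul k₀ R₀ := (faithfulSMul_iff_algebraMap_injective _ _).2 (algebraMap k₀ R₀).injective
  have hn : Algebra.trdeg k₀ R₀ < ℵ₀ := trdeg_lt_aleph0_of_finiteType
  have hL : Algebra.trdeg R₀ L = Algebra.trdeg k₀ L :=
    Cardinal.eq_of_add_eq_of_aleph0_le (trdeg_add_eq k₀ R₀) (hn.trans_le hκ) hκ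
  have hK : Algebra.trdeg R₀ K = Algebra.trdeg k₀ L :=
    Cardinal.eq_of_add_eq_of_aleph0_le ((trdeg_add_eq k₀ R₀).trans h) (hn.trans_le hκ) hκ
  exact exists_ringEquiv_of_trdeg_eq R₀ K L (hK.trans hL.symm)

theorem exists_ringEquiv_extends (k₀ k : Type u)
    [Field k₀] [Field k] [Algebra k₀ k] [IsAlgClosed k] (hinf : ∃ x : ℕ → k, AlgebraicIndependent k₀ x)
    (R₀ : Type u) [CommRing R₀] [Algebra k₀ R₀] [Algebra.FiniteType k₀ R₀] [IsDomain (k ⊗[k₀] R₀)]
    (ev : k ⊗[k₀] R₀ →ₐ[k] k) (hP : Function.Injective fun r : R₀ => ev (1 ⊗ₜ[k₀] r)) :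
    ∃ e : AlgebraicClosure (FractionRing (k ⊗[k₀] R₀)) ≃+* k,
      ∀ r : R₀, e (algebraMap (k ⊗[k₀] R₀) (AlgebraicClosure (FractionRing (k ⊗[k₀] R₀)))
        (1 ⊗ₜ[k₀] r)) = ev (1 ⊗ₜ[k₀] r) := by
  let R := k ⊗[k₀] R₀
  let F := FractionRing R
  let L := AlgebraicClosure F
  let i : R₀ →ₐ[k₀] R := Algebra.TensorProduct.includeRight
  let j : R₀ →ₐ[k₀] k := (ev.restrictScalars k₀).comp i
  have hj : Function.Injective j := hP
  have hi : Function.Injective i := fun a b hab => hP (congrArg ev hab)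
  have : IsDomain R₀ := hj.isDomain (j : R₀ →+* k)
  have hRL : Function.Injective (algebraMap R L) := by
    rw [IsScalarTower.algebraMap_eq R F L]
    exact (algebraMap F L).injective.comp (IsFractionRing.injective R F)
  obtain ⟨x, hx⟩ := hinf
  have hκ : ℵ₀ ≤ Algebra.trdeg k₀ k := by
    have := hx.lift_cardinalMk_le_trdeg
    simpa using this
  have : FaithfulSMul k R := (faithfulSMul_iff_algebraMap_injective _ _).2 (algebraMap k R).injective
  have : FaithfulSMul R L := (faithfulSMul_iff_algebraMap_injective _ _).2 hRL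
  have hd : Algebra.trdeg k R < ℵ₀ := trdeg_lt_aleph0_of_finiteType
  have hRL0 : Algebra.trdeg R L = 0 := by
    have : Algebra.IsAlgebraic R F := IsLocalization.isAlgebraic F (nonZeroDivisors R)
    have : Algebra.IsAlgebraic R L := Algebra.IsAlgebraic.trans R F L
    exact trdeg_eq_zero
  have hkL : Algebra.trdeg k L < ℵ₀ := by
    rw [← trdeg_add_eq k R (A := L), hRL0, add_zero]
    exact hd
  have hL0 : Algebra.trdeg k₀ L = Algebra.trdeg k₀ k := by
    rw [← trdeg_add_eq k₀ k (A := L)]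
    exact Cardinal.add_eq_left hκ (hkL.le.trans hκ)
  exact exists_ringEquiv_of_algHom k₀ R₀ L k (((IsScalarTower.toAlgHom k R L).restrictScalars k₀).comp i)
    (fun a b hab => hi (hRL hab)) j hj hκ hL0

end Groth.Agent.Calg46
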