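import Mathlib

/-!
# Differentials of separably generated field extensions
-/

set_option autoImplicit false
set_option linter.style.haveILetI false
universe u v

namespace Groth.Agent.Calg46.FieldOmega

open scoped IntermediateField.algebraAdjoinAdjoin TensorProduct

variable {k : Type u} {K : Type v} [Field k] [Field K] [Algebra k K]

theorem exists_basis_D {ι : Type v} (x : ι → K) (hx : AlgebraicIndependent k x)
    (hsep : Algebra.IsSeparable (IntermediateField.adjoin k (Set.range x)) K) :
    ∃ b : Module.Basis ι K (Ω[K⁄k]), ∀ i, b i = KaehlerDifferential.D k K (x i) := by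
  let A := Algebra.adjoin k (Set.range x)
  let M := IntermediateField.adjoin k (Set.range x)
  have : Algebra.FormallyEtale A M := Algebra.FormallyEtale.of_isLocalization (nonZeroDivisors A)
  have : Algebra.FormallyEtale M K := Algebra.FormallyEtale.of_isSeparable _ K
  have : Algebra.FormallyEtale A K := Algebra.FormallyEtale.comp A M K
  let ev : MvPolynomial ι k ≃ₐ[k] A := hx.aevalEquiv
  letI : Algebra (MvPolynomial ι k) A := ev.toAlgHom.toRingHom.toAlgebra
  letI : Algebra (MvPolynomial ι k) K := ((algebraMap A K).comp ev.toAlgHom.toRingHom).toAlgebra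
  haveI : IsScalarTower (MvPolynomial ι k) A K := IsScalarTower.of_algebraMap_eq' rfl
  haveI : IsScalarTower k (MvPolynomial ι k) K := IsScalarTower.of_algebraMap_eq fun r => by
    show algebraMap k K r = algebraMap A K (ev (algebraMap k _ r))
    rw [ev.commutes, ← IsScalarTower.algebraMap_apply k A K]
  haveI : Algebra.FormallyEtale (MvPolynomial ι k) A :=
    Algebra.FormallyEtale.of_equiv
      ({ ev with commutes' := fun r => rfl } : MvPolynomial ι k ≃ₐ[MvPolynomial ι k] A)
  haveI : Algebra.FormallyEtale (MvPolynomial ι k) K := Algebra.FormallyEtale.comp _ A K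
  refine ⟨((KaehlerDifferential.mvPolynomialBasis k ι).baseChange K).map
      (KaehlerDifferential.tensorKaehlerEquivOfFormallyEtale k (MvPolynomial ι k) K), fun i => ?_⟩
  rw [Module.Basis.map_apply, Module.Basis.baseChange_apply,
    KaehlerDifferential.mvPolynomialBasis_apply,
    KaehlerDifferential.tensorKaehlerEquivOfFormallyEtale_apply,
    KaehlerDifferential.mapBaseChange_tmul, one_smul, KaehlerDifferential.map_D]
  congr 1
  show algebraMap A K (ev (MvPolynomial.X i)) = x i
  simp [ev, A]

theorem isSeparable_of_subsingleton_kaehler (L : Type v) [Field L] [Algebra L K]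
    [Algebra.EssFiniteType L K] [Subsingleton (Ω[K⁄L])] : Algebra.IsSeparable L K := by
  haveI : Algebra.FormallyUnramified L K := ⟨inferInstance⟩
  exact Algebra.FormallyUnramified.isSeparable L K

theorem isSeparable_of_span [Algebra.EssFiniteType k K] {ι : Type v} (x : ι → K)
    (hspan : Submodule.span K (Set.range fun i => KaehlerDifferential.D k K (x i)) = ⊤) :
    Algebra.IsSeparable (IntermediateField.adjoin k (Set.range x)) K := by
  let M := IntermediateField.adjoin k (Set.range x)
  haveI : Algebra.EssFiniteType M K := Algebra.EssFiniteType.of_comp k M K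
  haveI : Subsingleton (Ω[K⁄M]) := by
    have hs := KaehlerDifferential.map_surjective k M K
    refine ⟨fun a b => ?_⟩
    suffices h : ∀ a : Ω[K⁄M], a = 0 by rw [h a, h b]
    intro a
    obtain ⟨a, rfl⟩ := hs a
    have ha : a ∈ Submodule.span K (Set.range fun i => KaehlerDifferential.D k K (x i)) :=
      hspan ▸ Submodule.mem_top
    induction ha using Submodule.span_induction with
    | mem y hy =>
      obtain ⟨i, rfl⟩ := hy
      rw [KaehlerDifferential.map_D]
      have : (algebraMap K K) (x i) = algebraMap M K ⟨x i, IntermediateField.subset_adjoin k _ ⟨i, rfl⟩⟩ := rfl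
      rw [this, Derivation.map_algebraMap]
    | zero => simp
    | add y z _ _ hy hz => simp [hy, hz]
    | smul c y _ hy => simp [hy]
  exact isSeparable_of_subsingleton_kaehler M

theorem rank_kaehler [PerfectField k] [Algebra.EssFiniteType k K] (d : ℕ) (x : Fin d → K)
    (hx : IsTranscendenceBasis k x) : Module.rank K (Ω[K⁄k]) = d := by
  obtain ⟨s, hs, H⟩ := exists_isTranscendenceBasis_and_isSeparable_of_perfectField k K
  have H' : Algebra.IsSeparable (IntermediateField.adjoin k (Set.range ((↑) : s → K))) K := by
    convert! H <;> simp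
  obtain ⟨b, -⟩ := exists_basis_D _ hs.1 H'
  rw [← b.mk_eq_rank'', Cardinal.mk_fintype, Fintype.card_coe]
  have h1 := hs.lift_cardinalMk_eq_trdeg
  have h2 := hx.lift_cardinalMk_eq_trdeg
  simp only [Cardinal.mk_fintype, Fintype.card_coe, Fintype.card_fin, Cardinal.lift_natCast,
    Cardinal.lift_id] at h1 h2
  have h3 : (s.card : Cardinal.{v}) = d := by
    rw [← Cardinal.lift_inj.{v, v}]
    simp only [Cardinal.lift_natCast]
    simp_all
  exact h3

theorem dimension_one_map (L : Type v) [Field L] [Algebra k L] [Algebra K L]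
    [IsScalarTower k K L] [PerfectField k] [Algebra.EssFiniteType k K] [FiniteDimensional K L]
    (z : K) (hz : IsTranscendenceBasis k (fun _ : Fin 1 => z)) :
    (KaehlerDifferential.map k k K L = 0 ∨ Function.Injective (KaehlerDifferential.map k k K L)) ∧
      (Function.Injective (KaehlerDifferential.map k k K L) ↔ Algebra.IsSeparable K L) := by
  haveI : Algebra.EssFiniteType k L := Algebra.EssFiniteType.comp k K L
  haveI : Algebra.IsAlgebraic K L := Algebra.IsAlgebraic.of_finite K L
  have hzL : IsTranscendenceBasis k (fun _ : Fin 1 => algebraMap K L z) :=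
    hz.algebraMap_comp
  have hK := rank_kaehler 1 _ hz
  have hL := rank_kaehler 1 _ hzL
  rw [Nat.cast_one] at hK hL
  have hKf : Module.finrank K (Ω[K⁄k]) = 1 := Module.finrank_eq_of_rank_eq (by simpa using hK)
  have hLf : Module.finrank L (Ω[L⁄k]) = 1 := Module.finrank_eq_of_rank_eq (by simpa using hL)
  obtain ⟨ω, hω, hωs⟩ := finrank_eq_one_iff'.1 hKf
  set f := KaehlerDifferential.map k k K L with hf
  have hinj : f ω ≠ 0 → Function.Injective f := by
    intro h
    rw [injective_iff_map_eq_zero]
    intro w hw
    obtain ⟨c, rfl⟩ := hωs w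
    rw [map_smul, smul_eq_zero] at hw
    rw [hw.resolve_right h, zero_smul]
  refine ⟨?_, ⟨fun hi => ?_, fun hs => ?_⟩⟩
  · by_cases h : f ω = 0
    · exact Or.inl (LinearMap.ext fun w => by obtain ⟨c, rfl⟩ := hωs w; simp [h])
    · exact Or.inr (hinj h)
  · have h : f ω ≠ 0 := (map_ne_zero_iff f hi).2 hω
    have hsurj : Function.Surjective (KaehlerDifferential.mapBaseChange k K L) := by
      intro w
      obtain ⟨c, rfl⟩ := (finrank_eq_one_iff_of_nonzero' (f ω) h).1 hLf w
      exact ⟨c ⊗ₜ ω, KaehlerDifferential.mapBaseChange_tmul k K L c ω⟩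
    haveI : Subsingleton (Ω[L⁄K]) := by
      refine ⟨fun a b => ?_⟩
      suffices h : ∀ a : Ω[L⁄K], a = 0 by rw [h a, h b]
      intro a
      obtain ⟨a, rfl⟩ := KaehlerDifferential.map_surjective k K L a
      exact (KaehlerDifferential.exact_mapBaseChange_map k K L a).2 (hsurj a)
    exact isSeparable_of_subsingleton_kaehler K
  · haveI : Algebra.FormallyEtale K L := Algebra.FormallyEtale.of_isSeparable K L
    refine hinj fun h0 => ?_
    have h1 : KaehlerDifferential.tensorKaehlerEquivOfFormallyEtale k K L ((1 : L) ⊗ₜ[K] ω) = 0 := by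
      rw [KaehlerDifferential.tensorKaehlerEquivOfFormallyEtale_apply,
        KaehlerDifferential.mapBaseChange_tmul, one_smul]
      exact h0
    rw [LinearEquiv.map_eq_zero_iff] at h1
    exact hω ((Module.FaithfullyFlat.one_tmul_eq_zero_iff _ _ (A := L) ω).1 h1)

end Groth.Agent.Calg46.FieldOmega
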