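import Groth.Agent.FlatSyz5.Colim
import Groth.Agent.CAlgOdd.FlatDescFinite

/-!
# Descent of flatness along injective integral maps
-/

set_option autoImplicit false
set_option linter.style.haveILetI false

universe u

open MvPolynomial TensorProduct

namespace Groth.Agent.Calg46.FlatIntegral

open FlatModel FlatStrat

/-- The Noetherian step. -/
theorem descend {a n : ℕ} {R₀ R₁ S₁ S₂ A₀ : Type u} [CommRing R₀] [CommRing R₁] [CommRing S₁] [CommRing S₂]
    [CommRing A₀] [Algebra R₀ R₁] [Algebra R₀ S₁] [Algebra R₀ S₂] [Algebra R₀ A₀] [Algebra R₁ S₂] [Algebra S₁ S₂]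
    [Algebra R₁ A₀] [IsScalarTower R₀ R₁ S₂] [IsScalarTower R₀ S₁ S₂] [IsScalarTower R₀ R₁ A₀]
    [IsNoetherianRing R₁] [Module.Finite R₁ S₂] (K₀ : Submodule (MvPolynomial (Fin n) R₀) (V a n R₀))
    (hS₁ : FlatC K₀ S₁) (hinj : Function.Injective (algebraMap R₁ S₂)) : Module.Flat A₀ (Quot' K₀ A₀) := by
  haveI : IsNoetherianRing S₂ := IsNoetherianRing.of_finite R₁ S₂
  obtain ⟨e₁⟩ := nonempty_quot_baseChange (R := S₁) (R' := S₂) K₀
  obtain ⟨e₂⟩ := nonempty_quot_baseChange (R := R₁) (R' := S₂) K₀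
  obtain ⟨e⟩ := nonempty_quot_baseChange (R := R₁) (R' := A₀) K₀
  haveI : Module.Flat S₁ (Quot' K₀ S₁) :=
    haveI := (flatC_iff_flat K₀).1 hS₁
    Module.Flat.of_linearEquiv (Submodule.Quotient.restrictScalarsEquiv S₁ (KK K₀ S₁))
  haveI : Module.Flat S₂ (S₂ ⊗[R₁] Quot' K₀ R₁) := Module.Flat.of_linearEquiv (e₂.trans e₁.symm)
  haveI : Module.Flat R₁ (Quot' K₀ R₁) := CAlgOdd.FlatDesc.flat_of_finite_injective (Quot' K₀ R₁) S₂ hinj
  exact Module.Flat.of_linearEquiv e.symm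

/-- Flatness of a finitely presented module over a polynomial ring descends along injective integral maps. -/
theorem flat_of_flat_integral (A₀ A : Type u) [CommRing A₀] [CommRing A] [Algebra A₀ A]
    [Algebra.IsIntegral A₀ A] (hinj : Function.Injective (algebraMap A₀ A)) (n : ℕ)
    (M₀ : Type u) [AddCommGroup M₀] [Module (MvPolynomial (Fin n) A₀) M₀] [Module A₀ M₀]
    [IsScalarTower A₀ (MvPolynomial (Fin n) A₀) M₀] [Module.FinitePresentation (MvPolynomial (Fin n) A₀) M₀]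
    (hflat : Module.Flat A (A ⊗[A₀] M₀)) : Module.Flat A₀ M₀ := by
  classical
  obtain ⟨a, π, hπ⟩ := Module.Finite.exists_fin' (MvPolynomial (Fin n) A₀) M₀
  obtain ⟨S, hS⟩ := Module.FinitePresentation.fg_ker π hπ
  let c : Finset A₀ := S.biUnion fun v => Finset.univ.biUnion fun i => (v i).coeffs
  let R₀ : Subalgebra ℤ A₀ := Algebra.adjoin ℤ (c : Set A₀)
  have : Algebra.FiniteType ℤ R₀ := (Subalgebra.fg_iff_finiteType R₀).1 (Subalgebra.fg_adjoin_finset c)
  have : IsNoetherianRing R₀ := Algebra.FiniteType.isNoetherianRing ℤ R₀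
  have hGdesc : ∀ v ∈ S, ∃ w : V a n R₀, mapV (algebraMap R₀ A₀) w = v := by
    intro v hv
    have : ∀ i, ∃ q : MvPolynomial (Fin n) R₀, MvPolynomial.map (algebraMap R₀ A₀) q = v i := fun i =>
      MvPolynomial.mem_range_map_iff_coeffs_subset.2 fun x hx =>
        ⟨⟨x, Algebra.subset_adjoin (Finset.mem_biUnion.2 ⟨v, hv, Finset.mem_biUnion.2 ⟨i, Finset.mem_univ _, hx⟩⟩)⟩, rfl⟩
    choose w hw using this
    exact ⟨w, funext hw⟩
  choose! lv hlv using hGdesc
  let K₀ : Submodule (MvPolynomial (Fin n) R₀) (V a n R₀) := Submodule.span _ (lv '' S)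
  have hker : LinearMap.ker π = KK K₀ A₀ := by
    apply le_antisymm
    · rw [← hS, Submodule.span_le]
      intro v hv
      exact Submodule.subset_span ⟨lv v, Submodule.subset_span ⟨v, hv, rfl⟩, hlv v hv⟩
    · rw [KK, Submodule.span_le]
      rintro _ ⟨w, hw, rfl⟩
      refine Submodule.span_le.2 ?_ (mapV_mem_span (algebraMap R₀ A₀) hw)
      rintro _ ⟨w, ⟨v, hv, rfl⟩, rfl⟩
      rw [hlv v hv]
      exact hS.le (Submodule.subset_span hv)
  let eM : Quot' K₀ A₀ ≃ₗ[A₀] M₀ := (Submodule.quotEquivOfEq _ (LinearMap.ker (π.restrictScalars A₀))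
    (by rw [LinearMap.ker_restrictScalars, hker])).trans ((π.restrictScalars A₀).quotKerEquivOfSurjective hπ)
  obtain ⟨eA⟩ := nonempty_quot_baseChange (R := A₀) (R' := A) K₀
  have hF : FlatC K₀ A := (flatC_iff_flat K₀).2 (by
    haveI := hflat
    haveI : Module.Flat A (Quot' K₀ A) := Module.Flat.of_linearEquiv (eA.symm.trans (eM.baseChange A₀ A _ _))
    exact Module.Flat.of_linearEquiv (Submodule.Quotient.restrictScalarsEquiv A (KK K₀ A)).symm)
  obtain ⟨S₁, hS₁, hS₁F⟩ := exists_fg_flatC K₀ hF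
  obtain ⟨T, hT⟩ := hS₁
  -- monic equations of the generators
  choose P hP hPt using fun t : A => Algebra.IsIntegral.isIntegral (R := A₀) t
  let c' : Finset A₀ := T.biUnion fun t => (P t).coeffs
  let R₁ : Subalgebra R₀ A₀ := Algebra.adjoin R₀ (c' : Set A₀)
  haveI : Algebra.FiniteType R₀ R₁ := (Subalgebra.fg_iff_finiteType R₁).1 (Subalgebra.fg_adjoin_finset c')
  haveI : IsNoetherianRing R₁ := Algebra.FiniteType.isNoetherianRing R₀ R₁
  let S₂ : Subalgebra R₁ A := Algebra.adjoin R₁ (T : Set A)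
  have hint : ∀ t ∈ (T : Set A), IsIntegral R₁ t := by
    intro t ht
    obtain ⟨Q, hQ, -, hQm⟩ := Polynomial.lifts_and_natDegree_eq_and_monic
      (f := algebraMap R₁ A₀) (p := P t) (by
        rw [Polynomial.lifts_iff_coeff_lifts]
        intro i
        by_cases hi : (P t).coeff i = 0
        · exact ⟨0, by rw [map_zero, hi]⟩
        · exact ⟨⟨_, Algebra.subset_adjoin (Finset.mem_biUnion.2 ⟨t, ht,
            Polynomial.coeff_mem_coeffs hi⟩)⟩, rfl⟩) (hP t)
    refine ⟨Q, hQm, ?_⟩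
    rw [IsScalarTower.algebraMap_eq R₁ A₀ A, ← Polynomial.eval₂_map, hQ]
    exact hPt t
  haveI : Algebra.IsIntegral R₁ S₂ := Algebra.IsIntegral.adjoin hint
  haveI : Algebra.FiniteType R₁ S₂ := (Subalgebra.fg_iff_finiteType S₂).1 (Subalgebra.fg_adjoin_finset T)
  haveI : Module.Finite R₁ S₂ := Algebra.IsIntegral.finite (R := R₁) (A := S₂)
  have hle : S₁ ≤ S₂.restrictScalars R₀ := by
    rw [← hT]; exact Algebra.adjoin_le Algebra.subset_adjoin
  letI : Algebra S₁ S₂ := (Subalgebra.inclusion hle).toRingHom.toAlgebra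
  haveI : IsScalarTower R₀ S₁ S₂ := IsScalarTower.of_algebraMap_eq fun r => Subtype.ext rfl
  have hinj₁ : Function.Injective (algebraMap R₁ S₂) := fun x y h => Subtype.ext (hinj (congrArg Subtype.val h))
  haveI := descend (R₁ := R₁) (S₁ := S₁) (S₂ := S₂) (A₀ := A₀) K₀ hS₁F hinj₁
  exact Module.Flat.of_linearEquiv eM.symm

end Groth.Agent.Calg46.FlatIntegral
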