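import Groth.Agent.LocalCrit.Flatness
import Groth.Agent.FlatDvrVC5.Descent
import Mathlib

/-!
# Flatness after base change from flatness modulo an ideal and a vanishing map on `Tor₁`
-/

set_option autoImplicit false
set_option linter.style.haveILetI false
universe u

open TensorProduct
open Groth.Agent.LocalCrit (KeepsInjective)

namespace Groth.Agent.Calg46.FlatTorZero

variable {R R' M : Type u} [CommRing R] [CommRing R'] [Algebra R R'] [AddCommGroup M] [Module R M]

/-- Lifting a kernel element to the kernel upstairs. -/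
theorem exists_lift_ker (I : Ideal R) (hK : KeepsInjective I M) {FI F FQ Q P : Type u} [AddCommGroup FI]
    [AddCommGroup F] [AddCommGroup FQ] [AddCommGroup Q] [AddCommGroup P] [Module R FI] [Module R F]
    [Module R FQ] [Module R Q] [Module R P] (q : FI →ₗ[R] Q) (hq : Function.Surjective q)
    (incl : FI →ₗ[R] F) (red : F →ₗ[R] FQ) (hex : Function.Exact incl red)
    (htors : Module.IsTorsionBySet R FQ I) (p : F →ₗ[R] P) (hp : Function.Surjective p)
    (ι : Q →ₗ[R] P) (hι : Function.Injective ι) (hpq : ∀ z, p (incl z) = ι (q z))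
    (v : Q ⊗[R] M) (hv : ι.rTensor M v = 0) :
    ∃ y : FI ⊗[R] M, q.rTensor M y = v ∧ incl.rTensor M y = 0 := by
  obtain ⟨z, rfl⟩ := LinearMap.rTensor_surjective M hq v
  have h1 : p.rTensor M (incl.rTensor M z) = 0 := by
    rw [← LinearMap.rTensor_comp_apply, show p ∘ₗ incl = ι ∘ₗ q from LinearMap.ext hpq,
      LinearMap.rTensor_comp_apply]
    exact hv
  obtain ⟨u, hu⟩ := (rTensor_exact M (LinearMap.exact_subtype_ker_map p) hp _).1 h1
  let L := LinearMap.ker p
  let c : LinearMap.ker q →ₗ[R] L := LinearMap.codRestrict L (incl.comp (LinearMap.ker q).subtype) fun w => by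
    rw [LinearMap.mem_ker, LinearMap.comp_apply, Submodule.subtype_apply, hpq, LinearMap.mem_ker.1 w.2, map_zero]
  let π : L →ₗ[R] LinearMap.range (red.comp L.subtype) := (red.comp L.subtype).rangeRestrict
  have hexc : Function.Exact c π := by
    intro l
    constructor
    · intro hl
      obtain ⟨w, hw⟩ := (hex (l : F)).1 (congrArg Subtype.val hl)
      have hwk : w ∈ LinearMap.ker q := by
        rw [LinearMap.mem_ker]
        refine hι ?_
        rw [← hpq, hw, map_zero]; exact l.2
      exact ⟨⟨w, hwk⟩, Subtype.ext hw⟩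
    · rintro ⟨w, rfl⟩
      exact Subtype.ext (hex.apply_apply_eq_zero (w : FI))
  have h2 : π.rTensor M u = 0 := by
    refine hK (LinearMap.range (red.comp L.subtype)).subtype (fun y a => Subtype.ext (@htors (y : FQ) a)) htors
      Subtype.val_injective ?_
    rw [map_zero, ← LinearMap.rTensor_comp_apply, show (Submodule.subtype _) ∘ₗ π = red ∘ₗ L.subtype from rfl,
      LinearMap.rTensor_comp_apply, hu, ← LinearMap.rTensor_comp_apply, hex.linearMap_comp_eq_zero,
      LinearMap.rTensor_zero, LinearMap.zero_apply]
  obtain ⟨t, rfl⟩ := (rTensor_exact M hexc (LinearMap.surjective_rangeRestrict _) u).1 h2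
  refine ⟨z - (LinearMap.ker q).subtype.rTensor M t, ?_, ?_⟩
  · rw [map_sub, ← LinearMap.rTensor_comp_apply, LinearMap.comp_ker_subtype, LinearMap.rTensor_zero,
      LinearMap.zero_apply, sub_zero]
  · rw [map_sub, ← hu, ← LinearMap.rTensor_comp_apply, ← LinearMap.rTensor_comp_apply, sub_eq_zero]
    rfl

/-- The kernel of `I R' ⊗ M → R' ⊗ M` is generated by the kernel of `I ⊗ M → M`. -/
theorem map_ker_eq_zero (I : Ideal R) (hK : KeepsInjective I M) {X : Type*} [AddCommGroup X]
    (G : ↥((I.map (algebraMap R R')).restrictScalars R) ⊗[R] M →+ X)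
    (hG : ∀ (x : I ⊗[R] M), I.subtype.rTensor M x = 0 →
      ∀ (g : I →ₗ[R] ↥((I.map (algebraMap R R')).restrictScalars R)) (r : R'),
        (∀ a : I, (g a : R') = algebraMap R R' a * r) → G (g.rTensor M x) = 0)
    (v : ↥((I.map (algebraMap R R')).restrictScalars R) ⊗[R] M)
    (hv : ((I.map (algebraMap R R')).restrictScalars R).subtype.rTensor M v = 0) : G v = 0 := by
  classical
  let I' := (I.map (algebraMap R R')).restrictScalars R
  let g : R' → (I →ₗ[R] ↥I') := fun r =>
    LinearMap.codRestrict I'
      ((LinearMap.toSpanSingleton R R' r).comp I.subtype)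
      fun a => by
        show (a : R) • r ∈ I.map (algebraMap R R')
        rw [Algebra.smul_def]; exact Ideal.mul_mem_right _ _ (Ideal.mem_map_of_mem _ a.2)
  have hg : ∀ r (a : I), (g r a : R') = algebraMap R R' a * r := fun r a => Algebra.smul_def _ _
  let q : (R' →₀ I) →ₗ[R] ↥I' := Finsupp.lsum R g
  let incl : (R' →₀ I) →ₗ[R] (R' →₀ R) := Finsupp.mapRange.linearMap I.subtype
  let p : (R' →₀ R) →ₗ[R] R' := Finsupp.linearCombination R id
  have hpq : ∀ z, p (incl z) = (q z : R') := by
    intro z
    induction z using Finsupp.induction_linear with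
    | zero => simp
    | add x y hx hy => simp only [map_add, hx, hy, Submodule.coe_add]
    | single r a => simp [p, incl, q, hg, Algebra.smul_def]
  have hq : Function.Surjective q := by
    rintro ⟨y, hy⟩
    have hy' : y ∈ Ideal.span (algebraMap R R' '' I) := hy
    suffices ∃ z, (q z : R') = y from this.imp fun z hz => Subtype.ext hz
    refine Submodule.span_induction ?_ ⟨0, by simp⟩ ?_ ?_ hy'
    · rintro _ ⟨a, ha, rfl⟩
      exact ⟨Finsupp.single 1 ⟨a, ha⟩, by simp [q, hg]⟩
    · rintro x y _ _ ⟨a, ha⟩ ⟨b, hb⟩
      exact ⟨a + b, by rw [map_add, Submodule.coe_add, ha, hb]⟩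
    · rintro c x _ ⟨a, ha⟩
      refine ⟨a.mapDomain (fun r => c * r), ?_⟩
      rw [smul_eq_mul, ← ha]
      clear ha
      induction a using Finsupp.induction_linear with
      | zero => simp
      | add x y hx hy => simp only [Finsupp.mapDomain_add, map_add, Submodule.coe_add, hx, hy, mul_add]
      | single r b => simp [q, hg]; ring
  have hp : Function.Surjective p := fun r => ⟨Finsupp.single r 1, by simp [p]⟩
  let red : (R' →₀ R) →ₗ[R] (R' →₀ R ⧸ I) := Finsupp.mapRange.linearMap (Submodule.mkQ I)
  have hex : Function.Exact incl red := by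
    intro l
    constructor
    · intro hl
      have hli : ∀ r, l r ∈ I := fun r => by
        have := DFunLike.congr_fun hl r
        simpa [red, Ideal.Quotient.eq_zero_iff_mem] using this
      refine ⟨Finsupp.onFinset l.support (fun r => ⟨l r, hli r⟩) fun r hr => ?_, ?_⟩
      · rw [Finsupp.mem_support_iff]
        exact fun h => hr (Subtype.ext h)
      · ext r; simp [incl]
    · rintro ⟨z, rfl⟩
      refine Finsupp.ext fun r => ?_
      show Submodule.Quotient.mk ((z r : R)) = (0 : R ⧸ I)
      exact (Submodule.Quotient.mk_eq_zero I).2 (z r).2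
  have htors : Module.IsTorsionBySet R (R' →₀ R ⧸ I) I := by
    intro y a
    refine Finsupp.ext fun r => ?_
    show (a : R) • y r = 0
    obtain ⟨b, hb⟩ := Submodule.Quotient.mk_surjective I (y r)
    rw [← hb, ← Submodule.Quotient.mk_smul, Submodule.Quotient.mk_eq_zero]
    exact Ideal.mul_mem_right _ _ a.2
  obtain ⟨y, rfl, h3⟩ := exists_lift_ker I hK q hq incl red hex htors p hp I'.subtype
    Subtype.val_injective hpq v hv
  -- coordinatewise
  let e := TensorProduct.finsuppLeft R R (↥I) M R'
  let e' := TensorProduct.finsuppLeft R R R M R'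
  have hcoord : ∀ (y : (R' →₀ I) ⊗[R] M) (r : R'), I.subtype.rTensor M (e y r) = e' (incl.rTensor M y) r := by
    intro y r
    induction y using TensorProduct.induction_on with
    | zero => simp
    | add a b ha hb => simp only [map_add, Finsupp.add_apply, ha, hb]
    | tmul f m => simp [e, e', incl, TensorProduct.finsuppLeft_apply_tmul_apply]
  have hsum : ∀ w : R' →₀ (↥I ⊗[R] M), q.rTensor M (e.symm w) = w.sum fun r x => (g r).rTensor M x := by
    intro w
    induction w using Finsupp.induction_linear with
    | zero => simp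
    | add a b ha hb => rw [map_add, map_add, ha, hb, Finsupp.sum_add_index'] <;> simp
    | single r x =>
      rw [Finsupp.sum_single_index (by simp)]
      induction x using TensorProduct.induction_on with
      | zero => simp
      | add a b ha hb => rw [Finsupp.single_add, map_add, map_add, map_add, ha, hb]
      | tmul a m => simp [e, q, TensorProduct.finsuppLeft_symm_apply_single]
  rw [← e.symm_apply_apply y, hsum, map_finsuppSum]
  refine Finset.sum_eq_zero fun r _ => hG _ ?_ (g r) r (hg r)
  rw [hcoord, h3, map_zero, Finsupp.zero_apply]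

/-- Base change preserves `KeepsInjective`. -/
theorem keepsInjective_baseChange (I : Ideal R) (hK : KeepsInjective I M) :
    KeepsInjective (I.map (algebraMap R R')) (R' ⊗[R] M) := by
  intro N N' _ _ _ _ g hN hN' hg
  let _ := Module.compHom N (algebraMap R R')
  let _ := Module.compHom N' (algebraMap R R')
  haveI : IsScalarTower R R' N := IsScalarTower.of_algebraMap_smul fun _ _ => rfl
  haveI : IsScalarTower R R' N' := IsScalarTower.of_algebraMap_smul fun _ _ => rfl
  have h := hK (g.restrictScalars R)
    (fun x a => @hN x ⟨algebraMap R R' a, Ideal.mem_map_of_mem _ a.2⟩)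
    (fun x a => @hN' x ⟨algebraMap R R' a, Ideal.mem_map_of_mem _ a.2⟩) hg
  let e := fun (P : Type u) [AddCommGroup P] [Module R' P] [Module R P] [IsScalarTower R R' P] =>
    (AlgebraTensorModule.cancelBaseChange R R' R' P M)
  have key : ∀ z, e N' (g.rTensor (R' ⊗[R] M) z) = (g.restrictScalars R).rTensor M (e N z) := by
    intro z
    induction z using TensorProduct.induction_on with
    | zero => simp
    | add a b ha hb => simp only [map_add, ha, hb]
    | tmul n x =>
      induction x using TensorProduct.induction_on with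
      | zero => simp
      | add a b ha hb => simp only [tmul_add, map_add, ha, hb]
      | tmul r m => simp [e]
  intro x y hxy
  exact (e N).injective (h (by rw [← key, ← key, hxy]))

/-- `KeepsInjective` is invariant under isomorphisms. -/
theorem keepsInjective_equiv {A Y Y' : Type u} [CommRing A] [AddCommGroup Y] [Module A Y] [AddCommGroup Y']
    [Module A Y'] (J : Ideal A) (e : Y ≃ₗ[A] Y') (h : KeepsInjective J Y) : KeepsInjective J Y' := by
  intro N N' _ _ _ _ g hN hN' hg x y hxy
  have key : ∀ z, (e.symm.toLinearMap.lTensor N') (g.rTensor Y' z) = g.rTensor Y (e.symm.toLinearMap.lTensor N z) := by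
    intro z
    rw [← LinearMap.comp_apply, ← LinearMap.comp_apply, LinearMap.lTensor_comp_rTensor,
      LinearMap.rTensor_comp_lTensor]
  refine (LinearEquiv.lTensor N e.symm).injective ?_
  exact h g hN hN' hg ((key x).symm.trans ((congrArg _ hxy).trans (key y)))

end Groth.Agent.Calg46.FlatTorZero
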