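import Groth.Agent.Calg46.FlatTorZero

/-!
# Flatness after base change from a vanishing map on `Tor₁`: the local situation
-/

set_option autoImplicit false
set_option linter.style.haveILetI false
universe u

open TensorProduct
open Groth.Agent.LocalCrit (KeepsInjective)

namespace Groth.Agent.Calg46.FlatTorZero

/-- Kernel elements of `Y ⊗ I R' → Y` die in `M'` for a map `Y → M'` killing the kernel of `I ⊗ M → M`. -/
theorem rTensor_eq_zero {R R' M Y M' : Type u} [CommRing R] [CommRing R'] [Algebra R R'] [AddCommGroup M]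
    [Module R M] [AddCommGroup Y] [Module R' Y] [AddCommGroup M'] [Module R' M'] [Module R M']
    [IsScalarTower R R' M'] (I : Ideal R) (hK : KeepsInjective I M) (eY : R' ⊗[R] M ≃ₗ[R'] Y)
    (φ : Y →ₗ[R'] M') (φ₀ : M →ₗ[R] M') (hφ : ∀ m, φ (eY (1 ⊗ₜ m)) = φ₀ m)
    (h3 : ∀ x : ↥I ⊗[R] M, I.subtype.rTensor M x = 0 →
      (TensorProduct.mapOfCompatibleSMul R' R R ↥(I.map (algebraMap R R')) M')
        ((TensorProduct.map (Algebra.idealMap R' I) φ₀) x) = 0)
    (v : ↥(I.map (algebraMap R R')) ⊗[R'] Y)
    (hv : (I.map (algebraMap R R')).subtype.rTensor Y v = 0) :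
    φ.lTensor ↥(I.map (algebraMap R R')) v = 0 := by
  let I' := I.map (algebraMap R R')
  let I'R := I'.restrictScalars R
  have hφr : ∀ (r : R') (m : M), φ (eY (r ⊗ₜ m)) = r • φ₀ m := fun r m => by
    rw [← hφ, ← map_smul, ← map_smul, TensorProduct.smul_tmul', smul_eq_mul, mul_one]
  let c := AlgebraTensorModule.cancelBaseChange R R' R' ↥I' M
  obtain ⟨x, rfl⟩ := (LinearEquiv.lTensor ↥I' eY).surjective v
  obtain ⟨y, rfl⟩ := c.symm.surjective x
  let incY : I'R →ₗ[R] I' := { toFun := fun a => ⟨a.1, a.2⟩, map_add' := fun _ _ => rfl,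
                               map_smul' := fun c a => Subtype.ext rfl }
  have hinc : Function.Surjective (incY.rTensor M) :=
    LinearMap.rTensor_surjective M fun a => ⟨⟨a.1, a.2⟩, rfl⟩
  obtain ⟨w, rfl⟩ := hinc y
  let G : ↥I'R ⊗[R] M →+ ↥I' ⊗[R'] M' :=
    (((φ.lTensor ↥I').toAddMonoidHom.comp (LinearEquiv.lTensor ↥I' eY).toLinearMap.toAddMonoidHom).comp
      c.symm.toLinearMap.toAddMonoidHom).comp (incY.rTensor M).toAddMonoidHom
  refine map_ker_eq_zero I hK G (fun z hz g r hg => ?_) w ?_
  · have key : ∀ y : ↥I ⊗[R] M, G (g.rTensor M y) = r •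
        (TensorProduct.mapOfCompatibleSMul R' R R ↥I' M')
          ((TensorProduct.map (Algebra.idealMap R' I) φ₀) y) := by
      intro y
      induction y using TensorProduct.induction_on with
      | zero => simp
      | add a b ha hb => simp only [map_add, smul_add, ha, hb]
      | tmul a m =>
        show φ.lTensor ↥I' (LinearEquiv.lTensor ↥I' eY (c.symm (incY (g a) ⊗ₜ[R] m))) = _
        have hga : incY (g a) = r • (Algebra.idealMap R' I a) :=
          Subtype.ext (by show (g a : R') = r * algebraMap R R' a; rw [hg, mul_comm])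
        simp [c, hφ, hga, TensorProduct.smul_tmul']
    rw [key, h3 z hz, smul_zero]
  · have key : ∀ w, TensorProduct.lid R' Y (I'.subtype.rTensor Y
        (LinearEquiv.lTensor ↥I' eY (c.symm (incY.rTensor M w)))) = eY (I'R.subtype.rTensor M w) := by
      intro w
      induction w using TensorProduct.induction_on with
      | zero => simp
      | add a b ha hb => simp only [map_add, ha, hb]
      | tmul a m => simp [c, incY, I'R, ← map_smul, TensorProduct.smul_tmul']
    refine eY.injective ?_
    rw [← key, hv, map_zero, map_zero]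

/-- Injectivity after a flat base change from the vanishing of kernel elements. -/
theorem rTensor_injective_of_flat {R' T S' Y M' : Type u} [CommRing R'] [CommRing T] [CommRing S'] [Algebra R' T]
    [Algebra T S'] [Algebra R' S'] [IsScalarTower R' T S'] [Module.Flat T S'] [AddCommGroup Y] [Module T Y]
    [Module R' Y] [IsScalarTower R' T Y] [AddCommGroup M'] [Module R' M'] (eM : S' ⊗[T] Y ≃ₗ[R'] M')
    (J : Ideal R')
    (hker : ∀ (s : S') (v : ↥J ⊗[R'] Y), J.subtype.rTensor Y v = 0 →
      (eM.toLinearMap.comp (((TensorProduct.mk T S' Y) s).restrictScalars R')).lTensor ↥J v = 0) :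
    Function.Injective (J.subtype.rTensor M') := by
  let μ : Y ⊗[R'] J →ₗ[T] Y ⊗[R'] R' := AlgebraTensorModule.lTensor T Y J.subtype
  let A : S' ⊗[T] (Y ⊗[R'] J) ≃ₗ[R'] J ⊗[R'] M' :=
    ((AlgebraTensorModule.assoc R' T T S' Y J).restrictScalars R').symm ≪≫ₗ
      TensorProduct.congr eM (LinearEquiv.refl R' J) ≪≫ₗ TensorProduct.comm R' M' J
  let B : S' ⊗[T] (Y ⊗[R'] R') ≃ₗ[R'] R' ⊗[R'] M' :=
    ((AlgebraTensorModule.assoc R' T T S' Y R').restrictScalars R').symm ≪≫ₗ
      TensorProduct.congr eM (LinearEquiv.refl R' R') ≪≫ₗ TensorProduct.comm R' M' R'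
  have hAB : ∀ z, B (μ.lTensor S' z) = J.subtype.rTensor M' (A z) := by
    intro z
    induction z using TensorProduct.induction_on with
    | zero => simp
    | add a b ha hb => simp only [map_add, ha, hb]
    | tmul s x =>
      induction x using TensorProduct.induction_on with
      | zero => simp
      | add a b ha hb => simp only [TensorProduct.tmul_add, map_add, ha, hb]
      | tmul y a => simp [A, B, μ]
  have hA : ∀ (s : S') (v : Y ⊗[R'] J), A (s ⊗ₜ v) =
      (eM.toLinearMap.comp (((TensorProduct.mk T S' Y) s).restrictScalars R')).lTensor ↥J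
        (TensorProduct.comm R' Y J v) := by
    intro s v
    induction v using TensorProduct.induction_on with
    | zero => simp
    | add a b ha hb => simp only [TensorProduct.tmul_add, map_add, ha, hb]
    | tmul y a => simp [A]
  have hμ : ∀ v : Y ⊗[R'] J, J.subtype.rTensor Y (TensorProduct.comm R' Y J v) =
      TensorProduct.comm R' Y R' (μ v) := by
    intro v
    induction v using TensorProduct.induction_on with
    | zero => simp
    | add a b ha hb => simp only [map_add, ha, hb]
    | tmul y a => simp [μ]
  have hex : Function.Exact ((LinearMap.ker μ).subtype.lTensor S') (μ.lTensor S') :=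
    Module.Flat.lTensor_exact S' (LinearMap.exact_subtype_ker_map μ)
  rw [injective_iff_map_eq_zero]
  intro x hx
  obtain ⟨z, rfl⟩ := A.surjective x
  rw [← hAB, map_eq_zero_iff _ B.injective] at hx
  obtain ⟨w, rfl⟩ := (hex z).1 hx
  clear hx
  induction w using TensorProduct.induction_on with
  | zero => simp
  | add a b ha hb => simp only [map_add, ha, hb, add_zero]
  | tmul s v =>
    rw [LinearMap.lTensor_tmul, hA]
    refine hker s _ ?_
    rw [hμ, Submodule.subtype_apply, LinearMap.mem_ker.1 v.2, map_zero]

attribute [local instance] Algebra.TensorProduct.rightAlgebra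

theorem injective_and_keepsInjective {R S R' S' : Type u} [CommRing R] [CommRing S] [CommRing R'] [CommRing S']
    [Algebra R S] [Algebra R R'] [Algebra S S'] [Algebra R' S'] [Algebra R S']
    [IsScalarTower R S S'] [IsScalarTower R R' S'] [Algebra (S ⊗[R] R') S']
    [IsScalarTower S (S ⊗[R] R') S'] [IsScalarTower R' (S ⊗[R] R') S'] [Module.Flat (S ⊗[R] R') S']
    (I : Ideal R) {M : Type u} [AddCommGroup M] [Module S M] [Module R M] [IsScalarTower R S M]
    (hK : KeepsInjective I M)
    {M' : Type u} [AddCommGroup M'] [Module S' M'] [Module R' M'] [IsScalarTower R' S' M']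
    [Module S M'] [IsScalarTower S S' M'] [Module R M'] [IsScalarTower R R' M'] [IsScalarTower R S M']
    (f : M →ₗ[S] M') (hf : IsBaseChange S' f)
    (h3 : ∀ x : ↥I ⊗[R] M, (Submodule.subtype I).rTensor M x = 0 →
      (TensorProduct.mapOfCompatibleSMul R' R R ↥(I.map (algebraMap R R')) M')
        ((TensorProduct.map (Algebra.idealMap R' I) (f.restrictScalars R)) x) = 0) :
    Function.Injective ((I.map (algebraMap R R')).subtype.rTensor M') ∧
      KeepsInjective (I.map (algebraMap R R')) M' := by
  let T := S ⊗[R] R'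
  let I' := I.map (algebraMap R R')
  let Y := T ⊗[S] M
  haveI : IsScalarTower R R' T := IsScalarTower.of_algebraMap_eq fun r => by
    rw [Algebra.TensorProduct.algebraMap_apply]
    show algebraMap R S r ⊗ₜ[R] (1 : R') = (1 : S) ⊗ₜ[R] algebraMap R R' r
    rw [Algebra.algebraMap_eq_smul_one, Algebra.algebraMap_eq_smul_one, TensorProduct.smul_tmul]
  haveI : IsScalarTower R S' M' := IsScalarTower.of_algebraMap_smul fun r m => by
    rw [IsScalarTower.algebraMap_apply R R' S' r, IsScalarTower.algebraMap_smul S', IsScalarTower.algebraMap_smul R']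
  let one : M →ₗ[R] Y := ((TensorProduct.mk S T M) 1).restrictScalars R
  let fwd : R' ⊗[R] M →ₗ[R'] Y := one.liftBaseChange R'
  let E : T ⊗[S] M ≃ₗ[R] R' ⊗[R] M := (TensorProduct.comm S T M).restrictScalars R ≪≫ₗ
    (AlgebraTensorModule.cancelBaseChange R S S M R').restrictScalars R ≪≫ₗ TensorProduct.comm R M R'
  have hE : ∀ x, E (fwd x) = x := by
    intro x
    induction x using TensorProduct.induction_on with
    | zero => simp
    | add a b ha hb => simp only [map_add, ha, hb]
    | tmul r m =>
      simp only [fwd, LinearMap.liftBaseChange_tmul, one, LinearMap.coe_restrictScalars, TensorProduct.mk_apply]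
      rw [TensorProduct.smul_tmul']
      show E (((r • (1 : T))) ⊗ₜ[S] m) = _
      rw [Algebra.smul_def, mul_one, RingHom.algebraMap_toAlgebra]
      simp [E]
      erw [AlgebraTensorModule.cancelBaseChange_tmul]
      simp
  have hfwd : Function.Bijective fwd :=
    ⟨fun a b h => by rw [← hE a, ← hE b, h], fun y => ⟨E y, E.injective (hE _)⟩⟩
  let eY : R' ⊗[R] M ≃ₗ[R'] Y := LinearEquiv.ofBijective fwd hfwd
  let eM : S' ⊗[T] Y ≃ₗ[S'] M' :=
    (AlgebraTensorModule.cancelBaseChange S T S' S' M) ≪≫ₗ hf.equiv
  have heM : ∀ (s : S') (m : M), eM (s ⊗ₜ[T] ((1 : T) ⊗ₜ[S] m)) = s • f m := fun s m => by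
    simp only [eM, LinearEquiv.trans_apply]
    erw [AlgebraTensorModule.cancelBaseChange_tmul]
    rw [one_smul, hf.equiv_tmul]
  refine ⟨?_, keepsInjective_equiv I' (eM.restrictScalars R')
    (FlatDvrVC5.keepsInjective_tensor (C := R') (T := T) (T' := S') (Y := Y)
      (keepsInjective_equiv I' eY (keepsInjective_baseChange I hK)))⟩
  refine rTensor_injective_of_flat (eM.restrictScalars R') I' fun s v hv => ?_
  refine rTensor_eq_zero I hK eY _ ((DistribSMul.toLinearMap R M' s).comp (f.restrictScalars R)) ?_ ?_ v hv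
  · intro m
    show eM (s ⊗ₜ[T] fwd (1 ⊗ₜ m)) = s • f m
    simp only [fwd, LinearMap.liftBaseChange_tmul, one_smul]
    exact heM s m
  · intro x hx
    have key : ∀ y : ↥I ⊗[R] M,
        (TensorProduct.mapOfCompatibleSMul R' R R ↥I' M')
            ((TensorProduct.map (Algebra.idealMap R' I)
              ((DistribSMul.toLinearMap R M' s).comp (f.restrictScalars R))) y) =
          (DistribSMul.toLinearMap R' M' s).lTensor ↥I'
            ((TensorProduct.mapOfCompatibleSMul R' R R ↥I' M')
              ((TensorProduct.map (Algebra.idealMap R' I) (f.restrictScalars R)) y)) := by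
      intro y
      induction y using TensorProduct.induction_on with
      | zero => simp
      | add a b ha hb => simp only [map_add, ha, hb]
      | tmul a m => simp
    rw [key, h3 x hx, map_zero]

end Groth.Agent.Calg46.FlatTorZero
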