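import Groth.Agent.FlatLoc6.GeomProp
import Groth.Agent.CAlgOdd.NormalRing
import Groth.Agent.EtStalk.Normal
import Groth.Agent.WEtLib.Stalks
import Groth.Agent.Hensel.HenselizationNormal

/-!
# Geometric normality without finiteness assumptions
-/

set_option autoImplicit false
set_option linter.style.haveILetI false
universe u

open TensorProduct

namespace Groth.Agent.Calg46.GeomNormal

/-- A ring in which every finite subset comes from an injective map from a normal domain is one. -/
theorem normal_of_covered (B : Type u) [CommRing B]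
    (h : ∀ F : Finset B, ∃ (C : Type u) (_ : CommRing C) (φ : C →+* B),
      IsDomain C ∧ IsIntegrallyClosed C ∧ Function.Injective φ ∧ ∀ b ∈ F, b ∈ Set.range φ) :
    IsDomain B ∧ IsIntegrallyClosed B := by
  classical
  haveI : Nontrivial B := by
    obtain ⟨C, _, φ, hC, -, hφ, -⟩ := h ∅
    exact ⟨⟨φ 0, φ 1, fun e => zero_ne_one (hφ e)⟩⟩
  haveI : NoZeroDivisors B := ⟨fun {x y} hxy => by
    obtain ⟨C, _, φ, hC, -, hφ, hF⟩ := h {x, y}
    obtain ⟨a, rfl⟩ := hF x (by simp)
    obtain ⟨b, rfl⟩ := hF y (by simp)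
    rcases eq_zero_or_eq_zero_of_mul_eq_zero (hφ (by rw [map_mul, hxy, map_zero]) : a * b = 0) with rfl | rfl
    · exact Or.inl (map_zero φ)
    · exact Or.inr (map_zero φ)⟩
  haveI : IsDomain B := NoZeroDivisors.to_isDomain B
  refine ⟨inferInstance, (isIntegrallyClosed_iff (FractionRing B)).2 fun {z} hz => ?_⟩
  obtain ⟨P, hP, hPz⟩ := hz
  obtain ⟨num, den, hden, rfl⟩ := IsFractionRing.div_surjective (A := B) z
  obtain ⟨C, _, φ, hC, hCi, hφ, hF⟩ :=
    h ({num, den} ∪ (Finset.range (P.natDegree + 1)).image P.coeff)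
  obtain ⟨a, ha⟩ := hF num (by simp)
  obtain ⟨b, hb⟩ := hF den (by simp)
  obtain ⟨Q, hQ, -, hQm⟩ := Polynomial.lifts_and_natDegree_eq_and_monic (f := φ) (p := P) (by
    rw [Polynomial.lifts_iff_coeff_lifts]
    intro n
    by_cases hn : n ≤ P.natDegree
    · exact hF _ (by
        refine Finset.mem_union_right _ (Finset.mem_image_of_mem _ ?_)
        exact Finset.mem_range.2 (by omega))
    · exact ⟨0, by rw [map_zero, Polynomial.coeff_eq_zero_of_natDegree_lt (by omega)]⟩) hP
  have hb0 : b ≠ 0 := fun e => nonZeroDivisors.ne_zero hden (by rw [← hb, e, map_zero])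
  let j : FractionRing C →+* FractionRing B :=
    IsFractionRing.lift (A := C) (g := (algebraMap B (FractionRing B)).comp φ)
      ((IsFractionRing.injective B (FractionRing B)).comp hφ)
  have hj : ∀ r, j (algebraMap C _ r) = algebraMap B _ (φ r) := fun r =>
    IsFractionRing.lift_algebraMap (A := C) _ r
  have hint : IsIntegral C (algebraMap C (FractionRing C) a / algebraMap C (FractionRing C) b) := by
    refine ⟨Q, hQm, j.injective ?_⟩
    rw [map_zero, Polynomial.hom_eval₂, map_div₀, hj, hj, ha, hb,
      show j.comp (algebraMap C (FractionRing C)) = (algebraMap B (FractionRing B)).comp φ from RingHom.ext hj,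
      ← Polynomial.eval₂_map, hQ]
    exact hPz
  obtain ⟨c, hc⟩ := hCi.algebraMap_eq_of_integral hint
  refine ⟨φ c, ?_⟩
  rw [← hj, hc, map_div₀, hj, hj, ha, hb]

/-- A local ring of a faithfully flat extension which is normal gives a normal local ring below. -/
theorem normal_descent (A B : Type u) [CommRing A] [CommRing B] [Algebra A B] [Module.FaithfullyFlat A B]
    (h : EGA4.IsNormalRing B) : EGA4.IsNormalRing A := by
  intro p _
  obtain ⟨Q, hQ⟩ := PrimeSpectrum.comap_surjective_of_faithfullyFlat (A := A) (B := B) ⟨p, ‹_›⟩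
  have hQp : Q.asIdeal.comap (algebraMap A B) = p := congrArg PrimeSpectrum.asIdeal hQ
  haveI : Q.asIdeal.LiesOver p := ⟨hQp.symm⟩
  obtain ⟨_, _⟩ := h Q.asIdeal
  letI := Localization.AtPrime.algebraOfLiesOver p Q.asIdeal
  haveI : Module.FaithfullyFlat (Localization.AtPrime p) (Localization.AtPrime Q.asIdeal) :=
    Module.FaithfullyFlat.of_flat_of_isLocalHom
  exact Hensel.isIntegrallyClosed_of_faithfullyFlat _ (Localization.AtPrime Q.asIdeal)

/-- Étale algebras over normal rings are normal. -/
theorem normal_etale (A B : Type u) [CommRing A] [CommRing B] [Algebra A B] [Algebra.Etale A B]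
    (h : EGA4.IsNormalRing A) : EGA4.IsNormalRing B := by
  intro Q _
  let p := Q.comap (algebraMap A B)
  obtain ⟨_, _⟩ := h p
  haveI : Q.LiesOver p := ⟨rfl⟩
  letI := Localization.AtPrime.algebraOfLiesOver p Q
  haveI : Algebra.WeaklyEtale (Localization.AtPrime p) (Localization.AtPrime Q) :=
    WEtLib.localization_of_weaklyEtale (A := A) (B := B) p.primeCompl Q.primeCompl
  exact EtStalk.normal_of_weaklyEtale_local (Localization.AtPrime p) (Localization.AtPrime Q)

theorem normal_equiv {R S : Type u} [CommRing R] [CommRing S] (e : R ≃+* S) (h : EGA4.IsNormalRing R) :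
    EGA4.IsNormalRing S :=
  FlatLoc6.isNormalRing_of_ringEquiv e h

theorem normal_mvPolynomial (A : Type u) [CommRing A] (h : EGA4.IsNormalRing A) :
    ∀ n : ℕ, EGA4.IsNormalRing (MvPolynomial (Fin n) A)
  | 0 => normal_equiv (MvPolynomial.isEmptyRingEquiv A (Fin 0)).symm h
  | n + 1 => normal_equiv (MvPolynomial.finSuccEquiv A n).toRingEquiv.symm
      (CAlgOdd.isNormalRing_polynomial (normal_mvPolynomial A h n))

theorem normal_fractionRing (k' S' : Type u) [Field k'] [CommRing S'] [Algebra k' S']
    (ι : Type u) [Finite ι] (h : EGA4.IsNormalRing S') :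
    EGA4.IsNormalRing (FractionRing (MvPolynomial ι k') ⊗[k'] S') := by
  classical
  cases nonempty_fintype ι
  let Q := MvPolynomial ι k'
  let F := FractionRing (MvPolynomial ι k')
  have h1 : EGA4.IsNormalRing (MvPolynomial ι S') :=
    normal_equiv (MvPolynomial.renameEquiv S' (Fintype.equivFin ι).symm).toRingEquiv
      (normal_mvPolynomial S' h _)
  have h2 : EGA4.IsNormalRing (Q ⊗[k'] S') :=
    normal_equiv ((Algebra.TensorProduct.comm k' Q S').trans
      ((MvPolynomial.algebraTensorAlgEquiv (σ := ι) k' S').restrictScalars k')).toRingEquiv.symm h1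
  have h3 : EGA4.IsNormalRing ((Q ⊗[k'] S') ⊗[Q] F) :=
    FlatLoc6.isNormalRing_of_isLocalization
      (Algebra.algebraMapSubmonoid (Q ⊗[k'] S') (nonZeroDivisors Q)) _ h2
  exact normal_equiv (R := (Q ⊗[k'] S') ⊗[Q] F) ((Algebra.TensorProduct.comm Q (Q ⊗[k'] S') F).toRingEquiv.trans
    (Algebra.TensorProduct.cancelBaseChange k' Q F F S').toRingEquiv) h3

theorem normal_separable (k' F K' S' : Type u) [Field k'] [Field F] [Field K']
    [CommRing S'] [Algebra k' S'] [Algebra k' F] [Algebra F K'] [Algebra k' K'] [IsScalarTower k' F K']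
    [Module.Finite F K'] [Algebra.IsSeparable F K'] (h : EGA4.IsNormalRing (F ⊗[k'] S')) :
    EGA4.IsNormalRing (K' ⊗[k'] S') := by
  haveI : Algebra.FormallyEtale F K' := Algebra.FormallyEtale.of_isSeparable F K'
  haveI : Algebra.FinitePresentation F K' := Algebra.FinitePresentation.of_finiteType.mp inferInstance
  haveI : Algebra.Etale F K' := ⟨inferInstance, inferInstance⟩
  have h1 : EGA4.IsNormalRing ((F ⊗[k'] S') ⊗[F] K') := normal_etale (F ⊗[k'] S') _ h
  exact normal_equiv (R := (F ⊗[k'] S') ⊗[F] K') ((Algebra.TensorProduct.comm F (F ⊗[k'] S') K').toRingEquiv.trans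
    (Algebra.TensorProduct.cancelBaseChange k' F K' K' S').toRingEquiv) h1

/-- Stability under finite purely inseparable extensions gives stability under finitely generated ones. -/
theorem normal_essFiniteType (k S : Type u) [Field k] [CommRing S] [Algebra k S]
    (h : ∀ (k' : Type u) [Field k'] [Algebra k k'], Module.Finite k k' → IsPurelyInseparable k k' →
      EGA4.IsNormalRing (k' ⊗[k] S))
    (K : Type u) [Field K] [Algebra k K] [Algebra.EssFiniteType k K] : EGA4.IsNormalRing (K ⊗[k] S) := by
  obtain ⟨k', _, _, F, _, _, _, _, K', _, _, _, _, _, _, _, _, hfin, hins, ⟨ι, hι, ⟨e⟩⟩, _, _⟩ :=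
    FlatLoc6.exists_insep_model k K
  have h2 : EGA4.IsNormalRing (F ⊗[k'] (k' ⊗[k] S)) :=
    normal_equiv (Algebra.TensorProduct.congr e (AlgEquiv.refl (R := k') (A₁ := k' ⊗[k] S))).toRingEquiv
      (normal_fractionRing k' (k' ⊗[k] S) ι (h k' hfin hins))
  have h3 : EGA4.IsNormalRing (K' ⊗[k] S) :=
    normal_equiv (Algebra.TensorProduct.cancelBaseChange k k' K' K' S).toRingEquiv
      (normal_separable k' F K' (k' ⊗[k] S) h2)
  exact normal_descent (K ⊗[k] S) ((K ⊗[k] S) ⊗[K] K')
    (normal_equiv (S := (K ⊗[k] S) ⊗[K] K') ((Algebra.TensorProduct.comm K (K ⊗[k] S) K').toRingEquiv.trans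
      (Algebra.TensorProduct.cancelBaseChange k K K' K' S).toRingEquiv).symm h3)

theorem exists_fg_stage {k k' A : Type u} [Field k] [Field k'] [Algebra k k'] [CommRing A] [Algebra k A]
    (F : Finset (k' ⊗[k] A)) : ∃ K : IntermediateField k k', Algebra.EssFiniteType k K ∧
      ∀ x ∈ F, x ∈ (Algebra.TensorProduct.map K.val (AlgHom.id k A)).range := by
  classical
  have key : ∀ x : k' ⊗[k] A, ∃ s : Finset k', ∀ K : IntermediateField k k', ↑s ⊆ (K : Set k') →
      x ∈ (Algebra.TensorProduct.map K.val (AlgHom.id k A)).range := by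
    intro x
    induction x using TensorProduct.induction_on with
    | zero => exact ⟨∅, fun K _ => zero_mem _⟩
    | tmul c a => exact ⟨{c}, fun K hK => ⟨⟨c, hK (by simp)⟩ ⊗ₜ a, rfl⟩⟩
    | add x y hx hy =>
      obtain ⟨s, hs⟩ := hx
      obtain ⟨t, ht⟩ := hy
      exact ⟨s ∪ t, fun K hK => add_mem (hs K fun c hc => hK (Finset.mem_union_left _ hc))
        (ht K fun c hc => hK (Finset.mem_union_right _ hc))⟩
  choose s hs using key
  refine ⟨IntermediateField.adjoin k ↑(F.biUnion s),
    IntermediateField.essFiniteType_iff.mpr ⟨F.biUnion s, rfl⟩, fun x hx => hs x _ ?_⟩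
  exact fun c hc => IntermediateField.subset_adjoin k _ (Finset.mem_biUnion.2 ⟨x, hx, hc⟩)

/-- The local ring of a flat normal stage embeds in the local ring above. -/
theorem exists_local_stage {R B : Type u} [CommRing R] [CommRing B] (ι : R →+* B) (hι : ι.Flat) (P : Ideal B)
    [P.IsPrime] (hR : EGA4.IsNormalRing R) :
    ∃ (C : Type u) (_ : CommRing C) (φ : C →+* Localization.AtPrime P),
      IsDomain C ∧ IsIntegrallyClosed C ∧ Function.Injective φ ∧
        ∀ (x s : R) (b : B) (t : P.primeCompl), ι x = b → ι s = t →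
          IsLocalization.mk' (Localization.AtPrime P) b t ∈ Set.range φ := by
  algebraize [ι]
  let p := P.comap (algebraMap R B)
  haveI : P.LiesOver p := ⟨rfl⟩
  letI := Localization.AtPrime.algebraOfLiesOver p P
  haveI : Module.FaithfullyFlat (Localization.AtPrime p) (Localization.AtPrime P) :=
    Module.FaithfullyFlat.of_flat_of_isLocalHom
  obtain ⟨hd, hi⟩ := hR p
  refine ⟨Localization.AtPrime p, inferInstance, algebraMap (Localization.AtPrime p) (Localization.AtPrime P),
    hd, hi, FaithfulSMul.algebraMap_injective _ _, fun x s b t hx hs => ?_⟩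
  have hsp : s ∈ p.primeCompl := fun hm => t.2 (by rw [← hs]; exact hm)
  refine ⟨IsLocalization.mk' _ x ⟨s, hsp⟩, ?_⟩
  rw [IsLocalization.eq_mk'_iff_mul_eq]
  have h1 : ∀ z : R, algebraMap B (Localization.AtPrime P) (ι z) =
      algebraMap (Localization.AtPrime p) (Localization.AtPrime P) (algebraMap R (Localization.AtPrime p) z) :=
    fun z => (IsScalarTower.algebraMap_apply R B (Localization.AtPrime P) z).symm.trans
      (IsScalarTower.algebraMap_apply R (Localization.AtPrime p) (Localization.AtPrime P) z)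
  rw [← hx, ← hs, h1, h1, ← map_mul, IsLocalization.mk'_spec _ x ⟨s, hsp⟩]

/-- A field extension stays flat after tensoring. -/
theorem flat_map_tensor (k A : Type u) [Field k] [CommRing A] [Algebra k A] {L M : Type u} [Field L] [Field M]
    [Algebra k L] [Algebra k M] (f : L →ₐ[k] M) :
    (Algebra.TensorProduct.map f (AlgHom.id k A)).toRingHom.Flat := by
  letI := f.toRingHom.toAlgebra
  haveI : IsScalarTower k L M := IsScalarTower.of_algebraMap_eq fun c => (f.commutes c).symm
  let e : (L ⊗[k] A) ⊗[L] M ≃+* M ⊗[k] A := (Algebra.TensorProduct.comm L (L ⊗[k] A) M).toRingEquiv.trans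
    (Algebra.TensorProduct.cancelBaseChange k L M M A).toRingEquiv
  have he : ∀ x, (Algebra.TensorProduct.map f (AlgHom.id k A)).toRingHom x =
      e (Algebra.TensorProduct.includeLeftRingHom x) := by
    intro x
    induction x using TensorProduct.induction_on with
    | zero => simp
    | add x y hx hy => simp only [map_add, hx, hy]
    | tmul c a =>
      show _ = Algebra.TensorProduct.cancelBaseChange k L M M A ((1 : M) ⊗ₜ[L] (c ⊗ₜ[k] a))
      simp [Algebra.smul_def, RingHom.algebraMap_toAlgebra]
  rw [show (Algebra.TensorProduct.map f (AlgHom.id k A)).toRingHom =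
    RingHom.comp (RingEquiv.toRingHom e) Algebra.TensorProduct.includeLeftRingHom from RingHom.ext he]
  exact RingHom.Flat.comp (RingHom.flat_algebraMap_iff.2 inferInstance) (RingHom.Flat.of_bijective e.bijective)

/-- Normality after every finite purely inseparable extension gives it after every extension. -/
theorem normal_tensor (k A : Type u) [Field k] [CommRing A] [Algebra k A]
    (h : ∀ (k' : Type u) [Field k'] [Algebra k k'], Module.Finite k k' → IsPurelyInseparable k k' →
      EGA4.IsNormalRing (k' ⊗[k] A))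
    (k' : Type u) [Field k'] [Algebra k k'] : EGA4.IsNormalRing (k' ⊗[k] A) := by
  classical
  intro P _
  refine normal_of_covered _ fun F => ?_
  choose num den hnd using fun b : Localization.AtPrime P => IsLocalization.exists_mk'_eq P.primeCompl b
  obtain ⟨K, hKfg, hK⟩ := exists_fg_stage (F.image num ∪ F.image fun b => (den b : k' ⊗[k] A))
  obtain ⟨C, _, φ, hd, hi, hφ, hr⟩ := exists_local_stage
    ((Algebra.TensorProduct.map K.val (AlgHom.id k A)).toRingHom) (flat_map_tensor k A K.val) P
    (normal_essFiniteType k A h K)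
  refine ⟨C, inferInstance, φ, hd, hi, hφ, fun b hb => ?_⟩
  obtain ⟨x, hx⟩ := hK (num b) (Finset.mem_union_left _ (Finset.mem_image_of_mem _ hb))
  obtain ⟨s, hs⟩ := hK (den b) (Finset.mem_union_right _ (Finset.mem_image_of_mem _ hb))
  rw [← hnd b]
  exact hr x s (num b) (den b) hx hs

end Groth.Agent.Calg46.GeomNormal
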