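import Groth.Agent.CotTLib.CI
import Groth.Agent.Synt29.SyntomicAt
import Groth.Agent.Synt29.RelFlatTake
import Groth.Prelude.Def_RegImm
import Mathlib

/-!
# Globally regular generators of a locally regular ideal
-/

set_option autoImplicit false
set_option linter.style.haveILetI false
universe u

namespace Groth.Agent.Calg46.GlobalRegSeq

open RingTheory.Sequence

variable {B : Type u} [CommRing B]

/-- Prime avoidance in a coset. -/
lemma exists_add_notMem (s : Finset (Ideal B)) (hs : ∀ Q ∈ s, Q.IsPrime) (x : B) (J : Ideal B)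
    (h : ∀ Q ∈ s, ¬ Ideal.span {x} ⊔ J ≤ Q) : ∃ y ∈ J, ∀ Q ∈ s, x + y ∉ Q := by
  classical
  induction s using Finset.strongInduction with
  | H s ih =>
    rcases s.eq_empty_or_nonempty with rfl | hne
    · exact ⟨0, zero_mem _, by simp⟩
    obtain ⟨Q, hQs, hQmin⟩ := s.exists_minimal hne
    obtain ⟨y, hyJ, hy⟩ := ih (s.erase Q) (Finset.erase_ssubset hQs)
      (fun Q' hQ' => hs Q' (Finset.mem_of_mem_erase hQ')) (fun Q' hQ' => h Q' (Finset.mem_of_mem_erase hQ'))
    by_cases hxy : x + y ∈ Q
    · haveI := hs Q hQs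
      have hJQ : ¬ J ≤ Q := fun hle => h Q hQs (sup_le ((Ideal.span_singleton_le_iff_mem _).2 (by
        have := Q.sub_mem hxy (hle hyJ)
        rwa [add_sub_cancel_right] at this)) hle)
      have hprod : ¬ J * ∏ Q' ∈ s.erase Q, Q' ≤ Q := fun hle => by
        rcases (hs Q hQs).mul_le.1 hle with h1 | h1
        · exact hJQ h1
        · obtain ⟨Q', hQ', hle'⟩ := (hs Q hQs).prod_le.1 h1
          exact (Finset.ne_of_mem_erase hQ')
            (le_antisymm hle' (hQmin (Finset.mem_of_mem_erase hQ') hle'))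
      obtain ⟨z, hz, hzQ⟩ := SetLike.not_le_iff_exists.1 hprod
      refine ⟨y + z, add_mem hyJ ((Ideal.mul_le_left : J * ∏ Q' ∈ s.erase Q, Q' ≤ J) hz), fun Q' hQ' hmem => ?_⟩
      by_cases hQQ : Q' = Q
      · subst hQQ
        apply hzQ
        have := Q'.sub_mem hmem hxy
        rwa [show x + (y + z) - (x + y) = z by ring] at this
      · have hQ'' : Q' ∈ s.erase Q := Finset.mem_erase.2 ⟨hQQ, hQ'⟩
        refine hy Q' hQ'' ?_
        have hzQ' : z ∈ Q' :=
          ((Ideal.mul_le_right : J * ∏ Q' ∈ s.erase Q, Q' ≤ _).trans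
            (Ideal.prod_le_inf.trans (Finset.inf_le (f := fun Q' => Q') hQ''))) hz
        have := Q'.sub_mem hmem hzQ'
        rwa [show x + (y + z) - z = x + y by ring] at this
    · exact ⟨y, hyJ, fun Q' hQ' => by
        by_cases hQQ : Q' = Q
        · exact hQQ ▸ hxy
        · exact hy Q' (Finset.mem_erase.2 ⟨hQQ, hQ'⟩)⟩

variable [IsNoetherianRing B] {c : ℕ}

theorem exists_regular (F : Fin c → B)
    (hloc : ∀ P : Fin c → B, Ideal.span (Set.range P) = Ideal.span (Set.range F) →
      ∀ (q : Ideal B) [q.IsPrime], (∀ i, P i ∈ q) →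
        IsWeaklyRegular (Localization.AtPrime q)
          ((List.ofFn P).map (algebraMap B (Localization.AtPrime q)))) :
    ∃ P : Fin c → B, Ideal.span (Set.range P) = Ideal.span (Set.range F) ∧
      IsWeaklyRegular B (List.ofFn P) := by
  classical
  suffices key : ∀ k ≤ c, ∃ P : Fin c → B, Ideal.span (Set.range P) = Ideal.span (Set.range F) ∧
      ∀ j : Fin c, (j : ℕ) < k → ∀ x, x * P j ∈ Ideal.span (P '' {i | i < j}) →
        x ∈ Ideal.span (P '' {i | i < j}) by
    obtain ⟨P, hP, hreg⟩ := key c le_rfl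
    exact ⟨P, hP, CotTLib.isWeaklyRegular_ofFn P fun j => hreg j j.2⟩
  intro k hk
  induction k with
  | zero => exact ⟨F, rfl, fun j hj => absurd hj (Nat.not_lt_zero _)⟩
  | succ k ih =>
    obtain ⟨P, hP, hreg⟩ := ih (by omega)
    let k' : Fin c := ⟨k, by omega⟩
    set N : Ideal B := Ideal.span (P '' {i | i < k'}) with hN
    set I : Ideal B := Ideal.span (Set.range P) with hI
    let M := B ⧸ N
    have hfin := associatedPrimes.finite B M
    let J : Ideal B := Ideal.span (P '' {i | k' < i})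
    have hsup : I ≤ N ⊔ (Ideal.span {P k'} ⊔ J) := by
      rw [hI, Ideal.span_le]
      rintro _ ⟨i, rfl⟩
      rcases lt_trichotomy i k' with h | h | h
      · exact Submodule.mem_sup_left (Ideal.subset_span ⟨i, h, rfl⟩)
      · exact Submodule.mem_sup_right (Submodule.mem_sup_left (h ▸ Ideal.mem_span_singleton_self _))
      · exact Submodule.mem_sup_right (Submodule.mem_sup_right (Ideal.subset_span ⟨i, h, rfl⟩))
    -- no associated prime contains `I`
    have hass : ∀ Q ∈ associatedPrimes B M, ¬ Ideal.span {P k'} ⊔ J ≤ Q := by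
      intro Q hQ hle
      obtain ⟨hQp, x, hx⟩ := isAssociatedPrime_iff.1 hQ
      haveI := hQp
      obtain ⟨x, rfl⟩ := Submodule.Quotient.mk_surjective N x
      have hmemQ : ∀ b, b ∈ Q ↔ b * x ∈ N := fun b => by
        rw [hx, Submodule.mem_colon_singleton, Submodule.mem_bot, ← Submodule.Quotient.mk_smul,
          Submodule.Quotient.mk_eq_zero, smul_eq_mul]
      have hNQ : N ≤ Q := fun b hb => (hmemQ b).2 (N.mul_mem_right x hb)
      have hIQ : ∀ i, P i ∈ Q := fun i =>
        (sup_le hNQ hle) (hsup (Ideal.subset_span ⟨i, rfl⟩))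
      have hw := hloc P hP Q hIQ
      rw [isWeaklyRegular_iff_Fin] at hw
      have hlen : k < ((List.ofFn P).map (algebraMap B (Localization.AtPrime Q))).length := by
        simp; omega
      have hwk := hw ⟨k, hlen⟩
      have htake : Ideal.ofList (((List.ofFn P).map (algebraMap B (Localization.AtPrime Q))).take k) =
          N.map (algebraMap B (Localization.AtPrime Q)) := by
        rw [← List.map_take, ← Ideal.map_ofList, Synt29.ofList_take_ofFn P k (by omega)]
        congr 1
        rw [hN]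
        congr 1
        ext y
        constructor
        · rintro ⟨i, rfl⟩; exact ⟨_, show Fin.castLE _ i < k' from i.2, rfl⟩
        · rintro ⟨i, hi, rfl⟩; exact ⟨⟨i, hi⟩, rfl⟩
      have h0 : algebraMap B (Localization.AtPrime Q) x ∈
          N.map (algebraMap B (Localization.AtPrime Q)) := by
        have h1 := (isSMulRegular_iff_right_eq_zero_of_smul.1 hwk)
          (Submodule.Quotient.mk (algebraMap B (Localization.AtPrime Q) x))
        simp only [Fin.getElem_fin, List.getElem_map, List.getElem_ofFn, ← Submodule.Quotient.mk_smul,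
          Submodule.Quotient.mk_eq_zero, smul_eq_mul, Ideal.mul_top, ← map_mul, htake] at h1
        exact h1 (Ideal.mem_map_of_mem _ ((hmemQ _).1 (hIQ _)))
      obtain ⟨s, hs, hsx⟩ := (IsLocalization.algebraMap_mem_map_algebraMap_iff Q.primeCompl _ N x).1 h0
      exact hs ((hmemQ s).2 hsx)
    obtain ⟨y, hyJ, hy⟩ := exists_add_notMem hfin.toFinset
      (fun Q hQ => (hfin.mem_toFinset.1 hQ).isPrime) (P k') J (fun Q hQ => hass Q (hfin.mem_toFinset.1 hQ))
    let P' := Function.update P k' (P k' + y)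
    have hP'k : P' k' = P k' + y := Function.update_self _ _ _
    have hP'ne : ∀ i, i ≠ k' → P' i = P i := fun i hi => Function.update_of_ne hi _ _
    have himg : ∀ j : Fin c, j ≤ k' → P' '' {i | i < j} = P '' {i | i < j} := fun j hj =>
      Set.image_congr fun i hi => hP'ne i (ne_of_lt (lt_of_lt_of_le hi hj))
    have hJ' : ∀ (R : Fin c → B), (∀ i, k' < i → R i = P i) → J ≤ Ideal.span (Set.range R) :=
      fun R hR => Ideal.span_le.2 (by rintro _ ⟨i, hi, rfl⟩; exact Ideal.subset_span ⟨i, hR i hi⟩)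
    refine ⟨P', ?_, fun j hj z hz => ?_⟩
    · rw [← hP]
      refine le_antisymm (Ideal.span_le.2 ?_) (Ideal.span_le.2 ?_) <;> rintro _ ⟨i, rfl⟩ <;>
        by_cases hi : i = k'
      · subst hi; rw [hP'k]
        exact add_mem (Ideal.subset_span ⟨_, rfl⟩) (hJ' P (fun _ _ => rfl) hyJ)
      · rw [hP'ne i hi]; exact Ideal.subset_span ⟨_, rfl⟩
      · subst hi
        rw [show P k' = P' k' - y by rw [hP'k]; ring]
        exact sub_mem (Ideal.subset_span ⟨_, rfl⟩) (hJ' P' (fun i hi => hP'ne i (ne_of_gt hi)) hyJ)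
      · rw [← hP'ne i hi]; exact Ideal.subset_span ⟨_, rfl⟩
    · have hjk : j ≤ k' := Fin.le_def.2 (Nat.lt_succ_iff.1 hj)
      rw [himg j hjk] at hz ⊢
      rcases lt_or_eq_of_le hjk with hlt | rfl
      · rw [hP'ne j (ne_of_lt hlt)] at hz; exact hreg j hlt z hz
      · rw [hP'k] at hz
        by_contra hz0
        have hmem : P k' + y ∈ ⋃ Q ∈ associatedPrimes B M, (Q : Set B) := by
          rw [biUnion_associatedPrimes_eq_zero_divisors]
          refine ⟨Submodule.Quotient.mk z, fun h => hz0 ((Submodule.Quotient.mk_eq_zero N).1 h), ?_⟩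
          rw [← Submodule.Quotient.mk_smul, Submodule.Quotient.mk_eq_zero, smul_eq_mul, mul_comm]
          exact hz
        simp only [Set.mem_iUnion] at hmem
        obtain ⟨Q, hQ, hQm⟩ := hmem
        exact hy Q (hfin.mem_toFinset.2 hQ) hQm

theorem exists_regular_presentation {A S : Type u} [CommRing A] [IsNoetherianRing A] [CommRing S]
    [Algebra A S] [Nontrivial S] (h : Synt29.IsStd A S) :
    ∃ (n d : ℕ) (P : Fin d → MvPolynomial (Fin n) A),
      IsRegular (MvPolynomial (Fin n) A) (List.ofFn P) ∧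
      Nonempty (S ≃ₐ[A] (MvPolynomial (Fin n) A ⧸ Ideal.ofList (List.ofFn P))) := by
  obtain ⟨n, d, F, hF, ⟨e⟩⟩ := h
  obtain ⟨P, hP, hreg⟩ := exists_regular F (fun P hP q _ hq => by
    refine Synt29.weaklyRegular_relGCI ?_ q hq
    intro p hp
    let e' : Synt.RelGCIRing A n d P ≃ₐ[A] Synt.RelGCIRing A n d F := Ideal.quotientEquivAlgOfEq A hP
    let e'' := Algebra.TensorProduct.congr (AlgEquiv.refl (R := p.asIdeal.ResidueField) (A₁ := p.asIdeal.ResidueField)) e'
    haveI : Nontrivial (p.asIdeal.Fiber (Synt.RelGCIRing A n d F)) := e''.symm.toEquiv.nontrivial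
    refine ⟨(hF p inferInstance).1, ?_⟩
    exact (ringKrullDim_eq_of_ringEquiv e''.toRingEquiv).trans (hF p inferInstance).2)
  have hlist : Ideal.ofList (List.ofFn P) = Ideal.span (Set.range F) := by
    rw [← hP]
    exact congrArg Ideal.span (Set.ext fun y => List.mem_ofFn)
  refine ⟨n, d, P, ⟨hreg, fun htop => ?_⟩, ⟨e.symm.trans (Ideal.quotientEquivAlgOfEq A hlist.symm)⟩⟩
  rw [smul_eq_mul, Ideal.mul_top, hlist] at htop
  haveI : Nontrivial (Synt.RelGCIRing A n d F) := e.toEquiv.nontrivial
  exact Ideal.Quotient.nontrivial_iff.1 this htop.symm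

end Groth.Agent.Calg46.GlobalRegSeq
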