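import Groth.Agent.S12124
import Mathlib.RingTheory.Localization.AsSubring
import Mathlib.RingTheory.Localization.Integral
import Mathlib.RingTheory.Ideal.Height

/-!
# The normalization as an intersection over height one primes of the base
-/

noncomputable section

namespace Groth.Agent.Calg46.HeightOneInter

universe u

variable {A : Type u} [CommRing A] [IsDomain A] [IsNoetherianRing A]
  {K : Type u} [Field K] [Algebra A K] [IsFractionRing A K]

/-- A finite birational algebra over a localization comes from one over the base. -/
theorem exists_subalgebra_localization (S : Submonoid A) (L : Subalgebra A K) [IsLocalization S L]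
    (C : Subalgebra L K) [Module.Finite L C] :
    ∃ D : Subalgebra A K, Module.Finite A D ∧ (∀ d ∈ D, d ∈ C) ∧
      ∀ c ∈ C, ∃ t ∈ S, algebraMap A K t * c ∈ D := by
  classical
  obtain ⟨G, hG⟩ := Module.Finite.fg_top (R := L) (M := C)
  haveI : Algebra.IsIntegral L C := Algebra.IsIntegral.of_finite L C
  have hint : ∀ g : C, ∃ t : S, IsIntegral A (t • (g : K)) := fun g =>
    IsIntegral.exists_multiple_integral_of_isLocalization S (g : K)
      ((Algebra.IsIntegral.isIntegral (R := L) g).map C.val)
  choose t ht using hint
  have hfin : ((fun g : C => t g • (g : K)) '' (G : Set C)).Finite := G.finite_toSet.image _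
  let D := Algebra.adjoin A ((fun g : C => t g • (g : K)) '' (G : Set C))
  refine ⟨D, Module.Finite.of_fg (fg_adjoin_of_finite hfin ?_), fun d hd => ?_, fun c hc => ?_⟩
  · rintro _ ⟨g, -, rfl⟩
    exact ht g
  · refine (Algebra.adjoin_le (S := C.restrictScalars A) ?_ : D ≤ C.restrictScalars A) hd
    rintro _ ⟨g, -, rfl⟩
    exact (C.restrictScalars A).smul_mem g.2 ((t g : A))
  · have hmem : (⟨c, hc⟩ : C) ∈ Submodule.span L (G : Set C) := by rw [hG]; exact Submodule.mem_top
    suffices key : ∀ x ∈ Submodule.span L (G : Set C), ∃ s ∈ S, algebraMap A K s * (x : K) ∈ D from key _ hmem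
    intro x hx
    induction hx using Submodule.span_induction with
    | mem g hg =>
      refine ⟨t g, (t g).2, ?_⟩
      rw [← Algebra.smul_def]
      exact Algebra.subset_adjoin ⟨g, hg, rfl⟩
    | zero => exact ⟨1, S.one_mem, by simp⟩
    | add x y _ _ hx hy =>
      obtain ⟨s, hs, hsx⟩ := hx
      obtain ⟨s', hs', hsy⟩ := hy
      refine ⟨s * s', S.mul_mem hs hs', ?_⟩
      have e : algebraMap A K (s * s') * ((x + y : C) : K) =
          algebraMap A K s' * (algebraMap A K s * (x : K)) + algebraMap A K s * (algebraMap A K s' * (y : K)) := by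
        show algebraMap A K (s * s') * ((x : K) + (y : K)) = _
        rw [map_mul]
        ring
      rw [e]
      exact D.add_mem (D.mul_mem (D.algebraMap_mem _) hsx) (D.mul_mem (D.algebraMap_mem _) hsy)
    | smul r x _ hx =>
      obtain ⟨s, hs, hsx⟩ := hx
      obtain ⟨⟨a, u⟩, hu⟩ := IsLocalization.surj S r
      refine ⟨u * s, S.mul_mem u.2 hs, ?_⟩
      have hu' : (r : K) * algebraMap A K u = algebraMap A K a := congrArg Subtype.val hu
      have e : algebraMap A K (u * s) * ((r • x : C) : K) = algebraMap A K a * (algebraMap A K s * (x : K)) := by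
        rw [Subalgebra.coe_smul, Algebra.smul_def, Subalgebra.algebraMap_def, map_mul, ← hu']
        show _ * ((r : K) * _) = _
        ring
      rw [e]
      exact D.mul_mem (D.algebraMap_mem _) hsx

/-- An element with denominators avoiding every height one prime is integral. -/
theorem isIntegral_of_forall (m : Ideal A) [m.IsMaximal]
    (h : ∀ D : Subalgebra A K, D ≤ integralClosure A K → Module.Finite A D →
      ∀ (q : Ideal D) [q.IsPrime], q.height = 1 → (q.comap (algebraMap A D)).height = 1)
    (x : K) (hx : ∀ p : Ideal A, ∀ [p.IsPrime], p.height = 1 →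
      ∃ s : A, s ∉ p ∧ IsIntegral A (algebraMap A K s * x)) :
    ∃ s : A, s ∉ m ∧ IsIntegral A (algebraMap A K s * x) := by
  let hS := m.primeCompl_le_nonZeroDivisors
  let L := Localization.subalgebra.ofField K m.primeCompl hS
  haveI : IsLocalization.AtPrime L m := Localization.subalgebra.isLocalization_ofField K m.primeCompl hS
  haveI : IsLocalRing L := IsLocalization.AtPrime.isLocalRing L m
  haveI : IsNoetherianRing L := IsLocalization.isNoetherianRing m.primeCompl L ‹_›
  haveI : IsFractionRing L K := Localization.subalgebra.isFractionRing_ofField K m.primeCompl hS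
  haveI : IsDomain L := inferInstance
  obtain ⟨C, hfin, hle, hsep⟩ := UnibConn.exists_separating (A := L) (K := K)
  haveI := hfin
  obtain ⟨D, hDfin, hDC, hCD⟩ := exists_subalgebra_localization m.primeCompl L C
  haveI := hDfin
  letI : Algebra D C := (RingHom.codRestrict D.val.toRingHom C fun d => hDC d.1 d.2).toAlgebra
  haveI hloc : IsLocalization (Algebra.algebraMapSubmonoid D m.primeCompl) C := by
    constructor; constructor
    · rintro ⟨_, t, ht, rfl⟩
      have hu : IsUnit (algebraMap A L t) := IsLocalization.map_units L ⟨t, ht⟩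
      exact (congrArg IsUnit (Subtype.ext (IsScalarTower.algebraMap_apply A L K t) :
        algebraMap D C (algebraMap A D t) = algebraMap L C (algebraMap A L t))).mpr (hu.map (algebraMap L C))
    · intro c
      obtain ⟨t, ht, htc⟩ := hCD c.1 c.2
      refine ⟨⟨⟨_, htc⟩, ⟨algebraMap A D t, t, ht, rfl⟩⟩, Subtype.ext ?_⟩
      show (c : K) * algebraMap A K t = algebraMap A K t * c
      ring
    · intro a b hab
      exact ⟨1, congrArg _ (Subtype.ext (congrArg (fun c : C => (c : K)) hab : (a : K) = b))⟩
  have hDle : D ≤ integralClosure A K := fun d hd =>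
    (Algebra.IsIntegral.isIntegral (R := A) (⟨d, hd⟩ : D)).map D.val
  have hint : IsIntegral L x := by
    refine S12124.partB C hle hsep x fun p _ hp => ?_
    haveI : (p.comap (algebraMap D C)).IsPrime := Ideal.IsPrime.comap _
    have h1 : (p.comap (algebraMap D C)).height = 1 := by
      rw [show p.comap (algebraMap D C) = p.under D from rfl,
        IsLocalization.height_under (Algebra.algebraMapSubmonoid D m.primeCompl) p, hp]
    have h2 := h D hDle hDfin (p.comap (algebraMap D C)) h1
    haveI : ((p.comap (algebraMap D C)).comap (algebraMap A D)).IsPrime := Ideal.IsPrime.comap _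
    obtain ⟨s, hs, hsx⟩ := hx _ h2
    refine ⟨algebraMap L C (algebraMap A L s), fun hm => hs ?_, ?_⟩
    · rw [Ideal.mem_comap, Ideal.mem_comap]
      rwa [show algebraMap D C (algebraMap A D s) = algebraMap L C (algebraMap A L s) from
        Subtype.ext (IsScalarTower.algebraMap_apply A L K s)]
    · show IsIntegral L (algebraMap L K (algebraMap A L s) * x)
      rw [← IsScalarTower.algebraMap_apply A L K]
      exact hsx.tower_top
  obtain ⟨t, ht⟩ := IsIntegral.exists_multiple_integral_of_isLocalization m.primeCompl x hint
  refine ⟨t, t.2, ?_⟩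
  rw [← Algebra.smul_def]
  exact ht

/-- Integrality can be tested with denominators prime to each maximal ideal. -/
theorem isIntegral_of_forall_maximal (x : K)
    (h : ∀ m : Ideal A, ∀ [m.IsMaximal], ∃ s : A, s ∉ m ∧ IsIntegral A (algebraMap A K s * x)) :
    IsIntegral A x := by
  let I : Ideal A :=
    { carrier := {s | IsIntegral A (algebraMap A K s * x)}
      add_mem' := fun {a b} ha hb => by
        show IsIntegral A (algebraMap A K (a + b) * x)
        rw [map_add, add_mul]; exact ha.add hb
      zero_mem' := by
        show IsIntegral A (algebraMap A K 0 * x)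
        rw [map_zero, zero_mul]; exact isIntegral_zero
      smul_mem' := fun c a ha => by
        show IsIntegral A (algebraMap A K (c * a) * x)
        rw [map_mul, mul_assoc]; exact isIntegral_algebraMap.mul ha }
  have hI : (1 : A) ∈ I := by
    by_contra h1
    obtain ⟨m, hm, hle⟩ := Ideal.exists_le_maximal I fun e => h1 (e ▸ Submodule.mem_top)
    obtain ⟨s, hs, hsx⟩ := @h m hm
    exact hs (hle hsx)
  simpa using show IsIntegral A (algebraMap A K 1 * x) from hI

end Groth.Agent.Calg46.HeightOneInter
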