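import Mathlib

/-!
# A Koszul argument: inclusions of `IⁿM` vanish after tensoring with a complex killed by `I`

For a differential module `(T, D)` on which multiplication by every element of `I` is null-homotopic,
and `n` large, every cycle of `IⁿM ⊗ T` becomes a boundary in `M ⊗ T`.
-/

set_option autoImplicit false
universe u

open TensorProduct

namespace Groth.Agent.Calg46.KoszulTorZero

variable {A : Type u} [CommRing A] {M : Type u} [AddCommGroup M] [Module A M]
  {T : Type u} [AddCommGroup T] [Module A T]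

/-- An iterated Koszul complex with coefficients in `M`, acting on `T`. -/
structure Sys (A : Type u) [CommRing A] (M : Type u) [AddCommGroup M] [Module A M] (T : Type u) [AddCommGroup T]
    [Module A T] (D : T →ₗ[A] T) (I : Ideal A) (l : List A) where
  V : Type u
  [grp : AddCommGroup V]
  [mod : Module A V]
  [fin : Module.Finite A M → Module.Finite A V]
  e : M →ₗ[A] V
  d : V →ₗ[A] V
  G : ℕ → Submodule A V
  r : ℕ
  H : V →ₗ[A] T →ₗ[A] M ⊗[A] T
  G_zero : G 0 = LinearMap.range e
  G_top : ∀ j, r < j → G j = ⊥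
  d_sq : d ∘ₗ d = 0
  d_G_zero : ∀ v ∈ G 0, d v = 0
  d_G_succ : ∀ j, ∀ v ∈ G (j + 1), d v ∈ I • G j
  s_exists : ∀ a ∈ l, ∃ s : V →ₗ[A] V, (∀ j, ∀ v ∈ G j, s v ∈ G (j + 1)) ∧ ∀ v, d (s v) + s (d v) = a • v
  H_e : ∀ m p, H (e m) p = m ⊗ₜ p
  H_comm : ∀ j, ∀ v ∈ G j, ∀ p, D.lTensor M (H v p) = H (d v) p + ((-1 : A) ^ j) • H v (D p)

attribute [instance] Sys.grp Sys.mod

variable (D : T →ₗ[A] T) (I : Ideal A)

/-- The complex for the empty list. -/
def nil : Sys A M T D I [] where
  V := M
  fin := id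
  e := LinearMap.id
  d := 0
  G := fun j => if j = 0 then ⊤ else ⊥
  r := 0
  H := TensorProduct.mk A M T
  G_zero := by simp
  G_top j hj := by simp [Nat.pos_iff_ne_zero.1 hj]
  d_sq := LinearMap.comp_zero _
  d_G_zero _ _ := rfl
  d_G_succ _ _ _ := zero_mem _
  s_exists a ha := absurd ha (by simp)
  H_e _ _ := rfl
  H_comm j v hv p := by
    rcases eq_or_ne j 0 with rfl | hj
    · simp
    · simp only [hj, if_false, Submodule.mem_bot] at hv
      subst hv; simp

/-- The cone on an element. -/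
def cons {l : List A} (S : Sys A M T D I l) {f : A} (hf : f ∈ I) {h : T →ₗ[A] T}
    (hh : ∀ p, D (h p) + h (D p) = f • p) : Sys A M T D I (f :: l) where
  V := S.V × S.V
  fin := fun hM => by haveI := S.fin hM; infer_instance
  e := LinearMap.inl A S.V S.V ∘ₗ S.e
  d := (S.d ∘ₗ LinearMap.fst A S.V S.V + f • LinearMap.snd A S.V S.V).prod (-(S.d ∘ₗ LinearMap.snd A S.V S.V))
  G := fun j => match j with
    | 0 => (S.G 0).prod ⊥
    | j + 1 => (S.G (j + 1)).prod (S.G j)
  r := S.r + 1
  H := S.H ∘ₗ LinearMap.fst A S.V S.V +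
    (LinearMap.llcomp A T (M ⊗[A] T) (M ⊗[A] T) (h.lTensor M)) ∘ₗ S.H ∘ₗ LinearMap.snd A S.V S.V
  G_zero := by
    show (S.G 0).prod ⊥ = _
    rw [S.G_zero, LinearMap.range_comp]
    ext ⟨a, b⟩
    simp [Submodule.mem_prod, eq_comm]
  G_top j hj := by
    obtain ⟨i, rfl⟩ : ∃ i, j = i + 1 := ⟨j - 1, by omega⟩
    show (S.G (i + 1)).prod (S.G i) = ⊥
    rw [S.G_top _ (by omega), S.G_top _ (by omega), Submodule.prod_bot]
  d_sq := LinearMap.ext fun v => by
    have h0 : ∀ x, S.d (S.d x) = 0 := LinearMap.congr_fun S.d_sq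
    simp [map_add, h0]
  d_G_zero v hv := by
    obtain ⟨ha, hb⟩ := hv
    rw [SetLike.mem_coe, Submodule.mem_bot] at hb
    simp [S.d_G_zero v.1 ha, hb]
  d_G_succ j v hv := by
    obtain ⟨ha, hb⟩ := hv
    have hprod : ∀ {X Y : Submodule A S.V} {x y : S.V}, x ∈ I • X → y ∈ I • Y → ((x, y) : S.V × S.V) ∈ I • X.prod Y := by
      intro X Y x y hx hy
      have h1 : ((x, 0) : S.V × S.V) ∈ I • X.prod Y := by
        have := Submodule.mem_map_of_mem (f := LinearMap.inl A S.V S.V) hx
        rw [Submodule.map_smul''] at this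
        refine Submodule.smul_mono le_rfl ?_ this
        rintro _ ⟨z, hz, rfl⟩
        exact ⟨hz, Y.zero_mem⟩
      have h2 : ((0, y) : S.V × S.V) ∈ I • X.prod Y := by
        have := Submodule.mem_map_of_mem (f := LinearMap.inr A S.V S.V) hy
        rw [Submodule.map_smul''] at this
        refine Submodule.smul_mono le_rfl ?_ this
        rintro _ ⟨z, hz, rfl⟩
        exact ⟨X.zero_mem, hz⟩
      simpa using add_mem h1 h2
    match j with
    | 0 =>
      have hb0 : S.d v.2 = 0 := S.d_G_zero v.2 hb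
      show (S.d v.1 + f • v.2, -S.d v.2) ∈ I • (S.G 0).prod ⊥
      exact hprod (add_mem (S.d_G_succ 0 _ ha) (Submodule.smul_mem_smul hf hb)) (by simp [hb0])
    | i + 1 =>
      show (S.d v.1 + f • v.2, -S.d v.2) ∈ I • (S.G (i + 1)).prod (S.G i)
      exact hprod (add_mem (S.d_G_succ (i + 1) _ ha) (Submodule.smul_mem_smul hf hb))
        (neg_mem (S.d_G_succ i _ hb))
  s_exists a ha := by
    rcases List.mem_cons.1 ha with rfl | ha
    · refine ⟨(0 : S.V × S.V →ₗ[A] S.V).prod (LinearMap.fst A S.V S.V), fun j v hv => ?_, fun v => ?_⟩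
      · match j with
        | 0 => exact ⟨zero_mem _, hv.1⟩
        | i + 1 => exact ⟨zero_mem _, hv.1⟩
      · ext <;> simp
    · obtain ⟨s, hs, hds⟩ := S.s_exists a ha
      refine ⟨(s ∘ₗ LinearMap.fst A S.V S.V).prod (-(s ∘ₗ LinearMap.snd A S.V S.V)), fun j v hv => ?_, fun v => ?_⟩
      · match j with
        | 0 =>
          obtain ⟨h1, h2⟩ := hv
          rw [SetLike.mem_coe, Submodule.mem_bot] at h2
          exact ⟨hs _ _ h1, by simp [h2]⟩
        | i + 1 => exact ⟨hs _ _ hv.1, neg_mem (hs _ _ hv.2)⟩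
      · refine Prod.ext ?_ ?_
        · show S.d (s v.1) + f • -s v.2 + s (S.d v.1 + f • v.2) = a • v.1
          rw [map_add, map_smul, ← hds v.1, smul_neg]
          abel
        · show -S.d (-s v.2) + -s (-S.d v.2) = a • v.2
          rw [map_neg, map_neg, neg_neg, neg_neg, ← hds v.2]
  H_e m p := by simp [S.H_e]
  H_comm j v hv p := by
    have hDh : ∀ z : M ⊗[A] T, D.lTensor M (h.lTensor M z) = f • z - h.lTensor M (D.lTensor M z) := by
      intro z
      rw [eq_sub_iff_add_eq]
      induction z using TensorProduct.induction_on with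
      | zero => simp
      | tmul m q => simp only [LinearMap.lTensor_tmul]; rw [← TensorProduct.tmul_add, hh, TensorProduct.tmul_smul]
      | add y z hy hz => simp only [map_add, smul_add, ← hy, ← hz]; abel
    show D.lTensor M (S.H v.1 p + h.lTensor M (S.H v.2 p)) = (S.H (S.d v.1 + f • v.2) p + h.lTensor M (S.H (-S.d v.2) p)) +
      ((-1 : A) ^ j) • (S.H v.1 (D p) + h.lTensor M (S.H v.2 (D p)))
    match j with
    | 0 =>
      obtain ⟨ha, hb⟩ := hv
      rw [SetLike.mem_coe, Submodule.mem_bot] at hb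
      rw [map_add, S.H_comm 0 v.1 ha p, hb]
      simp only [map_zero, LinearMap.zero_apply, smul_zero, add_zero, neg_zero]
    | i + 1 =>
      obtain ⟨ha, hb⟩ := hv
      rw [map_add (D.lTensor M), S.H_comm (i + 1) v.1 ha p, hDh, S.H_comm i v.2 hb p, map_add (h.lTensor M),
        map_smul (h.lTensor M), map_add S.H, LinearMap.add_apply, map_smul S.H, LinearMap.smul_apply, map_neg S.H,
        LinearMap.neg_apply, map_neg (h.lTensor M), pow_succ]
      module

theorem nonempty_sys (hI : ∀ a ∈ I, ∃ h : T →ₗ[A] T, ∀ p, D (h p) + h (D p) = a • p) :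
    ∀ l : List A, (∀ a ∈ l, a ∈ I) → Nonempty (Sys A M T D I l)
  | [], _ => ⟨nil D I⟩
  | f :: l, hl => by
    obtain ⟨S⟩ := nonempty_sys hI l fun a ha => hl a (List.mem_cons_of_mem _ ha)
    obtain ⟨h, hh⟩ := hI f (hl f List.mem_cons_self)
    exact ⟨cons D I S (hl f List.mem_cons_self) hh⟩

variable {D I}

/-- Artin–Rees: high `I`-adic pieces of the strands are exact. -/
theorem exists_exact [IsNoetherianRing A] [Module.Finite A M] {l : List A} (S : Sys A M T D I l)
    (hl : Ideal.span {a | a ∈ l} = I) (j : ℕ) :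
    ∃ k, ∀ m, k ≤ m → (I ^ (m + 1) • S.G j) ⊓ LinearMap.ker S.d ≤ (I ^ m • S.G (j + 1)).map S.d := by
  haveI := S.fin inferInstance
  obtain ⟨k, hk⟩ := I.exists_pow_inf_eq_pow_smul ((LinearMap.ker S.d).comap (S.G j).subtype)
  refine ⟨k, fun m hm => ?_⟩
  have hmap : ∀ p, (I ^ p • S.G j) ⊓ LinearMap.ker S.d =
      ((I ^ p • ⊤ : Submodule A (S.G j)) ⊓ (LinearMap.ker S.d).comap (S.G j).subtype).map (S.G j).subtype := by
    intro p
    rw [← Submodule.map_comap_eq_self (f := (S.G j).subtype) (q := (I ^ p • S.G j) ⊓ LinearMap.ker S.d)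
      (by rw [Submodule.range_subtype]; exact inf_le_left.trans Submodule.smul_le_right), Submodule.comap_inf]
    congr 2
    refine Submodule.map_injective_of_injective (S.G j).injective_subtype ?_
    rw [Submodule.map_comap_eq_self (by rw [Submodule.range_subtype]; exact Submodule.smul_le_right),
      Submodule.map_smul'', Submodule.map_top, Submodule.range_subtype]
  have hIW : I • ((I ^ k • S.G j) ⊓ LinearMap.ker S.d) ≤ (I ^ k • S.G (j + 1)).map S.d := by
    rw [Submodule.smul_le]
    intro a ha w hw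
    rw [← hl] at ha
    induction ha using Submodule.span_induction with
    | mem a ha =>
      obtain ⟨s, hs, hds⟩ := S.s_exists a ha
      refine ⟨s w, ?_, ?_⟩
      · have := Submodule.mem_map_of_mem (f := s) hw.1
        rw [Submodule.map_smul''] at this
        exact Submodule.smul_mono le_rfl (by rintro _ ⟨z, hz, rfl⟩; exact hs j z hz) this
      · have := hds w
        rwa [(LinearMap.mem_ker.1 hw.2), map_zero, add_zero] at this
    | zero => rw [zero_smul]; exact zero_mem _
    | add a b _ _ ha hb => rw [add_smul]; exact add_mem ha hb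
    | smul c a _ ha => rw [smul_assoc]; exact Submodule.smul_mem _ c ha
  obtain ⟨t, rfl⟩ := Nat.exists_eq_add_of_le hm
  rw [hmap, hk _ (by omega), Submodule.map_smul'', ← hmap, show k + t + 1 - k = t + 1 by omega, pow_succ,
    Submodule.mul_smul]
  refine (Submodule.smul_mono le_rfl hIW).trans ?_
  rw [← Submodule.map_smul'', ← Submodule.mul_smul, ← pow_add, add_comm t k]

/-- Tensoring a subquotient exact sequence with a flat module: lifting. -/
theorem exists_lift [Module.Flat A T] {V : Type u} [AddCommGroup V] [Module A V] (P P' : Submodule A V) (d : V →ₗ[A] V)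
    (hd : ∀ v ∈ P', d v ∈ P) (hdd : ∀ v, d (d v) = 0) (hex : P ⊓ LinearMap.ker d ≤ P'.map d)
    (u : P ⊗[A] T) (hu : (d ∘ₗ P.subtype).rTensor T u = 0) :
    ∃ z : P' ⊗[A] T, (d.restrict hd).rTensor T z = u := by
  have he : Function.Exact (d.restrict hd) (d ∘ₗ P.subtype) := fun x => by
    constructor
    · intro hx
      obtain ⟨y, hy, hyx⟩ := hex ⟨x.2, hx⟩
      exact ⟨⟨y, hy⟩, Subtype.ext hyx⟩
    · rintro ⟨y, rfl⟩
      exact hdd y.1
  exact (Module.Flat.rTensor_exact T he u).1 hu

/-- High cycles of `IⁿM ⊗ T` are boundaries in `M ⊗ T`. -/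
theorem exists_pow_cycle_boundary (A : Type u) [CommRing A] [IsNoetherianRing A] (M : Type u) [AddCommGroup M]
    [Module A M] [Module.Finite A M] (T : Type u) [AddCommGroup T] [Module A T] [Module.Flat A T] (D : T →ₗ[A] T)
    (hD : D ∘ₗ D = 0) (I : Ideal A) (hI : ∀ a ∈ I, ∃ h : T →ₗ[A] T, ∀ p, D (h p) + h (D p) = a • p) :
    ∃ n : ℕ, 0 < n ∧ ∀ u : (I ^ n • ⊤ : Submodule A M) ⊗[A] T, D.lTensor _ u = 0 →
      ∃ w : M ⊗[A] T, D.lTensor M w = (I ^ n • ⊤ : Submodule A M).subtype.rTensor T u := by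
  obtain ⟨sI, hsI⟩ := (IsNoetherian.noetherian I : I.FG)
  have hl : Ideal.span {a | a ∈ sI.toList} = I := by
    rw [← hsI]; congr 1; ext a; simp
  obtain ⟨S⟩ := nonempty_sys D I hI sI.toList (M := M) fun a ha => hl ▸ Ideal.subset_span ha
  choose k hk using exists_exact S hl
  obtain ⟨c, hc⟩ : ∃ c, ∀ j ≤ S.r, k j + j < c :=
    ⟨(Finset.range (S.r + 1)).sup (fun j => k j + j) + 1, fun j hj =>
      Nat.lt_succ_of_le (Finset.le_sup (f := fun j => k j + j) (Finset.mem_range.2 (Nat.lt_succ_of_le hj)))⟩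
  refine ⟨c, Nat.lt_of_le_of_lt (Nat.zero_le _) (hc 0 (Nat.zero_le _)), ?_⟩
  let Hl : S.V ⊗[A] T →ₗ[A] M ⊗[A] T := TensorProduct.lift S.H
  let W : ℕ → Submodule A S.V := fun j => I ^ (c - j) • S.G j
  have hWG : ∀ j, W j ≤ S.G j := fun j => Submodule.smul_le_right
  have hdd : ∀ v, S.d (S.d v) = 0 := LinearMap.congr_fun S.d_sq
  have key : ∀ i j, j + i = S.r + 1 → ∀ u : W j ⊗[A] T, (S.d ∘ₗ (W j).subtype).rTensor T u = 0 →
      D.lTensor _ u = 0 → Hl ((W j).subtype.rTensor T u) ∈ LinearMap.range (D.lTensor M) := by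
    intro i
    induction i with
    | zero =>
      intro j hj u _ _
      have h0 : (W j).subtype = 0 := LinearMap.ext fun x => by
        have := hWG j x.2
        rwa [S.G_top j (by omega), Submodule.mem_bot] at this
      rw [h0, LinearMap.rTensor_zero, LinearMap.zero_apply, map_zero]
      exact zero_mem _
    | succ i ih =>
      intro j hj u hu1 hu2
      have hjc : j < c := by
        have := hc j (by omega)
        omega
      have hd : ∀ v ∈ W (j + 1), S.d v ∈ W j := by
        intro v hv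
        have hle : (S.G (j + 1)).map S.d ≤ I • S.G j := by
          rintro _ ⟨z, hz, rfl⟩; exact S.d_G_succ j z hz
        have := Submodule.mem_map_of_mem (f := S.d) hv
        rw [Submodule.map_smul''] at this
        show S.d v ∈ I ^ (c - j) • S.G j
        rw [show c - j = c - (j + 1) + 1 by omega, pow_succ, Submodule.mul_smul]
        exact Submodule.smul_mono le_rfl hle this
      have hex : W j ⊓ LinearMap.ker S.d ≤ (W (j + 1)).map S.d := by
        have := hk j (c - j - 1) (by have := hc j (by omega); omega)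
        rwa [show c - j - 1 + 1 = c - j by omega, show c - j - 1 = c - (j + 1) by omega] at this
      obtain ⟨z, rfl⟩ := exists_lift (T := T) (W j) (W (j + 1)) S.d hd hdd hex u hu1
      let u' := D.lTensor (W (j + 1)) z
      have hu1' : (S.d ∘ₗ (W (j + 1)).subtype).rTensor T u' = 0 := by
        have h1 : S.d ∘ₗ (W (j + 1)).subtype = (W j).subtype ∘ₗ S.d.restrict hd := rfl
        rw [h1, LinearMap.rTensor_comp, LinearMap.comp_apply, ← LinearMap.comp_apply (f := (S.d.restrict hd).rTensor T),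
          LinearMap.rTensor_comp_lTensor, ← LinearMap.lTensor_comp_rTensor, LinearMap.comp_apply, hu2, map_zero]
      have hu2' : D.lTensor _ u' = 0 := by
        rw [← LinearMap.comp_apply, ← LinearMap.lTensor_comp, hD, LinearMap.lTensor_zero, LinearMap.zero_apply]
      obtain ⟨w, hw⟩ := ih (j + 1) (by omega) u' hu1' hu2'
      have hcomm : ∀ y : W (j + 1) ⊗[A] T, D.lTensor M (Hl ((W (j + 1)).subtype.rTensor T y)) =
          Hl ((W j).subtype.rTensor T ((S.d.restrict hd).rTensor T y)) +
            ((-1 : A) ^ (j + 1)) • Hl ((W (j + 1)).subtype.rTensor T (D.lTensor _ y)) := by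
        intro y
        induction y using TensorProduct.induction_on with
        | zero => simp
        | tmul v p => exact S.H_comm (j + 1) v.1 (hWG _ v.2) p
        | add a b ha hb => simp only [map_add, smul_add, ha, hb]; abel
      refine ⟨Hl ((W (j + 1)).subtype.rTensor T z) - ((-1 : A) ^ (j + 1)) • w, ?_⟩
      rw [map_sub, map_smul, hw, hcomm, add_sub_cancel_right]
  intro u hu
  have he : ∀ m ∈ (I ^ c • ⊤ : Submodule A M), S.e m ∈ W 0 := by
    intro m hm
    have := Submodule.mem_map_of_mem (f := S.e) hm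
    rwa [Submodule.map_smul'', Submodule.map_top, ← S.G_zero] at this
  let u0 := (S.e.restrict he).rTensor T u
  obtain ⟨w, hw⟩ := key (S.r + 1) 0 (Nat.zero_add _) u0 (by
    have h0 : S.d ∘ₗ (W 0).subtype = 0 := LinearMap.ext fun x => S.d_G_zero x.1 (hWG 0 x.2)
    rw [h0, LinearMap.rTensor_zero, LinearMap.zero_apply]) (by
    rw [← LinearMap.comp_apply, LinearMap.lTensor_comp_rTensor, ← LinearMap.rTensor_comp_lTensor, LinearMap.comp_apply,
      hu, map_zero])
  refine ⟨w, hw.trans ?_⟩
  show Hl ((W 0).subtype.rTensor T ((S.e.restrict he).rTensor T u)) = _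
  clear hu u0 hw
  induction u using TensorProduct.induction_on with
  | zero => simp
  | tmul m p => exact S.H_e m.1 p
  | add a b ha hb => simp only [map_add, ha, hb]

end Groth.Agent.Calg46.KoszulTorZero
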