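import Mathlib

/-!
# Descent of projective modules along faithfully flat maps, in matrix form

A descent datum on a direct summand of `R'^ι` is a natural family of matrices `G f₁ f₂` for pairs of
maps `R' → T` of `R`-algebras satisfying the cocycle identity.
-/

noncomputable section

namespace Groth.Agent.Calg46

universe u

open Matrix TensorProduct

variable (R R' : Type u) [CommRing R] [CommRing R'] [Algebra R R']

/-- A family of matrices indexed by pairs of maps out of `R'`, natural and multiplicative. -/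
structure MatDatum (ι : Type) [Fintype ι] where
  G : ∀ {T : Type u} [CommRing T] [Algebra R T], (R' →ₐ[R] T) → (R' →ₐ[R] T) → Matrix ι ι T
  natural : ∀ {T U : Type u} [CommRing T] [Algebra R T] [CommRing U] [Algebra R U] (g : T →ₐ[R] U)
    (f₁ f₂ : R' →ₐ[R] T), (G f₁ f₂).map g = G (g.comp f₁) (g.comp f₂)
  cocycle : ∀ {T : Type u} [CommRing T] [Algebra R T] (f₁ f₂ f₃ : R' →ₐ[R] T),
    G f₁ f₂ * G f₂ f₃ = G f₁ f₃

variable {R R'}

/-- Invariant row vectors. -/
def MatDatum.Invariant {ι : Type} [Fintype ι] (D : MatDatum R R' ι) (v : ι → R') : Prop :=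
  ∀ {T : Type u} [CommRing T] [Algebra R T] (f₁ f₂ : R' →ₐ[R] T), (f₁ ∘ v) ᵥ* D.G f₁ f₂ = f₂ ∘ v

theorem comp_vecMul {T U : Type u} [CommRing T] [CommRing U] {F : Type*} [FunLike F T U] [RingHomClass F T U]
    {ι κ : Type} [Fintype ι] (g : F) (v : ι → T) (M : Matrix ι κ T) :
    g ∘ (v ᵥ* M) = (g ∘ v) ᵥ* M.map g :=
  funext fun i => RingHom.map_vecMul (g : T →+* U) M v i

theorem MatDatum.invariant_of {ι : Type} [Fintype ι] (D : MatDatum R R' ι) (v : ι → R')
    (h : ((Algebra.TensorProduct.includeLeft : R' →ₐ[R] R' ⊗[R] R') ∘ v) ᵥ*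
        D.G (Algebra.TensorProduct.includeLeft : R' →ₐ[R] R' ⊗[R] R') Algebra.TensorProduct.includeRight =
      (Algebra.TensorProduct.includeRight : R' →ₐ[R] R' ⊗[R] R') ∘ v) :
    D.Invariant v := by
  intro T _ _ f₁ f₂
  have := congrArg (fun w => Algebra.TensorProduct.lift f₁ f₂ (fun _ _ => Commute.all _ _) ∘ w) h
  have e : (Algebra.TensorProduct.lift f₁ f₂ (fun _ _ => Commute.all _ _)).comp
      (Algebra.TensorProduct.includeRight : R' →ₐ[R] R' ⊗[R] R') = f₂ := AlgHom.ext fun a => by simp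
  simp only [comp_vecMul, D.natural, ← Function.comp_assoc, ← AlgHom.coe_comp, e] at this
  simpa only [Algebra.TensorProduct.lift_comp_includeLeft] using this

section Descent

variable {ι : Type} [Fintype ι]

/-- `R' ⊗ T^ι → (R' ⊗ T)^ι`. -/
abbrev pushIn (T : Type u) [CommRing T] [Algebra R T] :
    R' ⊗[R] (ι → T) ≃ₗ[R] (ι → R' ⊗[R] T) :=
  haveI := Classical.decEq ι
  TensorProduct.piRight R R R' (fun _ => T)

theorem pushIn_tmul (T : Type u) [CommRing T] [Algebra R T] (a : R') (v : ι → T) :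
    pushIn (R := R) T (a ⊗ₜ v) = fun i => a ⊗ₜ v i := by
  classical
  exact TensorProduct.piRight_apply ..

variable [Module.Flat R R']

/-- Invariant vectors span the image of the idempotent. -/
theorem MatDatum.mem_span_invariant (D : MatDatum R R' ι) (v : ι → R') :
    v ᵥ* D.G (AlgHom.id R R') (AlgHom.id R R') ∈ Submodule.span R' {w | D.Invariant w} := by
  classical
  let i₁ : R' →ₐ[R] R' ⊗[R] R' := Algebra.TensorProduct.includeLeft
  let i₂ : R' →ₐ[R] R' ⊗[R] R' := Algebra.TensorProduct.includeRight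
  let δ : (ι → R') →ₗ[R] (ι → R' ⊗[R] R') :=
    { toFun := fun w => (i₁ ∘ w) ᵥ* D.G i₁ i₂ - i₂ ∘ w
      map_add' := fun w w' => by
        have h1 : i₁ ∘ (w + w') = i₁ ∘ w + i₁ ∘ w' := funext fun i => map_add i₁ _ _
        have h2 : i₂ ∘ (w + w') = i₂ ∘ w + i₂ ∘ w' := funext fun i => map_add i₂ _ _
        rw [h1, h2, add_vecMul]; abel
      map_smul' := fun r w => by
        have h1 : i₁ ∘ (r • w) = r • (i₁ ∘ w) := funext fun i => map_smul i₁ r (w i)
        have h2 : i₂ ∘ (r • w) = r • (i₂ ∘ w) := funext fun i => map_smul i₂ r (w i)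
        rw [h1, h2, smul_vecMul, RingHom.id_apply, smul_sub] }
  have hexact : Function.Exact (LinearMap.ker δ).subtype δ := LinearMap.exact_subtype_ker_map δ
  have hex := Module.Flat.lTensor_exact R' hexact
  let j₁ : R' →ₐ[R] R' ⊗[R] (R' ⊗[R] R') := Algebra.TensorProduct.includeLeft
  let c : R' ⊗[R] R' →ₐ[R] R' ⊗[R] (R' ⊗[R] R') := Algebra.TensorProduct.includeRight
  let t₁₂ : R' ⊗[R] R' →ₐ[R] R' ⊗[R] (R' ⊗[R] R') := Algebra.TensorProduct.map (AlgHom.id R R') i₁
  let t₁₃ : R' ⊗[R] R' →ₐ[R] R' ⊗[R] (R' ⊗[R] R') := Algebra.TensorProduct.map (AlgHom.id R R') i₂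
  have hkey : ∀ z : R' ⊗[R] (ι → R'), pushIn (R' ⊗[R] R') (δ.lTensor R' z) =
      (t₁₂ ∘ pushIn R' z) ᵥ* (D.G i₁ i₂).map c - t₁₃ ∘ pushIn R' z := by
    intro z
    induction z using TensorProduct.induction_on with
    | zero =>
      simp only [map_zero]
      rw [show (t₁₂ ∘ (0 : ι → R' ⊗[R] R')) = 0 from funext fun i => map_zero _,
        show (t₁₃ ∘ (0 : ι → R' ⊗[R] R')) = 0 from funext fun i => map_zero _, zero_vecMul, sub_zero]
    | tmul a w =>
      rw [LinearMap.lTensor_tmul, pushIn_tmul, pushIn_tmul]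
      funext k
      simp only [δ, LinearMap.coe_mk, AddHom.coe_mk, Pi.sub_apply, Function.comp_apply, vecMul, dotProduct,
        TensorProduct.tmul_sub, TensorProduct.tmul_sum, Matrix.map_apply, t₁₂, t₁₃, c,
        Algebra.TensorProduct.map_tmul, AlgHom.id_apply, Algebra.TensorProduct.includeRight_apply,
        Algebra.TensorProduct.tmul_mul_tmul, mul_one]
    | add x y hx hy =>
      simp only [map_add, hx, hy]
      rw [show (t₁₂ ∘ (pushIn R' x + pushIn R' y)) = t₁₂ ∘ pushIn R' x + t₁₂ ∘ pushIn R' y from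
          funext fun i => map_add _ _ _,
        show (t₁₃ ∘ (pushIn R' x + pushIn R' y)) = t₁₃ ∘ pushIn R' x + t₁₃ ∘ pushIn R' y from
          funext fun i => map_add _ _ _, add_vecMul]
      abel
  let y : ι → R' ⊗[R] R' := (i₁ ∘ v) ᵥ* D.G i₁ i₂
  obtain ⟨z, hz⟩ : ∃ z, pushIn (R := R) R' z = y := (pushIn (R := R) R').surjective y
  have h0 : δ.lTensor R' z = 0 := by
    apply (pushIn (R := R) (R' ⊗[R] R')).injective
    rw [hkey, hz, map_zero, sub_eq_zero]
    simp only [y, comp_vecMul, D.natural, vecMul_vecMul]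
    have e1 : c.comp i₁ = t₁₂.comp i₂ := AlgHom.ext fun a => by simp [c, t₁₂, i₁, i₂]
    have e2 : c.comp i₂ = t₁₃.comp i₂ := AlgHom.ext fun a => by simp [c, t₁₃, i₂]
    have e3 : t₁₂.comp i₁ = t₁₃.comp i₁ := AlgHom.ext fun a => by simp [t₁₂, t₁₃, i₁, i₂]
    rw [e1, e2, D.cocycle]
    simp only [← Function.comp_assoc, ← AlgHom.coe_comp, e3]
  obtain ⟨ζ, rfl⟩ := (hex z).1 h0
  let μ : R' ⊗[R] R' →ₐ[R] R' := Algebra.TensorProduct.lift (AlgHom.id R R') (AlgHom.id R R') fun _ _ => Commute.all _ _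
  have hμ : ∀ ζ, μ ∘ pushIn R' ((LinearMap.ker δ).subtype.lTensor R' ζ) ∈
      Submodule.span R' {w | D.Invariant w} := by
    intro ζ
    induction ζ using TensorProduct.induction_on with
    | zero =>
      simp only [map_zero]
      rw [show (μ ∘ (0 : ι → R' ⊗[R] R')) = 0 from funext fun i => map_zero _]
      exact Submodule.zero_mem _
    | tmul a w =>
      have hw : D.Invariant (w : ι → R') := D.invariant_of _ (sub_eq_zero.1 (LinearMap.mem_ker.1 w.2))
      have : μ ∘ pushIn R' ((LinearMap.ker δ).subtype.lTensor R' (a ⊗ₜ w)) = a • (w : ι → R') := by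
        rw [LinearMap.lTensor_tmul, pushIn_tmul]
        funext i
        simp [μ]
      rw [this]
      exact Submodule.smul_mem _ a (Submodule.subset_span hw)
    | add x y hx hy =>
      simp only [map_add]
      rw [show μ ∘ (pushIn R' ((LinearMap.ker δ).subtype.lTensor R' x) + pushIn R' ((LinearMap.ker δ).subtype.lTensor R' y)) =
        μ ∘ pushIn R' ((LinearMap.ker δ).subtype.lTensor R' x) + μ ∘ pushIn R' ((LinearMap.ker δ).subtype.lTensor R' y) from
          funext fun i => map_add _ _ _]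
      exact Submodule.add_mem _ hx hy
  have := hμ ζ
  rw [hz] at this
  simp only [y, comp_vecMul, D.natural, ← Function.comp_assoc, ← AlgHom.coe_comp] at this
  simpa [μ, i₁, i₂] using this

end Descent

/-- An element equalised by the two inclusions comes from `R`. -/
theorem exists_eq_of_eqLocus [Module.FaithfullyFlat R R'] {r : R'}
    (h : ∀ (T : Type u) [CommRing T] [Algebra R T] (f₁ f₂ : R' →ₐ[R] T), f₁ r = f₂ r) :
    ∃ s, algebraMap R R' s = r := by
  have h' := h (R' ⊗[R] R') Algebra.TensorProduct.includeLeft Algebra.TensorProduct.includeRight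
  have := Algebra.IsEffective.eqLocus_includeLeft_includeRight (Algebra.IsEffective.of_faithfullyFlat R R')
  exact (Set.ext_iff.1 this r).1 h'

/-- Extension of a datum by a cocycle. -/
def MatDatum.extend {ι : Type} [Fintype ι] (D : MatDatum R R' ι)
    (d : ∀ {T : Type u} [CommRing T] [Algebra R T], (R' →ₐ[R] T) → (R' →ₐ[R] T) → ι → T)
    (dnat : ∀ {T U : Type u} [CommRing T] [Algebra R T] [CommRing U] [Algebra R U] (g : T →ₐ[R] U)
      (f₁ f₂ : R' →ₐ[R] T), g ∘ d f₁ f₂ = d (g.comp f₁) (g.comp f₂))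
    (dcoc : ∀ {T : Type u} [CommRing T] [Algebra R T] (f₁ f₂ f₃ : R' →ₐ[R] T),
      d f₁ f₂ ᵥ* D.G f₂ f₃ + d f₂ f₃ = d f₁ f₃) :
    MatDatum R R' (ι ⊕ Unit) where
  G := fun {T} _ _ f₁ f₂ => Matrix.fromBlocks (D.G f₁ f₂) 0 (Matrix.replicateRow Unit (d f₁ f₂)) 1
  natural := fun {T U} _ _ _ _ g f₁ f₂ => by
    rw [Matrix.fromBlocks_map, Matrix.map_zero _ (map_zero g), Matrix.map_one _ (map_zero g) (map_one g),
      D.natural, ← dnat]
    rfl
  cocycle := fun {T} _ _ f₁ f₂ f₃ => by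
    rw [Matrix.fromBlocks_multiply, D.cocycle]
    simp only [Matrix.mul_zero, Matrix.zero_mul, add_zero, zero_add, Matrix.one_mul, Matrix.mul_one]
    congr 1
    rw [← Matrix.replicateRow_vecMul, ← Matrix.replicateRow_add, dcoc]

/-- `H¹` of a descent datum of projective modules vanishes. -/
theorem MatDatum.exists_coboundary [Module.FaithfullyFlat R R'] {ι : Type} [Fintype ι] (D : MatDatum R R' ι)
    (d : ∀ {T : Type u} [CommRing T] [Algebra R T], (R' →ₐ[R] T) → (R' →ₐ[R] T) → ι → T)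
    (dnat : ∀ {T U : Type u} [CommRing T] [Algebra R T] [CommRing U] [Algebra R U] (g : T →ₐ[R] U)
      (f₁ f₂ : R' →ₐ[R] T), g ∘ d f₁ f₂ = d (g.comp f₁) (g.comp f₂))
    (dcoc : ∀ {T : Type u} [CommRing T] [Algebra R T] (f₁ f₂ f₃ : R' →ₐ[R] T),
      d f₁ f₂ ᵥ* D.G f₂ f₃ + d f₂ f₃ = d f₁ f₃) :
    ∃ e : ι → R', ∀ {T : Type u} [CommRing T] [Algebra R T] (f₁ f₂ : R' →ₐ[R] T),
      (f₁ ∘ e) ᵥ* D.G f₁ f₂ + d f₁ f₂ = f₂ ∘ e := by
  let H := D.extend d dnat dcoc
  have hsplit : ∀ (w : ι ⊕ Unit → R'), H.Invariant w →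
      (∀ {T : Type u} [CommRing T] [Algebra R T] (f₁ f₂ : R' →ₐ[R] T),
        (f₁ ∘ w ∘ Sum.inl) ᵥ* D.G f₁ f₂ + f₁ (w (Sum.inr ())) • d f₁ f₂ = f₂ ∘ w ∘ Sum.inl ∧
        f₁ (w (Sum.inr ())) = f₂ (w (Sum.inr ()))) := by
    intro w hw T _ _ f₁ f₂
    have h := hw f₁ f₂
    simp only [H, MatDatum.extend, vecMul_fromBlocks] at h
    refine ⟨?_, ?_⟩
    · funext i
      have := congrFun h (Sum.inl i)
      simpa [vecMul, dotProduct, Function.comp_def] using this
    · have := congrFun h (Sum.inr ())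
      simpa [vecMul, dotProduct, Function.comp_def] using this
  let inv : Submodule R (ι ⊕ Unit → R') := Submodule.span R {w | H.Invariant w}
  have hlast : ∃ w ∈ inv, w (Sum.inr ()) = 1 := by
    let I : Ideal R := Submodule.span R {t : R | ∃ w, H.Invariant w ∧ algebraMap R R' t = w (Sum.inr ())}
    have h1 : ((Sum.elim (0 : ι → R') fun _ => 1) ᵥ* H.G (AlgHom.id R R') (AlgHom.id R R')) (Sum.inr ()) = 1 := by
      simp [H, MatDatum.extend, vecMul_fromBlocks, vecMul, dotProduct]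
    have hI : (Submodule.span R' {w | H.Invariant w}) ≤
        Submodule.comap (LinearMap.proj (R := R') (φ := fun _ : ι ⊕ Unit => R') (Sum.inr ()))
          (I.map (algebraMap R R')) := by
      rw [Submodule.span_le]
      intro w hw
      obtain ⟨t, ht⟩ := exists_eq_of_eqLocus (R := R) fun T _ _ f₁ f₂ => (hsplit w hw f₁ f₂).2
      change w (Sum.inr ()) ∈ I.map (algebraMap R R')
      rw [← ht]
      exact Ideal.mem_map_of_mem _ (Submodule.subset_span ⟨w, hw, ht⟩)
    have h2 : (1 : R') ∈ I.map (algebraMap R R') := by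
      rw [← h1]
      exact hI (H.mem_span_invariant _)
    have h3 : (1 : R) ∈ I := by
      rw [← Ideal.comap_map_eq_self_of_faithfullyFlat (B := R') I]
      simpa [Ideal.mem_comap] using h2
    have h4 : I ≤ (Submodule.map (LinearMap.proj (R := R) (Sum.inr ()) : (ι ⊕ Unit → R') →ₗ[R] R') inv).comap
        (Algebra.linearMap R R') := by
      refine Submodule.span_le.2 ?_
      rintro t ⟨w, hw, ht⟩
      exact ⟨w, Submodule.subset_span hw, ht.symm⟩
    obtain ⟨w, hw, hw1⟩ := h4 h3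
    exact ⟨w, hw, by simpa using hw1⟩
  obtain ⟨w, hw, hw1⟩ := hlast
  have hwinv : H.Invariant w := by
    intro T _ _ f₁ f₂
    clear hw1
    induction hw using Submodule.span_induction with
    | mem x hx => exact hx f₁ f₂
    | zero => rw [show f₁ ∘ (0 : ι ⊕ Unit → R') = 0 from funext fun i => map_zero _,
        show f₂ ∘ (0 : ι ⊕ Unit → R') = 0 from funext fun i => map_zero _, zero_vecMul]
    | add x y _ _ hx hy => rw [show f₁ ∘ (x + y) = f₁ ∘ x + f₁ ∘ y from funext fun i => map_add _ _ _,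
        show f₂ ∘ (x + y) = f₂ ∘ x + f₂ ∘ y from funext fun i => map_add _ _ _, add_vecMul, hx, hy]
    | smul r x _ hx => rw [show f₁ ∘ (r • x) = r • (f₁ ∘ x) from funext fun i => map_smul f₁ r (x i),
        show f₂ ∘ (r • x) = r • (f₂ ∘ x) from funext fun i => map_smul f₂ r (x i), smul_vecMul, hx]
  refine ⟨w ∘ Sum.inl, fun {T} _ _ f₁ f₂ => ?_⟩
  have h := (hsplit w hwinv f₁ f₂).1
  rw [hw1, map_one, one_smul] at h
  exact h

end Groth.Agent.Calg46
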