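import Mathlib

/-!
# Matrices with nilpotent entries and descent of regularity
-/

noncomputable section

namespace Groth.Agent.Calg46

open Matrix TensorProduct

universe u

variable {A : Type u} [CommRing A] {κ : Type} [Fintype κ]

theorem isNilpotent_matrix [DecidableEq κ] {z : Matrix κ κ A} (h : ∀ i j, IsNilpotent (z i j)) : IsNilpotent z := by
  let I : Ideal A := Ideal.span (Set.range fun q : κ × κ => z q.1 q.2)
  have hI : IsNilpotent I := by
    classical
    refine (Ideal.FG.isNilpotent_iff_le_nilradical ⟨(Finset.univ.image fun q : κ × κ => z q.1 q.2), ?_⟩).2 ?_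
    · simp [I, Ideal.span, Set.image_univ]
    · exact Ideal.span_le.2 (by rintro _ ⟨q, rfl⟩; exact h q.1 q.2)
  obtain ⟨N, hN⟩ := hI
  refine ⟨N, ?_⟩
  have hk : ∀ k i j, (z ^ k) i j ∈ I ^ k := by
    intro k
    induction k with
    | zero => intro i j; simp [Ideal.one_eq_top]
    | succ k ih =>
      intro i j
      rw [pow_succ (a := z), Matrix.mul_apply, pow_succ]
      exact Ideal.sum_mem _ fun l _ =>
        Ideal.mul_mem_mul (ih i l) (Ideal.subset_span ⟨(l, j), rfl⟩)
  ext i j
  have := hk N i j
  rw [hN] at this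
  exact (Ideal.mem_bot).1 this

/-- An idempotent matrix with nilpotent entries vanishes. -/
theorem eq_zero_of_idempotent_of_nilpotent {z : Matrix κ κ A} (h : ∀ i j, IsNilpotent (z i j)) (hz : z * z = z) :
    z = 0 := by
  classical
  obtain ⟨N, hN⟩ := isNilpotent_matrix h
  have h2 : IsIdempotentElem z := hz
  rw [← h2.pow_succ_eq N, pow_succ, hN, zero_mul]

/-- A linear equation `A X A = A` solvable after a faithfully flat extension is solvable. -/
theorem exists_regular_of_faithfullyFlat {R R' : Type u} [CommRing R] [CommRing R'] [Algebra R R']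
    [Module.FaithfullyFlat R R'] {μ : Type} [Fintype μ] (M : Matrix κ μ R)
    (h : ∃ X : Matrix μ κ R', M.map (algebraMap R R') * X * M.map (algebraMap R R') = M.map (algebraMap R R')) :
    ∃ X : Matrix μ κ R, M * X * M = M := by
  classical
  obtain ⟨X', hX'⟩ := h
  let L : Matrix μ κ R →ₗ[R] Matrix κ μ R :=
    { toFun := fun X => M * X * M
      map_add' := fun X Y => by rw [Matrix.mul_add, Matrix.add_mul]
      map_smul' := fun r X => by rw [Matrix.mul_smul, Matrix.smul_mul, RingHom.id_apply] }
  suffices h : M ∈ LinearMap.range L by exact h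
  rw [← Submodule.Quotient.mk_eq_zero,
    ← Module.FaithfullyFlat.one_tmul_eq_zero_iff R (Matrix κ μ R ⧸ LinearMap.range L) (A := R')]
  let q := (LinearMap.range L).mkQ
  let Θ : Matrix κ μ R' →+ R' ⊗[R] (Matrix κ μ R ⧸ LinearMap.range L) :=
    { toFun := fun Z => ∑ a, ∑ b, Z a b ⊗ₜ q (Matrix.single a b 1)
      map_zero' := by simp
      map_add' := fun Y Z => by simp [TensorProduct.add_tmul, Finset.sum_add_distrib] }
  have h1 : ∀ Z : Matrix κ μ R, Θ (Z.map (algebraMap R R')) = 1 ⊗ₜ q Z := by
    intro Z
    conv_rhs => rw [matrix_eq_sum_single Z]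
    simp only [map_sum, TensorProduct.tmul_sum]
    refine Finset.sum_congr rfl fun a _ => Finset.sum_congr rfl fun b _ => ?_
    rw [Matrix.map_apply, Algebra.algebraMap_eq_smul_one, TensorProduct.smul_tmul, ← map_smul,
      Matrix.smul_single, smul_eq_mul, mul_one]
  have h2 : ∀ (c : μ) (d : κ) (x : R'), Θ (M.map (algebraMap R R') * Matrix.single c d x * M.map (algebraMap R R')) = 0 := by
    intro c d x
    have e : M.map (algebraMap R R') * Matrix.single c d x * M.map (algebraMap R R') =
        x • (M * Matrix.single c d (1 : R) * M).map (algebraMap R R') := by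
      have es : (Matrix.single c d (1 : R)).map (algebraMap R R') = Matrix.single c d 1 := by
        ext a b; simp [Matrix.single_apply, apply_ite (algebraMap R R')]
      rw [Matrix.map_mul, Matrix.map_mul, es, ← Matrix.smul_mul, ← Matrix.mul_smul,
        Matrix.smul_single, smul_eq_mul, mul_one]
    have hq : q (M * Matrix.single c d (1 : R) * M) = 0 :=
      (Submodule.Quotient.mk_eq_zero _).2 ⟨Matrix.single c d 1, rfl⟩
    have hsmul : ∀ Z, Θ (x • Z) = x • Θ Z := by
      intro Z
      show (∑ a, ∑ b, (x • Z) a b ⊗ₜ q (Matrix.single a b 1)) = x • ∑ a, ∑ b, Z a b ⊗ₜ q (Matrix.single a b 1)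
      simp only [Finset.smul_sum, TensorProduct.smul_tmul', Matrix.smul_apply]
    rw [e, hsmul, h1, hq, TensorProduct.tmul_zero, smul_zero]
  show 1 ⊗ₜ q M = 0
  rw [← h1, ← hX']
  conv_lhs => rw [matrix_eq_sum_single X']
  simp only [Matrix.mul_sum, Matrix.sum_mul, map_sum]
  exact Finset.sum_eq_zero fun c _ => Finset.sum_eq_zero fun d _ => h2 c d _

end Groth.Agent.Calg46
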