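import Groth.Agent.BrnchLib.HenzStrict
import Groth.Prelude.Def_CAlgX
import Groth.Agent.BrnchLib.NormBij
import Groth.Agent.BrnchLib.Unibranch

/-!
# Minimal primes of the base change of a birational cover to a (strict) henselization
-/

noncomputable section

namespace Groth.Agent.Calg46.MinBij

universe u

open IsLocalRing TensorProduct Groth.Agent.Hensel Groth.Agent.BrnchLib

set_option linter.style.haveILetI false

variable {A : Type u} [CommRing A] [IsLocalRing A] {S : Type u} [CommRing S] [IsLocalRing S] [Algebra A S]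
  [IsLocalHom (algebraMap A S)] {B : Type u} [CommRing B] [Algebra A B]

theorem eq_of_comap_eq
    (hmin : Set.BijOn (Ideal.comap (algebraMap A B)) (minimalPrimes B) (minimalPrimes A))
    (hbir : ∀ P ∈ minimalPrimes B, ∀ b : B, ∃ a a₀ : A, algebraMap A B a ∉ P ∧
      algebraMap A B a * b - algebraMap A B a₀ ∈ P)
    (Q0 Q0' : Ideal (S ⊗[A] B)) (hQ0 : Q0.IsPrime) (hQ0' : Q0'.IsPrime)
    (h1 : Q0.comap (Algebra.TensorProduct.includeRight : B →ₐ[A] S ⊗[A] B).toRingHom ∈ minimalPrimes B)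
    (h1' : Q0'.comap (Algebra.TensorProduct.includeRight : B →ₐ[A] S ⊗[A] B).toRingHom ∈ minimalPrimes B)
    (h : Q0.comap (algebraMap S (S ⊗[A] B)) = Q0'.comap (algebraMap S (S ⊗[A] B))) : Q0 = Q0' := by
  let iR : B →+* S ⊗[A] B := (Algebra.TensorProduct.includeRight : B →ₐ[A] S ⊗[A] B).toRingHom
  let iL : S →+* S ⊗[A] B := algebraMap S (S ⊗[A] B)
  have hcomm : iR.comp (algebraMap A B) = iL.comp (algebraMap A S) := RingHom.ext fun a => by
    simp only [iR, iL, AlgHom.toRingHom_eq_coe, RingHom.comp_apply, RingHom.coe_coe, AlgHom.commutes, ← IsScalarTower.algebraMap_apply]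
  let pts := {Q : Ideal (S ⊗[A] B) // Q.IsPrime ∧ Q.comap iR ∈ minimalPrimes B}
  have hq : ∀ Q : pts, (Q.1.comap iL).comap (algebraMap A S) = (Q.1.comap iR).comap (algebraMap A B) := fun Q => by
    rw [Ideal.comap_comap, Ideal.comap_comap, hcomm]
  suffices hsuff : ∀ Q Q' : pts, Q.1.comap iL = Q'.1.comap iL → Q = Q' from
    congrArg Subtype.val (hsuff ⟨Q0, hQ0, h1⟩ ⟨Q0', hQ0', h1'⟩ h)
  intro Q Q' h
  have hP : Q.1.comap iR = Q'.1.comap iR := hmin.injOn Q.2.2 Q'.2.2 (by
    change (Q.1.comap iR).comap _ = (Q'.1.comap iR).comap _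
    rw [← hq, ← hq, h])
  have key : ∀ x : S ⊗[A] B, ∃ (a : A) (s : S), algebraMap A B a ∉ Q.1.comap iR ∧
      iR (algebraMap A B a) * x - iL s ∈ (Q.1.comap iR).map iR := fun x => by
    induction x using TensorProduct.induction_on with
    | zero => exact ⟨1, 0, by rw [map_one]; exact fun h => Q.2.2.1.1.ne_top ((Ideal.eq_top_iff_one _).2 h), by simp⟩
    | tmul s b =>
      obtain ⟨a, a₀, ha, hab⟩ := hbir _ Q.2.2 b
      refine ⟨a, algebraMap A S a₀ * s, ha, ?_⟩
      have e : iR (algebraMap A B a) * s ⊗ₜ[A] b - iL (algebraMap A S a₀ * s) =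
          iL s * iR (algebraMap A B a * b - algebraMap A B a₀) := by
        rw [show s ⊗ₜ[A] b = iL s * iR b by simp [iL, iR], map_sub, map_mul iR, map_mul iL,
          ← RingHom.comp_apply iL, ← hcomm, RingHom.comp_apply]
        ring
      rw [e]
      exact Ideal.mul_mem_left _ _ (Ideal.mem_map_of_mem _ hab)
    | add x y hx hy =>
      obtain ⟨a, s, ha, has⟩ := hx
      obtain ⟨c, t, hc, hct⟩ := hy
      refine ⟨a * c, algebraMap A S c * s + algebraMap A S a * t,
        by rw [map_mul]; exact Q.2.2.1.1.mul_notMem ha hc, ?_⟩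
      have e : iR (algebraMap A B (a * c)) * (x + y) - iL (algebraMap A S c * s + algebraMap A S a * t) =
          iR (algebraMap A B c) * (iR (algebraMap A B a) * x - iL s) +
            iR (algebraMap A B a) * (iR (algebraMap A B c) * y - iL t) := by
        have e2 : ∀ r, iL (algebraMap A S r) = iR (algebraMap A B r) := fun r => (RingHom.congr_fun hcomm r).symm
        rw [map_mul, map_mul, map_add iL, map_mul iL, map_mul iL, e2, e2]
        ring
      rw [e]
      exact add_mem (Ideal.mul_mem_left _ _ has) (Ideal.mul_mem_left _ _ hct)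
  refine Subtype.ext (Ideal.ext fun x => ?_)
  obtain ⟨a, s, ha, has⟩ := key x
  have e1 : iR (algebraMap A B a) * x - iL s ∈ Q.1 := (Ideal.map_le_iff_le_comap.2 le_rfl) has
  have e2 : iR (algebraMap A B a) * x - iL s ∈ Q'.1 := (Ideal.map_le_iff_le_comap.2 hP.le) has
  have i1 : x ∈ Q.1 ↔ iL s ∈ Q.1 := by
    haveI := Q.2.1
    constructor
    · intro hx
      simpa using Q.1.sub_mem (Q.1.mul_mem_left (iR (algebraMap A B a)) hx) e1
    · intro hs
      have := Q.1.add_mem e1 hs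
      rw [sub_add_cancel] at this
      exact (Q.2.1.mem_or_mem this).resolve_left fun h => ha h
  have i2 : x ∈ Q'.1 ↔ iL s ∈ Q'.1 := by
    constructor
    · intro hx
      simpa using Q'.1.sub_mem (Q'.1.mul_mem_left (iR (algebraMap A B a)) hx) e2
    · intro hs
      have := Q'.1.add_mem e2 hs
      rw [sub_add_cancel] at this
      exact (Q'.2.1.mem_or_mem this).resolve_left fun h => ha (hP ▸ h)
  rw [i1, i2]
  exact SetLike.ext_iff.1 h s

theorem exists_prime_over (hH : Groth.Agent.Hensel.IsHenzLike A S)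
    (hmin : Set.BijOn (Ideal.comap (algebraMap A B)) (minimalPrimes B) (minimalPrimes A))
    (hbir : ∀ P ∈ minimalPrimes B, ∀ b : B, ∃ a a₀ : A, algebraMap A B a ∉ P ∧
      algebraMap A B a * b - algebraMap A B a₀ ∈ P)
    (q : Ideal S) (hq' : q ∈ minimalPrimes S) :
    ∃ Q : Ideal (S ⊗[A] B), Q.IsPrime ∧
      Q.comap (Algebra.TensorProduct.includeRight : B →ₐ[A] S ⊗[A] B).toRingHom ∈ minimalPrimes B ∧
      Q.comap (algebraMap S (S ⊗[A] B)) = q := by
  let iR : B →+* S ⊗[A] B := (Algebra.TensorProduct.includeRight : B →ₐ[A] S ⊗[A] B).toRingHom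
  haveI := hq'.1.1
  obtain ⟨P, hP, hPp⟩ := hmin.surjOn ((mem_minimalPrimes_iff_comap hH).1 hq')
  haveI := hP.1.1
  haveI hPover : P.LiesOver (q.comap (algebraMap A S)) := ⟨hPp.symm⟩
  let p := q.comap (algebraMap A S)
  let eP : p.ResidueField →+* P.ResidueField :=
    Ideal.ResidueField.map p P (algebraMap A B) hPp.symm
  have heP : Function.Surjective eP := fun y => by
    obtain ⟨⟨b₁, b₂⟩, hb⟩ := IsLocalization.surj (nonZeroDivisors (B ⧸ P)) y
    obtain ⟨b₁, rfl⟩ := Ideal.Quotient.mk_surjective b₁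
    obtain ⟨b₂', hb₂'⟩ := Ideal.Quotient.mk_surjective (b₂ : B ⧸ P)
    obtain ⟨a₁, c₁, h1, h1'⟩ := hbir P hP b₁
    obtain ⟨a₂, c₂, h2, h2'⟩ := hbir P hP b₂'
    have hne : ∀ a, algebraMap A B a ∉ P → algebraMap B P.ResidueField (algebraMap A B a) ≠ 0 := fun a h => by
      rwa [Ne, Ideal.algebraMap_residueField_eq_zero]
    have e1 : algebraMap B P.ResidueField (algebraMap A B a₁) * algebraMap B P.ResidueField b₁ = algebraMap B P.ResidueField (algebraMap A B c₁) := by
      rw [← map_mul, ← sub_eq_zero, ← map_sub, Ideal.algebraMap_residueField_eq_zero]; exact h1'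
    have e2 : algebraMap B P.ResidueField (algebraMap A B a₂) * algebraMap B P.ResidueField b₂' = algebraMap B P.ResidueField (algebraMap A B c₂) := by
      rw [← map_mul, ← sub_eq_zero, ← map_sub, Ideal.algebraMap_residueField_eq_zero]; exact h2'
    have hb' : y * algebraMap B P.ResidueField b₂' = algebraMap B P.ResidueField b₁ := by
      rw [IsScalarTower.algebraMap_apply B (B ⧸ P) P.ResidueField, IsScalarTower.algebraMap_apply B (B ⧸ P) P.ResidueField b₁,
        Ideal.Quotient.algebraMap_eq, hb₂']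
      exact hb
    have hb2 : algebraMap B P.ResidueField b₂' ≠ 0 := by
      rw [IsScalarTower.algebraMap_apply B (B ⧸ P) P.ResidueField, Ideal.Quotient.algebraMap_eq, hb₂']
      exact IsFractionRing.to_map_ne_zero_of_mem_nonZeroDivisors b₂.2
    refine ⟨(algebraMap A p.ResidueField c₁ * algebraMap A p.ResidueField a₂) / (algebraMap A p.ResidueField a₁ * algebraMap A p.ResidueField c₂), ?_⟩
    have em : ∀ a, eP (algebraMap A p.ResidueField a) = algebraMap B P.ResidueField (algebraMap A B a) := fun a =>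
      Ideal.ResidueField.map_algebraMap _ _ _ _ a
    rw [map_div₀, map_mul, map_mul, em, em, em, em, div_eq_iff, ← e1, ← e2, ← hb']
    · ring
    · refine mul_ne_zero (hne _ h1) ?_
      rw [← e2]; exact mul_ne_zero (hne _ h2) hb2
  let eP' := RingEquiv.ofBijective eP ⟨eP.injective, heP⟩
  let qm : p.ResidueField →+* q.ResidueField := Ideal.ResidueField.map p q (algebraMap A S) rfl
  let fB : B →+* q.ResidueField := qm.comp (eP'.symm.toRingHom.comp (algebraMap B P.ResidueField))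
  have hfB : ∀ a, fB (algebraMap A B a) = algebraMap A q.ResidueField a := fun a => by
    have : eP'.symm (algebraMap B P.ResidueField (algebraMap A B a)) = algebraMap A p.ResidueField a := by
      rw [RingEquiv.symm_apply_eq]; exact (Ideal.ResidueField.map_algebraMap _ _ _ _ a).symm
    simp only [fB, RingHom.comp_apply, RingEquiv.toRingHom_eq_coe, RingHom.coe_coe, this]
    exact (Ideal.ResidueField.map_algebraMap _ _ _ _ a).trans (IsScalarTower.algebraMap_apply A S q.ResidueField a).symm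
  let ψ : S ⊗[A] B →ₐ[A] q.ResidueField := Algebra.TensorProduct.lift
    { algebraMap S q.ResidueField with commutes' := fun a => (IsScalarTower.algebraMap_apply A S q.ResidueField a).symm } { fB with commutes' := hfB } fun _ _ => Commute.all _ _
  have hR : (RingHom.ker ψ).comap iR = P := Ideal.ext fun b => by
    simp [iR, ψ, fB, map_eq_zero, Ideal.algebraMap_residueField_eq_zero]
  refine ⟨RingHom.ker ψ, RingHom.ker_isPrime _, hR ▸ hP, Ideal.ext fun s => ?_⟩
  simp [ψ, Ideal.algebraMap_residueField_eq_zero]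

/-- A minimal prime of the base change lies over a minimal prime of the cover. -/
theorem comap_includeRight_mem (hH : Groth.Agent.Hensel.IsHenzLike A S) {P : Ideal (S ⊗[A] B)}
    (hP : P ∈ minimalPrimes (S ⊗[A] B)) :
    P.comap (Algebra.TensorProduct.includeRight : B →ₐ[A] S ⊗[A] B).toRingHom ∈ minimalPrimes B := by
  have := hH.faithfullyFlat
  let iR : B →+* S ⊗[A] B := (Algebra.TensorProduct.includeRight : B →ₐ[A] S ⊗[A] B).toRingHom
  letI : Algebra B (S ⊗[A] B) := iR.toAlgebra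
  haveI : Module.Flat B (S ⊗[A] B) :=
    Module.Flat.of_linearEquiv (M := B ⊗[A] S)
      (LinearEquiv.symm
        { (Algebra.TensorProduct.comm A B S).toAddEquiv with
          map_smul' := fun b x => by
            change Algebra.TensorProduct.comm A B S (b • x) = iR b * Algebra.TensorProduct.comm A B S x
            rw [Algebra.smul_def, map_mul]
            simp [iR] })
  haveI := hP.1.1
  refine ⟨⟨Ideal.IsPrime.comap _, bot_le⟩, ?_⟩
  rintro q ⟨hq, -⟩ hle
  haveI := hq
  haveI : P.LiesOver (P.comap iR) := ⟨rfl⟩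
  obtain ⟨Q, hQle, hQ, ho⟩ := Ideal.exists_ideal_le_liesOver_of_le (p := q) (q := P.comap iR) P hle
  exact (Ideal.comap_mono (f := iR) (hP.2 ⟨hQ, bot_le⟩ hQle)).trans (le_of_eq ho.over.symm)

/-- Contraction is a bijection on minimal primes. -/
theorem bijOn (hH : Groth.Agent.Hensel.IsHenzLike A S)
    (hmin : Set.BijOn (Ideal.comap (algebraMap A B)) (minimalPrimes B) (minimalPrimes A))
    (hbir : ∀ P ∈ minimalPrimes B, ∀ b : B, ∃ a a₀ : A, algebraMap A B a ∉ P ∧
      algebraMap A B a * b - algebraMap A B a₀ ∈ P) :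
    Set.BijOn (Ideal.comap (algebraMap S (S ⊗[A] B))) (minimalPrimes (S ⊗[A] B)) (minimalPrimes S) := by
  let iR : B →+* S ⊗[A] B := (Algebra.TensorProduct.includeRight : B →ₐ[A] S ⊗[A] B).toRingHom
  let iL : S →+* S ⊗[A] B := algebraMap S (S ⊗[A] B)
  have hcomm : iR.comp (algebraMap A B) = iL.comp (algebraMap A S) := RingHom.ext fun a => by
    simp only [iR, iL, AlgHom.toRingHom_eq_coe, RingHom.comp_apply, RingHom.coe_coe, AlgHom.commutes, ← IsScalarTower.algebraMap_apply]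
  refine ⟨fun P hP => ?_, fun P hP P' hP' h => ?_, fun q hq => ?_⟩
  · haveI := hP.1.1
    haveI : (P.comap iL).IsPrime := Ideal.IsPrime.comap iL
    rw [mem_minimalPrimes_iff_comap hH, Ideal.comap_comap, ← hcomm, ← Ideal.comap_comap]
    exact hmin.mapsTo (comap_includeRight_mem hH hP)
  · exact eq_of_comap_eq hmin hbir P P' hP.1.1 hP'.1.1 (comap_includeRight_mem hH hP)
      (comap_includeRight_mem hH hP') h
  · obtain ⟨Q, hQ, hQB, hQS⟩ := exists_prime_over hH hmin hbir q hq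
    refine ⟨Q, ⟨⟨hQ, bot_le⟩, ?_⟩, hQS⟩
    rintro Q' ⟨hQ', -⟩ hle
    haveI := hQ'
    haveI := hQ
    have h1 : Q'.comap iR = Q.comap iR :=
      le_antisymm (Ideal.comap_mono hle) (hQB.2 ⟨Ideal.IsPrime.comap iR, bot_le⟩ (Ideal.comap_mono hle))
    have h2 : Q'.comap iL = Q.comap iL :=
      le_antisymm (Ideal.comap_mono hle) ((le_of_eq hQS).trans
        (hq.2 ⟨Ideal.IsPrime.comap iL, bot_le⟩ ((Ideal.comap_mono hle).trans (le_of_eq hQS))))
    exact (eq_of_comap_eq hmin hbir Q' Q hQ' hQ (h1 ▸ hQB) hQB h2).ge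

/-- Minimal and maximal primes of the base change correspond. -/
theorem existsUnique_maximal_and_minimal [HenselianLocalRing S] [Algebra.IsIntegral A B]
    (hdom : ∀ n : Ideal (S ⊗[A] B), ∀ [n.IsMaximal], IsDomain (Localization.AtPrime n)) :
    (∀ q ∈ minimalPrimes (S ⊗[A] B), ∃! m : Ideal (S ⊗[A] B), m.IsMaximal ∧ q ≤ m) ∧
      (∀ m : Ideal (S ⊗[A] B), m.IsMaximal →
        ∃! q : Ideal (S ⊗[A] B), q ∈ minimalPrimes (S ⊗[A] B) ∧ q ≤ m) := by
  refine ⟨fun q hq => ?_, fun m hm => ?_⟩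
  · haveI := hq.1.1
    haveI : IsLocalRing ((S ⊗[A] B) ⧸ q) := isLocalRing_of_isIntegral_domain S _
    obtain ⟨M, hM, hMle⟩ := Ideal.exists_le_maximal q hq.1.1.ne_top
    have key : ∀ N : Ideal (S ⊗[A] B), N.IsMaximal → q ≤ N →
        N = (maximalIdeal ((S ⊗[A] B) ⧸ q)).comap (Ideal.Quotient.mk q) := fun N hN hle => by
      have hk : RingHom.ker (Ideal.Quotient.mk q) ≤ N := Ideal.mk_ker.trans_le hle
      rw [← IsLocalRing.eq_maximalIdeal (Ideal.IsMaximal.map_of_surjective_of_ker_le Ideal.Quotient.mk_surjective hk),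
        Ideal.comap_map_of_surjective _ Ideal.Quotient.mk_surjective, ← RingHom.ker_eq_comap_bot, Ideal.mk_ker,
        sup_eq_left.2 hle]
    exact ⟨M, ⟨hM, hMle⟩, fun N ⟨hN, hle⟩ => (key N hN hle).trans (key M hM hMle).symm⟩
  · haveI := hm
    haveI := hdom m
    let Q₀ := RingHom.ker (algebraMap (S ⊗[A] B) (Localization.AtPrime m))
    haveI hQ₀ : Q₀.IsPrime := RingHom.ker_isPrime _
    have hle : ∀ R : Ideal (S ⊗[A] B), R.IsPrime → R ≤ m → Q₀ ≤ R := fun R hR hRm x hx => by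
      obtain ⟨c, hc⟩ := (IsLocalization.map_eq_zero_iff m.primeCompl _ x).1 hx
      exact (hR.mem_or_mem (hc ▸ R.zero_mem : (c : S ⊗[A] B) * x ∈ R)).resolve_left fun h => c.2 (hRm h)
    obtain ⟨q, hq, hqm⟩ := Ideal.exists_minimalPrimes_le (bot_le : (⊥ : Ideal (S ⊗[A] B)) ≤ m)
    refine ⟨q, ⟨hq, hqm⟩, fun q' ⟨hq', hq'm⟩ => ?_⟩
    have h1 := hle q hq.1.1 hqm
    have h2 := hle q' hq'.1.1 hq'm
    exact (le_antisymm (hq'.2 ⟨hQ₀, bot_le⟩ h2) h2).trans (le_antisymm (hq.2 ⟨hQ₀, bot_le⟩ h1) h1).symm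

section transfer

variable {T T' : Type u} [CommRing T] [CommRing T'] (e : T ≃+* T')

/-- Contraction along a ring equivalence, as an equivalence. -/
def comapEquiv : Ideal T' ≃o Ideal T where
  toFun I := I.comap e.toRingHom
  invFun I := I.comap e.symm.toRingHom
  left_inv I := Ideal.ext fun x => by
    show e (e.symm x) ∈ I ↔ x ∈ I
    rw [RingEquiv.apply_symm_apply]
  right_inv I := Ideal.ext fun x => by
    show e.symm (e x) ∈ I ↔ x ∈ I
    rw [RingEquiv.symm_apply_apply]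
  map_rel_iff' {I J} := ⟨fun h x hx => by
    have h1 : e.symm x ∈ I.comap e.toRingHom := by
      show e (e.symm x) ∈ I
      rwa [RingEquiv.apply_symm_apply]
    have h2 : e (e.symm x) ∈ J := h h1
    rwa [RingEquiv.apply_symm_apply] at h2, fun h => Ideal.comap_mono h⟩

theorem comapEquiv_mem_minimalPrimes {P : Ideal T'} :
    comapEquiv e P ∈ minimalPrimes T ↔ P ∈ minimalPrimes T' := by
  have hp : ∀ Q : Ideal T', (comapEquiv e Q).IsPrime ↔ Q.IsPrime := fun Q => by
    refine ⟨fun h => ?_, fun h => Ideal.IsPrime.comap _⟩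
    have := h.comap e.symm.toRingHom
    rwa [show (comapEquiv e Q).comap e.symm.toRingHom = Q from (comapEquiv e).symm_apply_apply Q] at this
  constructor
  · intro h
    refine ⟨⟨(hp P).1 h.1.1, bot_le⟩, ?_⟩
    rintro Q ⟨hQ, -⟩ hle
    exact (comapEquiv e).le_iff_le.1 (h.2 ⟨(hp Q).2 hQ, bot_le⟩ ((comapEquiv e).le_iff_le.2 hle))
  · intro h
    refine ⟨⟨(hp P).2 h.1.1, bot_le⟩, ?_⟩
    rintro Q ⟨hQ, -⟩ hle
    obtain ⟨Q, rfl⟩ := (comapEquiv e).surjective Q
    exact (comapEquiv e).le_iff_le.2 (h.2 ⟨(hp Q).1 hQ, bot_le⟩ ((comapEquiv e).le_iff_le.1 hle))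

theorem comapEquiv_isMaximal {P : Ideal T'} : (comapEquiv e P).IsMaximal ↔ P.IsMaximal := by
  rw [Ideal.isMaximal_def, Ideal.isMaximal_def]
  exact (comapEquiv e).isCoatom_iff P

end transfer

/-- The bijection with the cover written on the left. -/
theorem bijOn_comm
    (h : Set.BijOn (Ideal.comap (algebraMap S (S ⊗[A] B))) (minimalPrimes (S ⊗[A] B)) (minimalPrimes S)) :
    Set.BijOn (fun P : Ideal (B ⊗[A] S) =>
        P.comap (Algebra.TensorProduct.includeRight.toRingHom : S →+* B ⊗[A] S))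
      (minimalPrimes (B ⊗[A] S)) (minimalPrimes S) := by
  let e : S ⊗[A] B ≃+* B ⊗[A] S := (Algebra.TensorProduct.comm A S B).toRingEquiv
  have hfun : ∀ P : Ideal (B ⊗[A] S), (comapEquiv e P).comap (algebraMap S (S ⊗[A] B)) =
      P.comap (Algebra.TensorProduct.includeRight.toRingHom : S →+* B ⊗[A] S) := fun P =>
    Ideal.ext fun s => by simp [comapEquiv, e]
  refine ⟨fun P hP => ?_, fun P hP P' hP' he => ?_, fun q hq => ?_⟩
  · exact (congrArg (· ∈ minimalPrimes S) (hfun P)).mp (h.mapsTo ((comapEquiv_mem_minimalPrimes e).2 hP))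
  · exact (comapEquiv e).injective (h.injOn ((comapEquiv_mem_minimalPrimes e).2 hP)
      ((comapEquiv_mem_minimalPrimes e).2 hP') ((hfun P).trans (he.trans (hfun P').symm)))
  · obtain ⟨Q, hQ, hQq⟩ := h.surjOn hq
    obtain ⟨P, rfl⟩ := (comapEquiv e).surjective Q
    exact ⟨P, (comapEquiv_mem_minimalPrimes e).1 hQ, (hfun P).symm.trans hQq⟩

/-- The correspondence with the cover written on the left. -/
theorem existsUnique_comm
    (h : (∀ q ∈ minimalPrimes (S ⊗[A] B), ∃! m : Ideal (S ⊗[A] B), m.IsMaximal ∧ q ≤ m) ∧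
      (∀ m : Ideal (S ⊗[A] B), m.IsMaximal →
        ∃! q : Ideal (S ⊗[A] B), q ∈ minimalPrimes (S ⊗[A] B) ∧ q ≤ m)) :
    (∀ q ∈ minimalPrimes (B ⊗[A] S), ∃! m : Ideal (B ⊗[A] S), m.IsMaximal ∧ q ≤ m) ∧
      (∀ m : Ideal (B ⊗[A] S), m.IsMaximal →
        ∃! q : Ideal (B ⊗[A] S), q ∈ minimalPrimes (B ⊗[A] S) ∧ q ≤ m) := by
  let f := comapEquiv (Algebra.TensorProduct.comm A S B).toRingEquiv
  refine ⟨fun q hq => ?_, fun m hm => ?_⟩
  · obtain ⟨M, ⟨hM, hMle⟩, huni⟩ := h.1 (f q) ((comapEquiv_mem_minimalPrimes _).2 hq)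
    obtain ⟨M, rfl⟩ := f.surjective M
    exact ⟨M, ⟨(comapEquiv_isMaximal _).1 hM, f.le_iff_le.1 hMle⟩, fun N ⟨hN, hle⟩ =>
      f.injective (huni (f N) ⟨(comapEquiv_isMaximal _).2 hN, f.le_iff_le.2 hle⟩)⟩
  · obtain ⟨Q, ⟨hQ, hQle⟩, huni⟩ := h.2 (f m) ((comapEquiv_isMaximal _).2 hm)
    obtain ⟨Q, rfl⟩ := f.surjective Q
    exact ⟨Q, ⟨(comapEquiv_mem_minimalPrimes _).1 hQ, f.le_iff_le.1 hQle⟩, fun N ⟨hN, hle⟩ =>
      f.injective (huni (f N) ⟨(comapEquiv_mem_minimalPrimes _).2 hN, f.le_iff_le.2 hle⟩)⟩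

theorem encard_eq_one_iff {T : Type u} [CommRing T] :
    ENat.card (minimalPrimes T) = 1 ↔ CAlgX.HasUniqueMinimalPrime T := by
  rw [ENat.card_eq_one_iff_unique]
  constructor
  · rintro ⟨hu⟩
    exact ⟨hu.default.1, hu.default.2, fun q hq => congrArg Subtype.val (hu.uniq ⟨q, hq⟩)⟩
  · rintro ⟨p, hp, huni⟩
    exact ⟨⟨⟨⟨p, hp⟩⟩, fun x => Subtype.ext (huni x.1 x.2)⟩⟩

end Groth.Agent.Calg46.MinBij
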