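import Groth.Agent.NoetherNormZ.Basic
import Mathlib

/-!
Noether normalization adapted to a prime ideal.
-/

set_option autoImplicit false
set_option linter.style.haveILetI false

noncomputable section

universe u

open MvPolynomial

namespace Groth.Agent.Calg46.NNIdeal

variable {k : Type u} [Field k]

theorem finite_of_integral_X {n m : ℕ} (φ : MvPolynomial (Fin n) k →ₐ[k] MvPolynomial (Fin m) k)
    (h : ∀ i, φ.toRingHom.IsIntegralElem (X i)) : φ.toRingHom.Finite := by
  have hint : φ.toRingHom.IsIntegral := fun p => by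
    induction p using MvPolynomial.induction_on with
    | C a =>
      rw [← MvPolynomial.algebraMap_eq, ← φ.commutes a]
      exact RingHom.isIntegralElem_map _
    | add p q hp hq => exact RingHom.IsIntegralElem.add _ hp hq
    | mul_X p i hp => exact RingHom.IsIntegralElem.mul _ hp (h i)
  refine hint.to_finite (RingHom.FiniteType.of_comp_finiteType (f := algebraMap k (MvPolynomial (Fin n) k)) ?_)
  rw [show φ.toRingHom.comp (algebraMap k (MvPolynomial (Fin n) k)) = algebraMap k (MvPolynomial (Fin m) k) from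
    φ.comp_algebraMap]
  exact RingHom.finiteType_algebraMap.2 inferInstance

/-- Trading one variable for a nonconstant polynomial. -/
theorem exists_finite_mapping_to {n : ℕ} (f : MvPolynomial (Fin (n + 1)) k) (hne : f ≠ 0) (hf : ¬ IsUnit f) :
    ∃ ψ : MvPolynomial (Fin (n + 1)) k →ₐ[k] MvPolynomial (Fin (n + 1)) k, ψ.toRingHom.Finite ∧ ψ (X 0) = f := by
  let T := NoetherNormZ.T f
  let g := T f
  let P := finSuccEquiv k n g
  obtain ⟨u, hu⟩ := NoetherNormZ.T_leadingcoeff_isUnit f hne
  have hlc : (u : MvPolynomial (Fin n) k) = P.leadingCoeff := hu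
  have hdeg : 0 < P.natDegree := by
    by_contra h0
    have hC : P = Polynomial.C P.leadingCoeff := Polynomial.eq_C_of_natDegree_eq_zero (by omega) |>.trans (by
      rw [Polynomial.leadingCoeff, show P.natDegree = 0 by omega])
    have hP : IsUnit P := by rw [hC, ← hlc]; exact u.isUnit.map Polynomial.C
    exact hf (by simpa [P, g] using (hP.map (finSuccEquiv k n).symm).map T.symm)
  let ψ' : MvPolynomial (Fin (n + 1)) k →ₐ[k] MvPolynomial (Fin (n + 1)) k :=
    aeval (Fin.cases g fun i => X i.succ)
  have h0 : ψ' (X 0) = g := by simp [ψ']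
  have hfix : ∀ p : MvPolynomial (Fin n) k, ψ' (rename Fin.succ p) = rename Fin.succ p := by
    intro p
    show (ψ'.comp (rename Fin.succ)) p = _
    congr 1
    ext i
    simp [ψ']
  have heval : ∀ Q : Polynomial (MvPolynomial (Fin n) k),
      Polynomial.eval₂ (rename Fin.succ : MvPolynomial (Fin n) k →ₐ[k] _).toRingHom (X 0) Q =
        (finSuccEquiv k n).symm Q := fun Q => by
    induction Q using Polynomial.induction_on' with
    | add p q hp hq => rw [Polynomial.eval₂_add, hp, hq, map_add]
    | monomial i a =>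
      apply (finSuccEquiv k n).injective
      rw [AlgEquiv.apply_symm_apply, Polynomial.eval₂_monomial, map_mul, map_pow, finSuccEquiv_X_zero,
        ← Polynomial.C_mul_X_pow_eq_monomial]
      congr 1
      show ((finSuccEquiv k n : _ →ₐ[k] _).comp (rename Fin.succ)) a =
        (IsScalarTower.toAlgHom k (MvPolynomial (Fin n) k) (Polynomial (MvPolynomial (Fin n) k))) a
      congr 1
      ext j
      simp [finSuccEquiv_X_succ]
  have hint : ∀ j, ψ'.toRingHom.IsIntegralElem (X j : MvPolynomial (Fin (n + 1)) k) := fun j => by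
    induction j using Fin.cases with
    | succ i =>
      have h1 : ψ' (X i.succ) = X i.succ := by simp [ψ']
      rw [← h1]
      exact RingHom.isIntegralElem_map _
    | zero =>
      let ι : MvPolynomial (Fin n) k →+* MvPolynomial (Fin (n + 1)) k := (rename Fin.succ : _ →ₐ[k] _).toRingHom
      let v : MvPolynomial (Fin (n + 1)) k := ι ((u⁻¹ : (MvPolynomial (Fin n) k)ˣ) : MvPolynomial (Fin n) k)
      refine ⟨Polynomial.C v * (P.map ι - Polynomial.C (X 0)), ?_, ?_⟩
      · have hd : (Polynomial.C (X 0 : MvPolynomial (Fin (n + 1)) k)).degree < (P.map ι).degree := by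
          refine lt_of_le_of_lt Polynomial.degree_C_le ?_
          rw [Polynomial.degree_map_eq_of_injective (rename_injective _ (Fin.succ_injective n)),
            Polynomial.degree_eq_natDegree (fun h => by rw [h, Polynomial.natDegree_zero] at hdeg; omega)]
          exact_mod_cast hdeg
        rw [Polynomial.Monic, Polynomial.leadingCoeff_mul, Polynomial.leadingCoeff_C,
          Polynomial.leadingCoeff_sub_of_degree_lt hd,
          Polynomial.leadingCoeff_map_of_injective (rename_injective _ (Fin.succ_injective n)), ← hlc, ← map_mul,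
          Units.inv_mul, map_one]
      · rw [Polynomial.eval₂_mul, Polynomial.eval₂_sub, Polynomial.eval₂_C, Polynomial.eval₂_C, Polynomial.eval₂_map,
          show ψ'.toRingHom.comp ι = ι from RingHom.ext hfix, heval, AlgEquiv.symm_apply_apply]
        show _ * (g - ψ' (X 0)) = 0
        rw [h0, sub_self, mul_zero]
  refine ⟨T.symm.toAlgHom.comp ψ', ?_, ?_⟩
  · exact RingHom.Finite.comp (RingHom.Finite.of_surjective _ T.symm.surjective) (finite_of_integral_X ψ' hint)
  · show T.symm (ψ' (X 0)) = f
    rw [h0]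
    exact T.symm_apply_apply f

/-- Normalization adapted to a prime, without identifying the dimension. -/
theorem exists_normalization : ∀ (n : ℕ) (q : Ideal (MvPolynomial (Fin n) k)), q.IsPrime →
    ∃ (r : ℕ) (φ : MvPolynomial (Fin n) k →ₐ[k] MvPolynomial (Fin n) k), r ≤ n ∧ φ.toRingHom.Finite ∧
      q.comap φ = Ideal.span (Set.range fun i : {i : Fin n // r ≤ (i : ℕ)} => X (i : Fin n)) := by
  intro n
  induction n with
  | zero =>
    intro q hq
    refine ⟨0, AlgHom.id k _, le_rfl, RingHom.Finite.id _, ?_⟩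
    have hb : q = ⊥ := by
      rw [eq_bot_iff]
      intro x hx
      obtain ⟨c, rfl⟩ := MvPolynomial.C_surjective (Fin 0) x
      by_contra h
      exact hq.ne_top (Ideal.eq_top_of_isUnit_mem _ hx (IsUnit.map C (isUnit_iff_ne_zero.2 fun h0 => h (by simp [h0]))))
    haveI : IsEmpty {i : Fin 0 // 0 ≤ (i : ℕ)} := ⟨fun i => i.1.elim0⟩
    rw [Set.range_eq_empty, Ideal.span_empty, hb]
    exact Ideal.comap_bot_of_injective _ Function.injective_id
  | succ n ih =>
    intro q hq
    by_cases hb : q = ⊥
    · refine ⟨n + 1, AlgHom.id k _, le_rfl, RingHom.Finite.id _, ?_⟩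
      haveI : IsEmpty {i : Fin (n + 1) // n + 1 ≤ (i : ℕ)} := ⟨fun i => absurd i.2 (by have := i.1.2; omega)⟩
      rw [Set.range_eq_empty, Ideal.span_empty, hb]
      exact Ideal.comap_bot_of_injective _ Function.injective_id
    obtain ⟨f, hfq, hne⟩ := Submodule.exists_mem_ne_zero_of_ne_bot hb
    obtain ⟨ψ, hψ, hψ0⟩ := exists_finite_mapping_to f hne fun hu => hq.ne_top (Ideal.eq_top_of_isUnit_mem _ hfq hu)
    let q' := q.comap ψ
    let σ : MvPolynomial (Fin n) k →ₐ[k] MvPolynomial (Fin (n + 1)) k := rename Fin.succ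
    let κ : MvPolynomial (Fin n) k →ₐ[k] MvPolynomial (Fin (n + 1)) k := rename Fin.castSucc
    have hq' : q'.IsPrime := Ideal.IsPrime.comap _
    obtain ⟨r, χ, hr, hχ, hcomap⟩ := ih (q'.comap σ) (Ideal.IsPrime.comap _)
    let Ξ : MvPolynomial (Fin (n + 1)) k →ₐ[k] MvPolynomial (Fin (n + 1)) k :=
      aeval (Fin.lastCases (X 0) fun i => σ (χ (X i)))
    have hΞκ : ∀ p, Ξ (κ p) = σ (χ p) := by
      intro p
      show (Ξ.comp κ) p = (σ.comp χ) p
      congr 1
      ext i
      simp [Ξ, κ]
    have hΞlast : Ξ (X (Fin.last n)) = X 0 := by simp [Ξ]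
    refine ⟨r, ψ.comp Ξ, hr.trans (Nat.le_succ n), RingHom.Finite.comp hψ (finite_of_integral_X Ξ fun j => ?_), ?_⟩
    · induction j using Fin.cases with
      | zero => rw [← hΞlast]; exact RingHom.isIntegralElem_map _
      | succ i =>
        obtain ⟨p, hp, hpi⟩ := hχ.to_isIntegral (X i)
        refine ⟨p.map κ.toRingHom, hp.map _, ?_⟩
        rw [Polynomial.eval₂_map, show Ξ.toRingHom.comp κ.toRingHom = σ.toRingHom.comp χ.toRingHom from RingHom.ext hΞκ,
          show (X i.succ : MvPolynomial (Fin (n + 1)) k) = σ (X i) by simp [σ]]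
        show Polynomial.eval₂ _ (σ.toRingHom (X i)) p = 0
        rw [← Polynomial.hom_eval₂, hpi, map_zero]
    · rw [show q.comap (ψ.comp Ξ) = q'.comap Ξ from rfl]
      let L : Ideal (MvPolynomial (Fin (n + 1)) k) :=
        Ideal.span (Set.range fun i : {i : Fin (n + 1) // r ≤ (i : ℕ)} => X (i : Fin (n + 1)))
      let ρ : MvPolynomial (Fin (n + 1)) k →ₐ[k] MvPolynomial (Fin n) k := aeval (Fin.lastCases 0 X)
      have hlast : (X (Fin.last n) : MvPolynomial (Fin (n + 1)) k) ∈ L :=
        Ideal.subset_span ⟨⟨Fin.last n, by simpa using hr⟩, rfl⟩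
      have hsub : ∀ p, p - κ (ρ p) ∈ L := fun p => by
        induction p using MvPolynomial.induction_on with
        | C a => simp [κ, ρ]
        | add p q hp hq => rw [map_add, map_add, add_sub_add_comm]; exact add_mem hp hq
        | mul_X p i hp =>
          induction i using Fin.lastCases with
          | last => simpa [ρ] using Ideal.mul_mem_left _ p hlast
          | cast i =>
            rw [map_mul, map_mul, show κ (ρ (X i.castSucc)) = X i.castSucc by simp [ρ, κ], ← sub_mul]
            exact Ideal.mul_mem_right _ _ hp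
      have hcomap' : Ideal.span (Set.range fun i : {i : Fin n // r ≤ (i : ℕ)} => X (i : Fin n)) ≤ L.comap κ :=
        Ideal.span_le.2 fun _ ⟨i, hi⟩ => hi ▸ (by
          show κ (X (i : Fin n)) ∈ L
          exact Ideal.subset_span ⟨⟨(i : Fin n).castSucc, i.2⟩, by simp [κ]⟩)
      have hΞ0 : Ξ (X (Fin.last n)) ∈ q' := by
        rw [hΞlast]
        show ψ (X 0) ∈ q
        rw [hψ0]; exact hfq
      have hL : L ≤ q'.comap Ξ := Ideal.span_le.2 fun _ ⟨⟨i, hi⟩, he⟩ => he ▸ (by
        show Ξ (X i) ∈ q'
        induction i using Fin.lastCases with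
        | last => exact hΞ0
        | cast i =>
          have h1 : X i ∈ (q'.comap σ).comap χ := hcomap ▸ Ideal.subset_span ⟨⟨i, hi⟩, rfl⟩
          rw [show (X i.castSucc : MvPolynomial (Fin (n + 1)) k) = κ (X i) by simp [κ], hΞκ]
          exact h1)
      refine le_antisymm (fun p hp => ?_) hL
      have h1 : ρ p ∈ (q'.comap σ).comap χ := by
        show σ (χ (ρ p)) ∈ q'
        rw [← hΞκ]
        have h2 : Ξ (p - κ (ρ p)) ∈ q' := hL (hsub p)
        rw [map_sub] at h2
        exact (Submodule.sub_mem_iff_right _ (show Ξ p ∈ q' from hp)).1 h2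
      rw [hcomap] at h1
      have h3 := add_mem (hsub p) (hcomap' h1 : κ (ρ p) ∈ L)
      rwa [sub_add_cancel] at h3

set_option maxHeartbeats 1000000 in
theorem exists_normalization_trdeg {n r : ℕ} (q : Ideal (MvPolynomial (Fin n) k)) [q.IsPrime]
    (hr : Algebra.trdeg k q.ResidueField = r) :
    ∃ φ : MvPolynomial (Fin n) k →ₐ[k] MvPolynomial (Fin n) k, φ.toRingHom.Finite ∧
      q.comap φ = Ideal.span (Set.range fun i : {i : Fin n // r ≤ (i : ℕ)} => X (i : Fin n)) := by
  obtain ⟨r', φ, hr', hφ, hcomap⟩ := exists_normalization n q inferInstance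
  suffices h : r' = r by subst h; exact ⟨φ, hφ, hcomap⟩
  let B := MvPolynomial (Fin n) k ⧸ q
  let j : MvPolynomial (Fin r') k →ₐ[k] MvPolynomial (Fin n) k := rename (Fin.castLE hr')
  let g : MvPolynomial (Fin r') k →ₐ[k] B := (Ideal.Quotient.mkₐ k q).comp (φ.comp j)
  let π : MvPolynomial (Fin n) k →ₐ[k] MvPolynomial (Fin r') k :=
    aeval fun i => if h : (i : ℕ) < r' then X ⟨i, h⟩ else 0
  have hπj : ∀ p, π (j p) = p := by
    intro p
    show (π.comp j) p = AlgHom.id k _ p
    congr 1
    ext i
    simp [π, j, i.2]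
  have hker : ∀ p, p ∈ q.comap φ → π p = 0 := fun p hp => by
    rw [hcomap] at hp
    have hle : Ideal.span (Set.range fun i : {i : Fin n // r' ≤ (i : ℕ)} => X (i : Fin n)) ≤ RingHom.ker π :=
      Ideal.span_le.2 fun _ ⟨i, hi⟩ => hi ▸ (by
        show π (X (i : Fin n)) = 0
        simp [π, not_lt.2 i.2])
    exact hle hp
  have hginj : Function.Injective g := (injective_iff_map_eq_zero g).2 fun p hp => by
    have h1 : j p ∈ q.comap φ := show φ (j p) ∈ q from Ideal.Quotient.eq_zero_iff_mem.1 hp
    rw [← hπj p]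
    exact hker _ h1
  have hgint : g.toRingHom.IsIntegral := fun y => by
    obtain ⟨x, rfl⟩ := Ideal.Quotient.mk_surjective y
    obtain ⟨P, hP, hPx⟩ := hφ.to_isIntegral x
    refine ⟨P.map π.toRingHom, hP.map _, ?_⟩
    have hfac : g.toRingHom.comp π.toRingHom = (Ideal.Quotient.mk q).comp φ.toRingHom := RingHom.ext fun z => by
      show Ideal.Quotient.mk q (φ (j (π z))) = Ideal.Quotient.mk q (φ z)
      rw [Ideal.Quotient.eq, ← map_sub]
      have hz : j (π z) - z ∈ q.comap φ := by
        rw [hcomap]
        induction z using MvPolynomial.induction_on with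
        | C a => simp [j, π]
        | add a b ha hb => rw [map_add, map_add, add_sub_add_comm]; exact add_mem ha hb
        | mul_X a i ha =>
          by_cases h : (i : ℕ) < r'
          · rw [map_mul, map_mul, show j (π (X i)) = X i by simp [j, π, h], ← sub_mul]
            exact Ideal.mul_mem_right _ _ ha
          · rw [map_mul, map_mul, show j (π (X i)) = 0 by simp [j, π, h], mul_zero, zero_sub, neg_mem_iff]
            exact Ideal.mul_mem_left _ _ (Ideal.subset_span ⟨⟨i, not_lt.1 h⟩, rfl⟩)
      exact hz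
    rw [Polynomial.eval₂_map, hfac, ← Polynomial.hom_eval₂, hPx, map_zero]
  letI : Algebra (MvPolynomial (Fin r') k) B := g.toRingHom.toAlgebra
  haveI : Algebra.IsIntegral (MvPolynomial (Fin r') k) B := ⟨hgint⟩
  haveI : IsScalarTower k (MvPolynomial (Fin r') k) B := IsScalarTower.of_algebraMap_eq fun a => (g.commutes a).symm
  letI : Algebra (MvPolynomial (Fin r') k) q.ResidueField := ((algebraMap B q.ResidueField).comp g.toRingHom).toAlgebra
  haveI : IsScalarTower (MvPolynomial (Fin r') k) B q.ResidueField := IsScalarTower.of_algebraMap_eq fun _ => rfl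
  haveI : IsScalarTower k (MvPolynomial (Fin r') k) q.ResidueField := IsScalarTower.of_algebraMap_eq fun a => by
    show _ = algebraMap B q.ResidueField (g (algebraMap k _ a))
    rw [g.commutes, ← IsScalarTower.algebraMap_apply]
  haveI : FaithfulSMul (MvPolynomial (Fin r') k) q.ResidueField :=
    (faithfulSMul_iff_algebraMap_injective _ _).2 ((IsFractionRing.injective B q.ResidueField).comp hginj)
  haveI : Algebra.IsAlgebraic B q.ResidueField := IsLocalization.isAlgebraic _ (nonZeroDivisors B)
  haveI : FaithfulSMul (MvPolynomial (Fin r') k) B := (faithfulSMul_iff_algebraMap_injective _ _).2 hginj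
  haveI : Algebra.IsAlgebraic (MvPolynomial (Fin r') k) q.ResidueField :=
    Algebra.IsAlgebraic.trans (MvPolynomial (Fin r') k) B q.ResidueField
  have h := trdeg_add_eq k (MvPolynomial (Fin r') k) (A := q.ResidueField)
  rw [trdeg_eq_zero (R := MvPolynomial (Fin r') k), add_zero, MvPolynomial.trdeg_of_isDomain, hr] at h
  simpa using h

end Groth.Agent.Calg46.NNIdeal
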