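import Groth.Agent.Calg46.QRLocal

/-!
The graded criterion gives local quasi-regular generators.
-/

set_option autoImplicit false
set_option linter.style.haveILetI false

universe u

open MvPolynomial PP16 Groth.Agent.PPLib

namespace Groth.Agent.Calg46.QR

variable {R : Type u} [CommRing R] (J : Ideal R)

/-- Near `P`, classes of elements of `J` form a basis of `J/J²`. -/
theorem exists_basis (hJ : J.FG) [Module.Projective (R ⧸ J) J.Cotangent] (P : Ideal R) [P.IsPrime] (hP : J ≤ P) :
    ∃ g, g ∉ P ∧ ∃ (r : ℕ) (x : Fin r → J)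
      (b : Module.Basis (Fin r) (Localization.Away (Ideal.Quotient.mk J g))
        (LocalizedModule.Away (Ideal.Quotient.mk J g) J.Cotangent)),
      ∀ i, b i = LocalizedModule.mkLinearMap _ J.Cotangent (J.toCotangent (x i)) := by
  classical
  haveI : Module.Finite R J := Module.Finite.iff_fg.2 hJ
  haveI : Module.Finite R J.Cotangent := Module.Finite.of_surjective J.toCotangent J.toCotangent_surjective
  haveI : Module.Finite (R ⧸ J) J.Cotangent := Module.Finite.of_restrictScalars_finite R (R ⧸ J) _
  haveI : Module.FinitePresentation (R ⧸ J) J.Cotangent := Module.finitePresentation_of_projective _ _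
  let Pb : Ideal (R ⧸ J) := P.map (Ideal.Quotient.mk J)
  haveI : Pb.IsPrime := Ideal.map_isPrime_of_surjective Ideal.Quotient.mk_surjective (by rwa [Ideal.mk_ker])
  let Mp := LocalizedModule Pb.primeCompl J.Cotangent
  haveI : Module.Finite (Localization.AtPrime Pb) Mp :=
    Module.Finite.of_isLocalizedModule Pb.primeCompl (LocalizedModule.mkLinearMap Pb.primeCompl J.Cotangent)
  haveI : Module.Free (Localization.AtPrime Pb) Mp := Module.free_of_flat_of_isLocalRing
  obtain ⟨e, he, hfree, -⟩ := Module.FinitePresentation.exists_free_localizedModule_powers Pb.primeCompl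
    (LocalizedModule.mkLinearMap Pb.primeCompl J.Cotangent) (Localization.AtPrime Pb)
  obtain ⟨g, rfl⟩ := Ideal.Quotient.mk_surjective e
  refine ⟨g, fun hgP => he (Ideal.mem_map_of_mem _ hgP), ?_⟩
  let L := Localization.Away (Ideal.Quotient.mk J g)
  let S := Submonoid.powers (Ideal.Quotient.mk J g)
  let mkl := LocalizedModule.mkLinearMap S J.Cotangent
  haveI : Module.Finite L (LocalizedModule.Away (Ideal.Quotient.mk J g) J.Cotangent) :=
    Module.Finite.of_isLocalizedModule S mkl
  let b0 := (Module.Free.chooseBasis L (LocalizedModule.Away (Ideal.Quotient.mk J g) J.Cotangent)).reindex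
    (Fintype.equivFin _)
  choose m hm using fun i => IsLocalizedModule.surj S mkl (b0 i)
  choose x hx using fun i => J.toCotangent_surjective (m i).1
  refine ⟨_, x, b0.unitsSMul (fun i => (IsLocalization.map_units L (m i).2).unit), fun i => ?_⟩
  rw [Module.Basis.unitsSMul_apply, Units.smul_def, IsUnit.unit_spec, algebraMap_smul, hx i]
  exact hm i

theorem isLocallyQuasiRegular_of_symGr (hJ : J.FG) [Module.Projective (R ⧸ J) J.Cotangent]
    (hφ : SymGrBijective R J) : IsLocallyQuasiRegular R J := by
  classical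
  refine isLocallyQuasiRegular_of_localGens J fun P _ hP => ?_
  obtain ⟨g, hg, r, x, b, hb⟩ := exists_basis J hJ P hP
  let q := Ideal.Quotient.mk J
  let S := Submonoid.powers (q g)
  let L := Localization.Away (q g)
  let mkl := LocalizedModule.mkLinearMap S J.Cotangent
  have hq : ∀ (c : R) (z : J), q c • J.toCotangent z = J.toCotangent (c • z) := fun c z => by
    rw [map_smul]; rfl
  let X0 := Ideal.span (Set.range fun i => (x i : R))
  -- generation modulo `J²`
  have hgen : ∀ a ∈ J, ∃ k : ℕ, g ^ k * a ∈ X0 ⊔ J ^ 2 := by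
    intro a ha
    let z := mkl (J.toCotangent ⟨a, ha⟩)
    obtain ⟨s, hs⟩ := IsLocalization.exist_integer_multiples_of_finite S fun i => b.repr z i
    choose c hc using hs
    choose A hA using fun i => Ideal.Quotient.mk_surjective (c i)
    have h1 : mkl ((s : R ⧸ J) • J.toCotangent ⟨a, ha⟩) = mkl (∑ i, q (A i) • J.toCotangent (x i)) := by
      simp only [map_sum, map_smul, q, hA]
      conv_lhs => rw [show mkl (J.toCotangent ⟨a, ha⟩) = z from rfl, ← b.sum_repr z, Finset.smul_sum]
      refine Finset.sum_congr rfl fun i _ => ?_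
      rw [← smul_assoc, ← hc i, algebraMap_smul, hb i]
    obtain ⟨⟨_, ⟨k, rfl⟩⟩, hk⟩ := IsLocalizedModule.exists_of_eq (S := S) h1
    obtain ⟨l, hl⟩ := s.2
    replace hk : q (g ^ k) • q (g ^ l) • J.toCotangent ⟨a, ha⟩ = q (g ^ k) • ∑ i, q (A i) • J.toCotangent (x i) := by
      rw [map_pow, map_pow, show q g ^ l = (s : R ⧸ J) from hl]; exact hk
    simp only [hq, ← map_sum, Ideal.toCotangent_eq, Submodule.coe_smul, Submodule.coe_sum, smul_eq_mul] at hk
    refine ⟨k + l, ?_⟩
    rw [pow_add, mul_assoc, ← sub_add_cancel (g ^ k * (g ^ l * a)) (g ^ k * ∑ i, A i * (x i : R)), add_comm]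
    exact Submodule.add_mem_sup (X0.mul_mem_left _ (Submodule.sum_mem _ fun i _ =>
      X0.mul_mem_left _ (Ideal.subset_span ⟨i, rfl⟩))) hk
  -- Nakayama
  let Rp := Localization.AtPrime P
  let al := algebraMap R Rp
  have hle : J.map al ≤ X0.map al := by
    refine Submodule.le_of_le_smul_of_le_jacobson_bot (I := J.map al) (hJ.map al) ?_ ?_
    · rw [IsLocalRing.jacobson_eq_maximalIdeal _ bot_ne_top, ← Localization.AtPrime.map_eq_maximalIdeal]
      exact Ideal.map_mono hP
    · rw [smul_eq_mul, ← Ideal.map_mul, ← pow_two, ← Ideal.map_sup, Ideal.map_le_iff_le_comap]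
      intro a ha
      obtain ⟨k, hk⟩ := hgen a ha
      have h1 := Ideal.mem_map_of_mem al hk
      rw [map_mul] at h1
      exact (Ideal.unit_mul_mem_iff_mem _ (IsLocalization.map_units Rp (⟨g ^ k,
        fun h => hg (Ideal.IsPrime.mem_of_pow_mem inferInstance k h)⟩ : P.primeCompl))).1 h1
  obtain ⟨t, ht⟩ := hJ
  choose u hu hu' using fun a : t => (IsLocalization.algebraMap_mem_map_algebraMap_iff P.primeCompl Rp _ _).1
    (hle (Ideal.mem_map_of_mem al (ht ▸ Ideal.subset_span a.2 : (a : R) ∈ J)))
  refine ⟨g * ∏ a, u a, (Ideal.IsPrime.mul_notMem inferInstance hg fun h => ?_), r, x, fun a ha => ⟨1, ?_⟩,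
    fun n Q hQ hev d => ?_⟩
  · obtain ⟨a, -, ha⟩ := (Ideal.IsPrime.prod_mem_iff).1 h
    exact hu a ha
  · rw [pow_one, mul_assoc]
    refine X0.mul_mem_left _ ?_
    rw [← ht] at ha
    induction ha using Submodule.span_induction with
    | mem a ha =>
      obtain ⟨d, hd⟩ := Finset.dvd_prod_of_mem u (Finset.mem_univ ⟨a, ha⟩)
      rw [hd, mul_comm (u _) d, mul_assoc]
      exact X0.mul_mem_left _ (hu' ⟨a, ha⟩)
    | zero => rw [mul_zero]; exact zero_mem _
    | add a c _ _ ha hc => rw [mul_add]; exact add_mem ha hc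
    | smul c a _ ha => rw [smul_eq_mul, mul_left_comm]; exact X0.mul_mem_left _ ha
  · suffices hsuf : ∃ k, g ^ k * Q.coeff d ∈ J by
      obtain ⟨k, hk⟩ := hsuf
      exact ⟨k, by rw [mul_pow, mul_right_comm]; exact J.mul_mem_right _ hk⟩
    obtain rfl | hn := n.eq_zero_or_pos
    · refine ⟨0, ?_⟩
      rw [pow_zero, one_mul]
      by_cases hd : Q.coeff d = 0
      · rw [hd]; exact zero_mem _
      have hdeg : Q.totalDegree = 0 := Nat.le_zero.1 hQ.totalDegree_le
      obtain ⟨c, rfl⟩ : ∃ c, Q = C c := ⟨_, totalDegree_eq_zero_iff_eq_C.1 hdeg⟩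
      rw [coeff_C] at hd ⊢
      split_ifs at hd ⊢ with h0
      · simpa using hev
      · exact (hd rfl).elim
    let ι := ULift.{u} (Fin n)
    haveI : Nonempty ι := ⟨⟨⟨0, hn⟩⟩⟩
    have hcard : Fintype.card ι = n := by simp [ι]
    obtain ⟨φ, hφ1, hinj, -⟩ := hφ ι
    obtain ⟨y, hy⟩ := QRSym.exists_sym (ι := ι) (fun i => J.toCotangent (x i)) Q (by rwa [hcard])
    have hy0 : y = 0 := by
      refine hinj (emb_injective J _ ?_)
      rw [show emb J _ (φ y) = evalMod J x _ Q from hy _ ((emb J _).comp φ) _ (phi_spec J φ hφ1 x),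
        evalMod_apply, map_zero, map_zero, Ideal.Quotient.eq_zero_iff_mem, hcard]
      exact hev
    let θ : J.Cotangent →ₗ[R] Fin r →₀ L :=
      { toFun := fun m => b.repr (mkl m)
        map_add' := fun m m' => by rw [map_add, map_add]
        map_smul' := fun c m => by
          rw [RingHom.id_apply, ← algebraMap_smul (R ⧸ J) c m, map_smul, ← algebraMap_smul L, map_smul,
            algebraMap_smul, algebraMap_smul] }
    have hy' := hy (MvPolynomial (Fin r) L) (QRSym.polyMap θ)
      (aeval fun i => linForm (θ (J.toCotangent (x i)))).toLinearMap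
    have h1 := hy' fun c => QRSym.polyMap_spec θ (fun i => J.toCotangent (x i)) c
    rw [hy0, map_zero, AlgHom.toLinearMap_apply] at h1
    have hX : (fun i => linForm (θ (J.toCotangent (x i)))) = (X : Fin r → MvPolynomial (Fin r) L) :=
      funext fun i => by
        show linForm (b.repr (mkl (J.toCotangent (x i)))) = _
        rw [← hb i, b.repr_self, linForm_single, one_smul]
    rw [hX] at h1
    have h2 : algebraMap R L (Q.coeff d) = 0 := by
      have h3 : ∀ Q : MvPolynomial (Fin r) R,
          aeval (X : Fin r → MvPolynomial (Fin r) L) Q = map (algebraMap R L) Q := fun Q => by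
        induction Q using MvPolynomial.induction_on' with
        | monomial d a => rw [aeval_monomial, map_monomial, monomial_eq]; rfl
        | add p q hp hq => simp only [map_add, hp, hq]
      rw [h3] at h1
      simpa [coeff_map] using (congrArg (coeff d) h1).symm
    rw [IsScalarTower.algebraMap_apply R (R ⧸ J) L, IsLocalization.map_eq_zero_iff S L] at h2
    obtain ⟨⟨_, ⟨k, rfl⟩⟩, hk⟩ := h2
    refine ⟨k, Ideal.Quotient.eq_zero_iff_mem.1 ?_⟩
    rw [map_mul, map_pow]
    exact hk

end Groth.Agent.Calg46.QR
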