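import Groth.Agent.Calg46.QRGr
import Groth.Agent.Calg46.QRConv
import Groth.Agent.Calg46.DiffPoly
import Groth.Agent.AdicFS4.GradedConv

/-!
Differential smoothness and quasi-regularity of the diagonal.
-/

set_option autoImplicit false
set_option linter.style.haveILetI false

universe u

open TensorProduct MvPolynomial PP16 Groth.Agent.PPLib

namespace Groth.Agent.Calg46.QRDiag

variable (A B : Type u) [CommRing A] [CommRing B] [Algebra A B]

local notation "C" => B ⊗[A] B
local notation "𝕀" => KaehlerDifferential.ideal A B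

/-- Multiplication `B ⊗ B → B`. -/
noncomputable def mu : B ⊗[A] B →+* B := (Algebra.TensorProduct.lmul' (R := A) (S := B)).toRingHom

/-- `B → (B ⊗ B)/I`. -/
noncomputable def rho : B →+* (B ⊗[A] B) ⧸ KaehlerDifferential.ideal A B :=
  (Ideal.Quotient.mk _).comp (algebraMap B (B ⊗[A] B))

theorem mu_algebraMap (b : B) : mu A B (algebraMap B C b) = b := by
  simp [mu, Algebra.TensorProduct.algebraMap_apply]

theorem sub_mem (c : C) : c - algebraMap B C (mu A B c) ∈ 𝕀 := by
  show mu A B _ = 0
  rw [map_sub, mu_algebraMap, sub_self]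

theorem rho_mu (c : C) : rho A B (mu A B c) = Ideal.Quotient.mk 𝕀 c :=
  (Ideal.Quotient.eq.2 (sub_mem A B c)).symm

/-- `(B ⊗ B)/I → B`. -/
noncomputable def eps : (B ⊗[A] B) ⧸ KaehlerDifferential.ideal A B →+* B :=
  Ideal.Quotient.lift _ (mu A B) fun _ h => h

theorem eps_rho (b : B) : eps A B (rho A B b) = b := mu_algebraMap A B b

theorem rho_injective : Function.Injective (rho A B) :=
  Function.LeftInverse.injective (g := eps A B) (eps_rho A B)

theorem rho_eps (c : C ⧸ 𝕀) : rho A B (eps A B c) = c := by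
  obtain ⟨c, rfl⟩ := Ideal.Quotient.mk_surjective c
  exact rho_mu A B c

/-- The differential module as the conormal module. -/
def toCot : KaehlerDifferential A B ≃+ Ideal.Cotangent (KaehlerDifferential.ideal A B) where
  toFun w := w
  invFun w := w
  left_inv _ := rfl
  right_inv _ := rfl
  map_add' _ _ := rfl

theorem toCot_symm_smul (c : C) (m : Ideal.Cotangent 𝕀) :
    (toCot A B).symm (c • m) = mu A B c • (toCot A B).symm m := by
  obtain ⟨x, rfl⟩ := Ideal.toCotangent_surjective 𝕀 m
  rw [← algebraMap_smul C (mu A B c)]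
  show Ideal.toCotangent 𝕀 _ = algebraMap B C (mu A B c) • Ideal.toCotangent 𝕀 x
  rw [← map_smul, Ideal.toCotangent_eq]
  show c * (x : C) - algebraMap B C (mu A B c) * (x : C) ∈ _
  rw [← sub_mul, pow_two]
  exact Ideal.mul_mem_mul (sub_mem A B c) x.2

theorem toCot_smul (b : B) (w : KaehlerDifferential A B) :
    toCot A B (b • w) = rho A B b • toCot A B w := by
  show toCot A B (b • w) = algebraMap B C b • toCot A B w
  rw [← algebraMap_smul C b w]
  rfl

/-- Coordinates over `(B ⊗ B)/I` from coordinates over `B`. -/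
noncomputable def cotCoord {τ : Type u} (j : KaehlerDifferential A B →ₗ[B] τ →₀ B) :
    Ideal.Cotangent (KaehlerDifferential.ideal A B) →ₗ[(B ⊗[A] B) ⧸ KaehlerDifferential.ideal A B]
      τ →₀ (B ⊗[A] B) ⧸ KaehlerDifferential.ideal A B where
  toFun m := (j ((toCot A B).symm m)).mapRange (rho A B) (map_zero _)
  map_add' m m' := by
    rw [map_add, map_add, Finsupp.mapRange_add (map_add (rho A B))]
  map_smul' c m := by
    obtain ⟨c, rfl⟩ := Ideal.Quotient.mk_surjective c
    rw [show Ideal.Quotient.mk 𝕀 c • m = c • m from rfl, toCot_symm_smul, map_smul, RingHom.id_apply, ← rho_mu]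
    ext i
    simp only [Finsupp.mapRange_apply, Finsupp.smul_apply, smul_eq_mul, map_mul]

theorem projective_cotangent (h : Module.Projective B (KaehlerDifferential A B)) :
    Module.Projective (C ⧸ 𝕀) (Ideal.Cotangent 𝕀) := by
  obtain ⟨j, hj⟩ := Module.projective_def'.1 h
  refine Module.Projective.of_split (cotCoord A B j)
    (Finsupp.linearCombination _ fun w : KaehlerDifferential A B => toCot A B w) (LinearMap.ext fun m => ?_)
  rw [LinearMap.comp_apply, LinearMap.id_apply]
  have key : ∀ v : KaehlerDifferential A B →₀ B,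
      Finsupp.linearCombination (C ⧸ 𝕀) (fun w => toCot A B w) (v.mapRange (rho A B) (map_zero _)) =
        toCot A B (Finsupp.linearCombination B id v) := fun v => by
    induction v using Finsupp.induction_linear with
    | zero => simp
    | add a b ha hb => rw [Finsupp.mapRange_add (map_add (rho A B)), map_add, map_add, map_add, ha, hb]
    | single s b => rw [Finsupp.mapRange_single, Finsupp.linearCombination_single, Finsupp.linearCombination_single,
        id, toCot_smul]
  show Finsupp.linearCombination _ _ ((j ((toCot A B).symm m)).mapRange (rho A B) (map_zero _)) = m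
  rw [key, ← LinearMap.comp_apply, hj, LinearMap.id_apply, AddEquiv.apply_symm_apply]

theorem projective_kaehler (h : Module.Projective (C ⧸ 𝕀) (Ideal.Cotangent 𝕀)) :
    Module.Projective B (KaehlerDifferential A B) := by
  obtain ⟨j, hj⟩ := Module.projective_def'.1 h
  let j' : KaehlerDifferential A B →ₗ[B] Ideal.Cotangent 𝕀 →₀ B :=
    { toFun := fun w => (j (toCot A B w)).mapRange (eps A B) (map_zero _)
      map_add' := fun w w' => by rw [map_add, map_add, Finsupp.mapRange_add (map_add (eps A B))]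
      map_smul' := fun b w => by
        rw [toCot_smul, map_smul, RingHom.id_apply]
        ext i
        simp only [Finsupp.mapRange_apply, Finsupp.smul_apply, smul_eq_mul, map_mul, eps_rho] }
  refine Module.Projective.of_split j'
    (Finsupp.linearCombination B fun m : Ideal.Cotangent 𝕀 => (toCot A B).symm m) (LinearMap.ext fun w => ?_)
  rw [LinearMap.comp_apply, LinearMap.id_apply]
  apply (toCot A B).injective
  have key : ∀ v : Ideal.Cotangent 𝕀 →₀ C ⧸ 𝕀,
      toCot A B (Finsupp.linearCombination B (fun m => (toCot A B).symm m) (v.mapRange (eps A B) (map_zero _))) =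
        Finsupp.linearCombination (C ⧸ 𝕀) id v := fun v => by
    induction v using Finsupp.induction_linear with
    | zero => simp
    | add a b ha hb => rw [Finsupp.mapRange_add (map_add (eps A B)), map_add, map_add, map_add, ha, hb]
    | single s c => rw [Finsupp.mapRange_single, Finsupp.linearCombination_single, Finsupp.linearCombination_single,
        id, toCot_smul, rho_eps, AddEquiv.apply_symm_apply]
  show toCot A B (Finsupp.linearCombination _ _ ((j (toCot A B w)).mapRange (eps A B) (map_zero _))) = _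
  rw [key, ← LinearMap.comp_apply, hj, LinearMap.id_apply]

/-- all elements of the ideal -/
abbrev gens : ↥(KaehlerDifferential.ideal A B) → ↥(KaehlerDifferential.ideal A B) := id

theorem toCot_dcls (s : ↥𝕀) : toCot A B (DiffPoly.dcls (gens A B) s) = Ideal.toCotangent 𝕀 s := rfl

variable {ι : Type u} [Fintype ι]

/-- Changing the coefficients modulo `I` does not change the value modulo `I^(n+1)`. -/
theorem eval_sub_mem {R : Type u} [CommRing R] {σ : Type u} (J : Ideal R) (x : σ → J) {n : ℕ}
    (P : MvPolynomial σ R) (hP : P.IsHomogeneous n) (hc : ∀ d, P.coeff d ∈ J) :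
    eval (fun s => (x s : R)) P ∈ J ^ (n + 1) := by
  rw [P.as_sum, map_sum]
  refine Submodule.sum_mem _ fun d hd => ?_
  rw [show monomial d (P.coeff d) = MvPolynomial.C (P.coeff d) * monomial d 1 by rw [C_mul_monomial, mul_one],
    map_mul, eval_C, pow_succ']
  refine Ideal.mul_mem_mul (hc d) ?_
  rw [← aeval_eq_eval]
  exact AdicFS4.homogeneous_mem_pow (S := R) _ J (fun s => (x s).2) (AdicFS4.homogeneous_mem_idealOfVars_pow
    (isHomogeneous_monomial _ ((Finsupp.degree_apply _).trans (hP.degree_eq_sum_deg_support hd).symm)))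

theorem aeval_eq_eval_map (P : MvPolynomial ↥𝕀 B) :
    aeval (fun s => ((gens A B s : ↥𝕀) : C)) P = eval (fun s : ↥𝕀 => (s : C)) (P.map (algebraMap B C)) := by
  rw [aeval_def, eval_map]
  rfl

theorem symGrBijective (h : IsDiffSmooth A B) : SymGrBijective C 𝕀 := by
  classical
  intro ι _ _
  obtain ⟨φ, hφ, hsur⟩ := AdicFS4.exists_gr_map 𝕀 ι
  refine ⟨φ, hφ, ?_, hsur⟩
  obtain ⟨j, hj⟩ := Module.projective_def'.1 h.1
  let θ := cotCoord A B j
  haveI hT : Module.IsTorsionBySet C (SymmetricPower C ι (Ideal.Cotangent 𝕀)) (𝕀 : Set C) := fun t a =>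
    AdicFS4.smul_tprod_eq_zero a.2 t
  letI : Module (C ⧸ 𝕀) (SymmetricPower C ι (Ideal.Cotangent 𝕀)) := hT.module
  haveI : IsScalarTower C (C ⧸ 𝕀) (SymmetricPower C ι (Ideal.Cotangent 𝕀)) := hT.isScalarTower
  rw [injective_iff_map_eq_zero]
  intro y hy
  let r : (KaehlerDifferential A B →₀ C ⧸ 𝕀) →ₗ[C ⧸ 𝕀] Ideal.Cotangent 𝕀 :=
    Finsupp.linearCombination _ fun w => toCot A B w
  have hr : ∀ m, r (θ m) = m := fun m => by
    have key : ∀ v : KaehlerDifferential A B →₀ B,
        r (v.mapRange (rho A B) (map_zero _)) = toCot A B (Finsupp.linearCombination B id v) := fun v => by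
      induction v using Finsupp.induction_linear with
      | zero => simp
      | add a b ha hb => rw [Finsupp.mapRange_add (map_add (rho A B)), map_add, map_add, map_add, ha, hb]
      | single s b => rw [Finsupp.mapRange_single, Finsupp.linearCombination_single,
          Finsupp.linearCombination_single, id, toCot_smul]
    show r ((j ((toCot A B).symm m)).mapRange (rho A B) (map_zero _)) = m
    rw [key, ← LinearMap.comp_apply, hj, LinearMap.id_apply, AddEquiv.apply_symm_apply]
  refine AdicFS4.eq_zero_of_symPoly_eq_zero (S := C ⧸ 𝕀) Ideal.Quotient.mk_surjective θ r hr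
    (QRSym.polyMap (θ.restrictScalars C)) (fun x => QRSym.polyMap_tprod _ x) y ?_
  let v : ↥𝕀 → ↥𝕀 := id
  obtain ⟨P, hP, hspec⟩ := QRSym.exists_poly (ι := ι) (fun s => Ideal.toCotangent 𝕀 (v s))
    (QR.span_toCotangent 𝕀 v (le_antisymm (Ideal.span_le.2 (by rintro _ ⟨s, rfl⟩; exact s.2))
      (fun a ha => Ideal.subset_span ⟨⟨a, ha⟩, rfl⟩))) y
  have hev := hspec _ ((QR.emb 𝕀 _).comp φ) (QR.evalMod 𝕀 v _) (QR.phi_spec 𝕀 φ hφ v)
  rw [LinearMap.comp_apply, hy, map_zero, QR.evalMod_apply, eq_comm, Ideal.Quotient.eq_zero_iff_mem] at hev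
  have hy' := hspec (MvPolynomial (KaehlerDifferential A B) (C ⧸ 𝕀)) (QRSym.polyMap (θ.restrictScalars C))
    (aeval fun s => linForm ((θ.restrictScalars C) (Ideal.toCotangent 𝕀 (v s)))).toLinearMap
  rw [hy' fun c => QRSym.polyMap_spec (θ.restrictScalars C) (fun s => Ideal.toCotangent 𝕀 (v s)) c,
    AlgHom.toLinearMap_apply]
  let Pb : MvPolynomial ↥𝕀 B := P.map (mu A B)
  have hevb : aeval (fun s => ((gens A B s : ↥𝕀) : C)) Pb ∈ 𝕀 ^ (Fintype.card ι + 1) := by
    rw [aeval_eq_eval_map]
    have h2 := eval_sub_mem 𝕀 v (P - Pb.map (algebraMap B C)) (hP.sub ((hP.map _).map _)) fun d => by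
      rw [coeff_sub, coeff_map, coeff_map]
      exact sub_mem A B _
    rw [map_sub] at h2
    simpa [v] using sub_mem' hev h2
  have h0 := DiffPoly.coords_eq_zero (gens A B) (phi_bijective_of_isDiffSmooth A B h ι).1 (hP.map _) hevb j
  have h1 := congrArg (MvPolynomial.map (rho A B)) h0
  rw [map_zero, aeval_def, eval₂_comp_left, eval₂_map] at h1
  rw [← h1, aeval_def]
  refine congrArg₂ (fun f g => eval₂ f g P) (RingHom.ext fun c => ?_) (funext fun s => ?_)
  · simp only [RingHom.comp_apply, MvPolynomial.algebraMap_eq, map_C]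
    rw [rho_mu]; rfl
  · show _ = MvPolynomial.map (rho A B) (linForm (j (DiffPoly.dcls (gens A B) s)))
    letI : Algebra B (C ⧸ 𝕀) := (rho A B).toAlgebra
    exact map_linForm_mapRange (B := B) (B' := C ⧸ 𝕀) (j (DiffPoly.dcls (gens A B) s))
where
  sub_mem' {R : Type u} [CommRing R] {I : Ideal R} {a b : R} (ha : a ∈ I) (hb : a - b ∈ I) : b ∈ I := by
    simpa using I.sub_mem ha hb

theorem isDiffSmooth (h : IsLocallyQuasiRegular C 𝕀) : IsDiffSmooth A B := by
  classical
  haveI hP0 := projective_kaehler A B (QR.projective_cotangent 𝕀 h)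
  refine ⟨hP0, fun ι _ => ⟨phi A B, phi_tprod_D A B, ?_, phi_surjective A B⟩⟩
  obtain ⟨j, hj⟩ := Module.projective_def'.1 hP0
  refine DiffPoly.injective_of_coords (gens A B) ?_ j (Finsupp.linearCombination B id) hj fun P hP hev => ?_
  · refine top_le_iff.1 fun w _ => ?_
    obtain ⟨x, hx⟩ := KaehlerDifferential.fromIdeal_surjective A B w
    exact Submodule.subset_span ⟨x, hx⟩
  obtain ⟨φ, hφ, -⟩ := AdicFS4.exists_gr_map 𝕀 ι
  let v : ↥𝕀 → ↥𝕀 := id
  let θ := (cotCoord A B j).restrictScalars C
  obtain ⟨y, hy⟩ := QRSym.exists_sym (ι := ι) (fun s => Ideal.toCotangent 𝕀 (v s)) (P.map (algebraMap B C)) (hP.map _)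
  have hy0 : φ y = 0 := by
    refine QR.emb_injective 𝕀 _ ?_
    rw [show QR.emb 𝕀 _ (φ y) = QR.evalMod 𝕀 v _ (P.map (algebraMap B C)) from
      hy _ ((QR.emb 𝕀 _).comp φ) _ (QR.phi_spec 𝕀 φ hφ v), map_zero, QR.evalMod_apply,
      Ideal.Quotient.eq_zero_iff_mem]
    rwa [aeval_eq_eval_map] at hev
  have h0 := QR.polyMap_eq_zero 𝕀 h θ φ hφ y hy0
  have hy' := hy (MvPolynomial (KaehlerDifferential A B) (C ⧸ 𝕀)) (QRSym.polyMap θ)
    (aeval fun s => linForm (θ (Ideal.toCotangent 𝕀 (v s)))).toLinearMap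
  rw [hy' fun c => QRSym.polyMap_spec θ (fun s => Ideal.toCotangent 𝕀 (v s)) c, AlgHom.toLinearMap_apply,
    aeval_def, eval₂_map] at h0
  refine MvPolynomial.map_injective (rho A B) (rho_injective A B) ?_
  rw [map_zero, ← h0, aeval_def, eval₂_comp_left]
  refine congrArg₂ (fun f g => eval₂ f g P) (RingHom.ext fun b => ?_) (funext fun s => ?_)
  · simp only [RingHom.comp_apply, MvPolynomial.algebraMap_eq, map_C]
    rfl
  · show MvPolynomial.map (rho A B) (linForm (j (DiffPoly.dcls (gens A B) s))) = _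
    letI : Algebra B (C ⧸ 𝕀) := (rho A B).toAlgebra
    exact (map_linForm_mapRange (B := B) (B' := C ⧸ 𝕀) (j (DiffPoly.dcls (gens A B) s))).symm

end Groth.Agent.Calg46.QRDiag
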