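import Groth.Agent.Calg46.QRLocal

/-!
Locally quasi-regular ideals: projective conormal module, symmetric powers.
-/

set_option autoImplicit false
set_option linter.style.haveILetI false

universe u

open MvPolynomial PP16 Groth.Agent.PPLib

namespace Groth.Agent.Calg46.QR

variable {R : Type u} [CommRing R] (J : Ideal R) {ι : Type u} [Fintype ι]

/-- If `J` is locally quasi-regular, an element killed by the zeta map has zero coordinates. -/
theorem polyMap_eq_zero (h : IsLocallyQuasiRegular R J) {τ : Type u} (θ : J.Cotangent →ₗ[R] τ →₀ (R ⧸ J))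
    (φ : SymmetricPower R ι J.Cotangent →ₗ[R] grJ R J (Fintype.card ι))
    (hφ : ∀ x : ι → ↥J, φ (SymmetricPower.tprod R (fun i => J.toCotangent (x i))) = zetaJ R J x)
    (y : SymmetricPower R ι J.Cotangent) (hy : φ y = 0) : QRSym.polyMap θ y = 0 := by
  classical
  obtain ⟨N, f, hf⟩ := Submodule.fg_iff_exists_fin_generating_family.1
    (Synt29.QRDescent.fg_of_isLocallyQuasiRegular J h)
  let v : Fin N → J := fun s => ⟨f s, hf ▸ Submodule.subset_span ⟨s, rfl⟩⟩
  have hv : Ideal.span (Set.range fun s => (v s : R)) = J := hf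
  obtain ⟨P, hP, hspec⟩ := QRSym.exists_poly (ι := ι) (fun s => J.toCotangent (v s)) (span_toCotangent J v hv) y
  have hev : eval (fun s => (v s : R)) P ∈ J ^ (Fintype.card ι + 1) := by
    have h1 := hspec _ ((emb J _).comp φ) (evalMod J v _) (phi_spec J φ hφ v)
    rw [LinearMap.comp_apply, hy, map_zero, evalMod_apply, eq_comm, Ideal.Quotient.eq_zero_iff_mem] at h1
    exact h1
  let L : J.Cotangent →ₗ[R] MvPolynomial τ (R ⧸ J) := ((linForm (R := R ⧸ J) (σ := τ)).restrictScalars R).comp θ
  have hspec' := hspec (MvPolynomial τ (R ⧸ J)) (QRSym.polyMap θ)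
    (aeval fun s => linForm (θ (J.toCotangent (v s)))).toLinearMap
  have hp : QRSym.polyMap θ y = aeval (fun s => L (J.toCotangent (v s))) P := by
    rw [hspec' fun c => QRSym.polyMap_spec θ (fun s => J.toCotangent (v s)) c]
    rfl
  rw [hp]
  set w := aeval (fun s => L (J.toCotangent (v s))) P with hw
  let 𝔞 : Ideal R := (Submodule.span R {w}).annihilator
  have h𝔞 : ∀ a, a ∈ 𝔞 ↔ a • w = 0 := fun a => Submodule.mem_annihilator_span_singleton _ _
  have hJ : J ≤ 𝔞 := fun a ha => by
    rw [h𝔞, Algebra.smul_def, IsScalarTower.algebraMap_apply R (R ⧸ J), Ideal.Quotient.algebraMap_eq,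
      Ideal.Quotient.eq_zero_iff_mem.2 ha, map_zero, zero_mul]
  suffices htop : 𝔞 = ⊤ by simpa [htop] using (h𝔞 1)
  by_contra hne
  obtain ⟨m, hm, hle⟩ := Ideal.exists_le_maximal _ hne
  haveI := hm.isPrime
  obtain ⟨g, hg, r, x, hA, hB⟩ := exists_localGens J h m (hJ.trans hle)
  choose k hk using fun s => hA _ (v s).2
  obtain ⟨K, hK⟩ : ∃ K, ∀ s, k s ≤ K := ⟨∑ s, k s, fun s => Finset.single_le_sum (fun _ _ => Nat.zero_le _) (Finset.mem_univ s)⟩
  have hk' : ∀ s, g ^ K * (v s : R) ∈ Ideal.span (Set.range fun i => (x i : R)) := fun s => by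
    rw [← Nat.sub_add_cancel (hK s), pow_add, mul_assoc]
    exact Ideal.mul_mem_left _ _ (hk s)
  choose a ha using fun s => Ideal.mem_span_range_iff_exists_fun.1 (hk' s)
  have haJ : ∀ s, g ^ K • v s = ∑ i, a s i • x i := fun s => Subtype.ext (by
    rw [Submodule.coe_smul, Submodule.coe_sum, smul_eq_mul, ← ha s]; rfl)
  let lin : Fin N → MvPolynomial (Fin r) R := fun s => ∑ i, C (a s i) * X i
  let Q : MvPolynomial (Fin r) R := aeval lin P
  have hQ : Q.IsHomogeneous (Fintype.card ι) := by
    have h1 := hP.aeval (n := 1) lin fun s => IsHomogeneous.sum _ _ _ fun i _ => (isHomogeneous_X R i).C_mul _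
    simpa only [one_mul, mul_one] using h1
  have hQx : eval (fun i => (x i : R)) Q = (g ^ K) ^ Fintype.card ι • eval (fun s => (v s : R)) P := by
    show aeval (R := R) (fun i => (x i : R)) (aeval lin P) = _ • aeval (R := R) (fun s => (v s : R)) P
    rw [comp_aeval_apply, ← QRSym.aeval_smul_homogeneous _ _ hP]
    congr 1
    refine congrArg _ (funext fun s => ?_)
    rw [smul_eq_mul, ← ha s]
    simp [lin]
  choose l hl using hB _ Q hQ (hQx ▸ Submodule.smul_mem _ _ hev)
  let l' := ∑ d ∈ Q.support, l d
  have hQw : aeval (fun i => L (J.toCotangent (x i))) Q = (g ^ K) ^ Fintype.card ι • w := by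
    show aeval _ (aeval lin P) = _
    rw [comp_aeval_apply, hw, ← QRSym.aeval_smul_homogeneous _ _ hP]
    refine congrArg (fun F => aeval F P) (funext fun s => ?_)
    rw [← map_smul, ← map_smul, haJ, map_sum, map_sum]
    simp [Algebra.smul_def]
  have hzero : g ^ l' • aeval (fun i => L (J.toCotangent (x i))) Q = 0 := by
    rw [Q.as_sum, map_sum, Finset.smul_sum]
    refine Finset.sum_eq_zero fun d hd => ?_
    rw [aeval_monomial, ← smul_mul_assoc, Algebra.smul_def, ← map_mul, IsScalarTower.algebraMap_apply R (R ⧸ J),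
      Ideal.Quotient.algebraMap_eq, Ideal.Quotient.eq_zero_iff_mem.2 ?_, map_zero, zero_mul]
    rw [show g ^ l' = g ^ (l' - l d) * g ^ l d by
      rw [← pow_add, Nat.sub_add_cancel (Finset.single_le_sum (fun _ _ => Nat.zero_le _) hd)], mul_assoc]
    exact J.mul_mem_left _ (hl d)
  rw [hQw, smul_smul, ← pow_mul, ← pow_add, ← h𝔞] at hzero
  exact hg (hm.isPrime.mem_of_pow_mem _ (hle hzero))

section locallyFree

variable (h : IsLocallyQuasiRegular R J)
include h

theorem locally_free (P : Ideal R) [P.IsPrime] (hP : J ≤ P) :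
    ∃ g, g ∉ P ∧
      Module.Free (Localization.Away (Ideal.Quotient.mk J g)) (LocalizedModule.Away (Ideal.Quotient.mk J g) J.Cotangent) ∧
      Module.Finite (Localization.Away (Ideal.Quotient.mk J g))
        (LocalizedModule.Away (Ideal.Quotient.mk J g) J.Cotangent) := by
  classical
  obtain ⟨g, hg, r, x, hA, hB⟩ := exists_localGens J h P hP
  refine ⟨g, hg, ?_⟩
  let q := Ideal.Quotient.mk J
  let S := Submonoid.powers (q g)
  let L := Localization.Away (q g)
  let M := LocalizedModule.Away (q g) J.Cotangent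
  let mkl := LocalizedModule.mkLinearMap S J.Cotangent
  have hq : ∀ (c : R) (z : J), q c • J.toCotangent z = J.toCotangent (c • z) := fun c z => by
    rw [map_smul]; rfl
  have hli : LinearIndependent L (fun i => mkl (J.toCotangent (x i))) := by
    rw [Fintype.linearIndependent_iff]
    intro c hc i
    obtain ⟨b, hb⟩ := IsLocalization.exist_integer_multiples_of_finite S c
    choose a ha using hb
    choose A hA' using fun i => Ideal.Quotient.mk_surjective (a i)
    have h1 : mkl (∑ j, q (A j) • J.toCotangent (x j)) = 0 := by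
      rw [map_sum]
      refine (Finset.sum_congr rfl fun j _ => ?_).trans ((Finset.smul_sum).symm.trans (show (b : R ⧸ J) • _ = (0 : M) by rw [hc, smul_zero]))
      rw [map_smul, ← algebraMap_smul L (q (A j)), hA' j, ha j, smul_assoc]
    obtain ⟨⟨_, ⟨k, rfl⟩⟩, hs⟩ := (IsLocalizedModule.eq_zero_iff S mkl).1 h1
    simp only [hq, ← map_sum] at hs
    replace hs : q (g ^ k) • J.toCotangent (∑ j, A j • x j) = 0 := by rw [map_pow]; exact hs
    rw [hq, Ideal.toCotangent_eq_zero, Submodule.coe_smul, Submodule.coe_sum, smul_eq_mul] at hs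
    obtain ⟨l, hl⟩ := hB 1 (∑ j, C (g ^ k * A j) * X j)
      (IsHomogeneous.sum _ _ _ fun j _ => (isHomogeneous_X R j).C_mul _)
      (by
        simpa [Finset.mul_sum, Submodule.coe_smul, mul_assoc] using hs) (Finsupp.single i 1)
    have hcoef : (∑ j, C (g ^ k * A j) * X j : MvPolynomial (Fin r) R).coeff (Finsupp.single i 1) = g ^ k * A i := by
      rw [coeff_sum, Finset.sum_eq_single i, coeff_C_mul, coeff_X' i, if_pos rfl, mul_one]
      · intro j _ hj
        rw [coeff_C_mul, coeff_X', if_neg fun e => hj (Finsupp.single_left_injective one_ne_zero e), mul_zero]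
      · simp
    rw [hcoef, ← Ideal.Quotient.eq_zero_iff_mem, map_mul, map_mul, hA', map_pow, map_pow] at hl
    have h2 : algebraMap (R ⧸ J) L (a i) = 0 := by
      have h3 := congrArg (algebraMap (R ⧸ J) L) hl
      rw [map_mul, map_mul, map_zero, map_pow, map_pow] at h3
      have hu : IsUnit (algebraMap (R ⧸ J) L (q g)) := IsLocalization.Away.algebraMap_isUnit (q g)
      exact (hu.pow k).mul_right_eq_zero.1 ((hu.pow l).mul_right_eq_zero.1 h3)
    rw [ha i, Algebra.smul_def] at h2
    exact (IsLocalization.map_units L b).mul_right_eq_zero.1 h2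
  have hspan : ⊤ ≤ Submodule.span L (Set.range fun i => mkl (J.toCotangent (x i))) := by
    intro z _
    obtain ⟨⟨m, s⟩, hs⟩ := IsLocalizedModule.surj S mkl z
    obtain ⟨y, rfl⟩ := J.toCotangent_surjective m
    obtain ⟨k, hk⟩ := hA _ y.2
    obtain ⟨a, ha⟩ := Ideal.mem_span_range_iff_exists_fun.1 hk
    have hy : g ^ k • y = ∑ i, a i • x i := Subtype.ext (by
      rw [Submodule.coe_smul, Submodule.coe_sum, smul_eq_mul, ← ha]; rfl)
    have h1 : algebraMap (R ⧸ J) L (q g ^ k * s) • z ∈
        Submodule.span L (Set.range fun i => mkl (J.toCotangent (x i))) := by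
      rw [algebraMap_smul, mul_smul, show (s : R ⧸ J) • z = mkl (J.toCotangent y) from hs, ← map_smul, ← map_pow,
        hq, hy, map_sum, map_sum]
      refine Submodule.sum_mem _ fun i _ => ?_
      rw [← hq, map_smul, ← algebraMap_smul L]
      exact Submodule.smul_mem _ _ (Submodule.subset_span ⟨i, rfl⟩)
    refine (Submodule.smul_mem_iff_of_isUnit _ ?_).1 h1
    rw [map_mul, map_pow]
    exact ((IsLocalization.Away.algebraMap_isUnit (q g)).pow k).mul (IsLocalization.map_units L s)
  let b := Module.Basis.mk hli hspan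
  exact ⟨Module.Free.of_basis b, Module.Finite.of_basis b⟩

theorem projective_cotangent : Module.Projective (R ⧸ J) J.Cotangent := by
  let t : Set (R ⧸ J) :=
    {e | Module.Free (Localization.Away e) (LocalizedModule.Away e J.Cotangent) ∧
      Module.Finite (Localization.Away e) (LocalizedModule.Away e J.Cotangent)}
  have ht : Ideal.span t = ⊤ := by
    by_contra hne
    obtain ⟨m, hm, hle⟩ := Ideal.exists_le_maximal _ hne
    haveI := hm.isPrime
    obtain ⟨g, hg, hfree⟩ := locally_free J h (m.comap (Ideal.Quotient.mk J)) fun a ha => by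
      rw [Ideal.mem_comap, Ideal.Quotient.eq_zero_iff_mem.2 ha]
      exact zero_mem _
    exact hg (hle (Ideal.subset_span hfree))
  haveI : Module.FinitePresentation (R ⧸ J) J.Cotangent :=
    Module.FinitePresentation.of_localizationSpan t ht fun e => by
      obtain ⟨_, _⟩ := e.2
      exact Module.finitePresentation_of_projective _ _
  haveI : Module.Flat (R ⧸ J) J.Cotangent := Module.flat_of_localized_span _ _ t ht fun e => by
    obtain ⟨_, _⟩ := e.2
    exact Module.Flat.trans (R ⧸ J) (Localization.Away e.1) _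
  exact Module.Flat.projective_of_finitePresentation

theorem symGrBijective : SymGrBijective R J := by
  classical
  intro ι _ _
  obtain ⟨φ, hφ, hsur⟩ := AdicFS4.exists_gr_map J ι
  refine ⟨φ, hφ, ?_, hsur⟩
  haveI := projective_cotangent J h
  obtain ⟨j, hj⟩ := LinearMap.exists_rightInverse_of_surjective
    (Finsupp.linearCombination (R ⧸ J) (id : J.Cotangent → J.Cotangent))
    (LinearMap.range_eq_top.2 (Finsupp.linearCombination_id_surjective _ _))
  haveI hT : Module.IsTorsionBySet R (SymmetricPower R ι J.Cotangent) (J : Set R) := fun t a =>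
    AdicFS4.smul_tprod_eq_zero a.2 t
  letI : Module (R ⧸ J) (SymmetricPower R ι J.Cotangent) := hT.module
  haveI : IsScalarTower R (R ⧸ J) (SymmetricPower R ι J.Cotangent) := hT.isScalarTower
  rw [injective_iff_map_eq_zero]
  intro y hy
  exact AdicFS4.eq_zero_of_symPoly_eq_zero (S := R ⧸ J) Ideal.Quotient.mk_surjective j
    (Finsupp.linearCombination (R ⧸ J) (id : J.Cotangent → J.Cotangent)) (fun v => LinearMap.congr_fun hj v)
    (QRSym.polyMap (j.restrictScalars R)) (fun x => QRSym.polyMap_tprod _ x) y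
    (polyMap_eq_zero J h (j.restrictScalars R) φ hφ y hy)

end locallyFree

end Groth.Agent.Calg46.QR
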