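import Groth.Agent.Synt29.QRDescent
import Groth.Agent.AdicFS4.Graded
import Groth.Agent.Calg46.QRSym

/-!
Local generators of a quasi-regular ideal, written in the ring itself.
-/

set_option autoImplicit false
set_option linter.style.haveILetI false

universe u

open MvPolynomial PP16 Groth.Agent.PPLib

namespace Groth.Agent.Calg46.QR

variable {R : Type u} [CommRing R] (J : Ideal R)

/-- On `D(g)` the ideal `J` is generated by the quasi-regular sequence `x`. -/
def LocalGens (g : R) {r : ℕ} (x : Fin r → J) : Prop :=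
  (∀ a ∈ J, ∃ k : ℕ, g ^ k * a ∈ Ideal.span (Set.range fun i => (x i : R))) ∧
    ∀ (n : ℕ) (Q : MvPolynomial (Fin r) R), Q.IsHomogeneous n → eval (fun i => (x i : R)) Q ∈ J ^ (n + 1) →
      ∀ d, ∃ k : ℕ, g ^ k * Q.coeff d ∈ J

theorem exists_localGens (h : IsLocallyQuasiRegular R J) (P : Ideal R) [P.IsPrime] (hP : J ≤ P) :
    ∃ g, g ∉ P ∧ ∃ (r : ℕ) (x : Fin r → J), LocalGens J g x := by
  obtain ⟨g, hg, r, f, hf, hJ⟩ := h P hP
  let T := Localization.Away g
  let al := algebraMap R T
  have hmem : ∀ i, f i ∈ J.map al := fun i => hJ ▸ Ideal.subset_span ⟨i, rfl⟩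
  choose z hz using fun i => (IsLocalization.mem_map_algebraMap_iff (Submonoid.powers g) T).1 (hmem i)
  let e : Fin r → T := fun i => al ((z i).1 : R)
  have he : Ideal.span (Set.range e) = Ideal.span (Set.range f) := by
    refine le_antisymm (Ideal.span_le.2 ?_) (Ideal.span_le.2 ?_)
    · rintro _ ⟨i, rfl⟩
      show al _ ∈ Ideal.span _
      rw [← hz i]
      exact Ideal.mul_mem_right _ _ (Ideal.subset_span ⟨i, rfl⟩)
    · rintro _ ⟨i, rfl⟩
      rw [SetLike.mem_coe, ← Ideal.mul_unit_mem_iff_mem _ (IsLocalization.map_units T (z i).2), hz i]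
      exact Ideal.subset_span ⟨i, rfl⟩
  have hqr : CAlgX.IsQuasiRegular e := LinType.isQuasiRegular_of_span_eq f e hf he
  have heJ : Ideal.span (Set.range e) = J.map al := he.trans hJ
  refine ⟨g, hg, r, fun i => (z i).1, fun a ha => ?_, fun n Q hQ hev d => ?_⟩
  · have h1 : al a ∈ (Ideal.span (Set.range fun i => ((z i).1 : R))).map al := by
      rw [Synt29.QRDescent.map_span_range, show (fun i => algebraMap R T ((z i).1 : R)) = e from rfl, heJ]
      exact Ideal.mem_map_of_mem _ ha
    obtain ⟨_, ⟨k, rfl⟩, hk⟩ := (IsLocalization.algebraMap_mem_map_algebraMap_iff (Submonoid.powers g) T _ _).1 h1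
    exact ⟨k, hk⟩
  · have h1 : eval e (Q.map al) ∈ Ideal.span (Set.range e) ^ (n + 1) := by
      rw [heJ, ← Ideal.map_pow, eval_map,
        show eval₂ al e Q = al (eval (fun i => ((z i).1 : R)) Q) from (eval₂_comp _ _ _).symm]
      exact Ideal.mem_map_of_mem _ hev
    have h2 := hqr n _ (hQ.map al) h1 d
    rw [heJ, coeff_map, IsLocalization.algebraMap_mem_map_algebraMap_iff (Submonoid.powers g)] at h2
    obtain ⟨_, ⟨k, rfl⟩, hk⟩ := h2
    exact ⟨k, hk⟩

theorem isLocallyQuasiRegular_of_localGens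
    (h : ∀ (P : Ideal R) [P.IsPrime], J ≤ P → ∃ g, g ∉ P ∧ ∃ (r : ℕ) (x : Fin r → J), LocalGens J g x) :
    IsLocallyQuasiRegular R J := by
  classical
  intro P _ hP
  obtain ⟨g, hg, r, x, hA, hB⟩ := h P hP
  let T := Localization.Away g
  let al := algebraMap R T
  let e : Fin r → T := fun i => al (x i : R)
  have heJ : Ideal.span (Set.range e) = J.map al := by
    refine le_antisymm (Ideal.span_le.2 ?_) (Ideal.map_le_iff_le_comap.2 fun a ha => ?_)
    · rintro _ ⟨i, rfl⟩
      exact Ideal.mem_map_of_mem _ (x i).2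
    · obtain ⟨k, hk⟩ := hA a ha
      show al a ∈ Ideal.span (Set.range e)
      rw [show Ideal.span (Set.range e) = (Ideal.span (Set.range fun i => (x i : R))).map al from
        (Synt29.QRDescent.map_span_range _).symm,
        IsLocalization.algebraMap_mem_map_algebraMap_iff (Submonoid.powers g) T]
      exact ⟨_, ⟨k, rfl⟩, hk⟩
  refine ⟨g, hg, r, e, fun n Q hQ hev d => ?_, heJ⟩
  obtain ⟨b, hb⟩ := IsLocalization.exist_integer_multiples (Submonoid.powers g) Q.support Q.coeff
  choose a ha using hb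
  let Q0 : MvPolynomial (Fin r) R := ∑ d ∈ Q.support.attach, monomial d.1 (a d.1 d.2)
  have hQ0 : Q0.IsHomogeneous n := IsHomogeneous.sum _ _ _ fun d _ =>
    isHomogeneous_monomial _ ((Finsupp.degree_apply _).trans (hQ.degree_eq_sum_deg_support d.2).symm)
  have hmap : Q0.map al = C (al b) * Q := by
    simp only [Q0, map_sum, map_monomial]
    conv_rhs => rw [Q.as_sum, Finset.mul_sum, ← Finset.sum_attach]
    refine Finset.sum_congr rfl fun d _ => ?_
    rw [C_mul_monomial]
    congr 1
    exact (ha d.1 d.2).trans (Algebra.smul_def _ _)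
  have hev0 : al (eval (fun i => (x i : R)) Q0) ∈ (J ^ (n + 1)).map al := by
    rw [show al (eval (fun i => (x i : R)) Q0) = eval₂ al e Q0 from eval₂_comp _ _ _, ← eval_map, hmap, map_mul,
      Ideal.map_pow, ← heJ]
    exact Ideal.mul_mem_left _ _ hev
  rw [IsLocalization.algebraMap_mem_map_algebraMap_iff (Submonoid.powers g) T] at hev0
  obtain ⟨_, ⟨k, rfl⟩, hk⟩ := hev0
  obtain ⟨l, hl⟩ := hB n (C (g ^ k) * Q0) (hQ0.C_mul _) (by simpa using hk) d
  rw [coeff_C_mul, ← mul_assoc, ← pow_add] at hl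
  have h1 : al (Q0.coeff d) ∈ J.map al :=
    (IsLocalization.algebraMap_mem_map_algebraMap_iff (Submonoid.powers g) T _ _).2 ⟨_, ⟨l + k, rfl⟩, hl⟩
  rw [← coeff_map, hmap, coeff_C_mul] at h1
  rw [heJ]
  exact (Ideal.unit_mul_mem_iff_mem _ (IsLocalization.map_units T b)).1 h1

/-- `J^n/J^(n+1)` inside `R/J^(n+1)`. -/
noncomputable def emb (n : ℕ) : grJ R J n →ₗ[R] R ⧸ J ^ (n + 1) :=
  Submodule.mapQ _ _ (J ^ n).subtype le_rfl

theorem emb_mk (n : ℕ) (z : ↥(J ^ n)) :
    emb J n (Submodule.Quotient.mk z) = Ideal.Quotient.mk (J ^ (n + 1)) (z : R) := rfl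

theorem emb_injective (n : ℕ) : Function.Injective (emb J n) := by
  rw [injective_iff_map_eq_zero]
  intro w hw
  obtain ⟨z, rfl⟩ := Submodule.Quotient.mk_surjective _ w
  rw [emb_mk, Ideal.Quotient.eq_zero_iff_mem] at hw
  exact (Submodule.Quotient.mk_eq_zero _).2 hw

/-- Evaluation, modulo `J^(n+1)`. -/
noncomputable def evalMod {σ : Type*} (v : σ → J) (n : ℕ) : MvPolynomial σ R →ₗ[R] R ⧸ J ^ (n + 1) :=
  ((Ideal.Quotient.mkₐ R (J ^ (n + 1))).comp (aeval fun s => (v s : R))).toLinearMap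

theorem evalMod_apply {σ : Type*} (v : σ → J) (n : ℕ) (P : MvPolynomial σ R) :
    evalMod J v n P = Ideal.Quotient.mk (J ^ (n + 1)) (eval (fun s => (v s : R)) P) := by
  simp [evalMod, aeval_eq_eval]

variable {ι : Type u} [Fintype ι]

theorem phi_spec {σ : Type*} (φ : SymmetricPower R ι J.Cotangent →ₗ[R] grJ R J (Fintype.card ι))
    (hφ : ∀ x : ι → ↥J, φ (SymmetricPower.tprod R (fun i => J.toCotangent (x i))) = zetaJ R J x)
    (v : σ → J) (c : ι → σ) :
    ((emb J _).comp φ) (SymmetricPower.tprod R fun i => J.toCotangent (v (c i))) =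
      evalMod J v (Fintype.card ι) (∏ i, (X (c i) : MvPolynomial σ R)) := by
  rw [LinearMap.comp_apply, hφ, evalMod_apply, map_prod]
  simp only [eval_X]
  rfl

theorem span_toCotangent {σ : Type*} (v : σ → J) (hv : Ideal.span (Set.range fun s => (v s : R)) = J) :
    Submodule.span R (Set.range fun s => J.toCotangent (v s)) = ⊤ := by
  have : Submodule.span R (Set.range v) = ⊤ := by
    refine Submodule.map_injective_of_injective J.injective_subtype ?_
    rw [Submodule.map_span, ← Set.range_comp, Submodule.map_top, Submodule.range_subtype]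
    exact hv
  rw [show (fun s => J.toCotangent (v s)) = J.toCotangent ∘ v from rfl, Set.range_comp, ← Submodule.map_span, this,
    Submodule.map_top, J.toCotangent_range]

end Groth.Agent.Calg46.QR
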