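import Mathlib
import Groth.Prelude.Def_Found

/-!
# Stabilisation of reduced tensor products of finite subalgebras of a field
-/

noncomputable section

namespace Groth.Agent.Calg46

universe u

open TensorProduct

section Basic

variable {A B K' R : Type u} [CommRing A] [CommRing B] [Algebra A B] [Field K'] [Algebra A K']
  [CommRing R] [Algebra A R]

/-- If `f : B → R` has nil kernel, an element of `K' ⊗ B` with nilpotent image in `K' ⊗ R` is nilpotent. -/
theorem isNilpotent_of_lTensor [Module.Flat A K'] (f : B →ₐ[A] R) (hf : RingHom.ker f ≤ nilradical B)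
    (y : K' ⊗[A] B) (hy : IsNilpotent (Algebra.TensorProduct.map (AlgHom.id A K') f y)) :
    IsNilpotent y := by
  obtain ⟨N, hN⟩ := hy
  suffices h : IsNilpotent (y ^ N) by
    obtain ⟨M, hM⟩ := h
    exact ⟨N * M, by rw [pow_mul, hM]⟩
  rw [← map_pow] at hN
  have h1 : y ^ N ∈ RingHom.ker (Algebra.TensorProduct.map (AlgHom.id A K') f.rangeRestrict) := by
    rw [RingHom.mem_ker]
    have hinj : Function.Injective (Algebra.TensorProduct.map (AlgHom.id A K') f.range.val) :=
      Module.Flat.lTensor_preserves_injective_linearMap (M := K') f.range.val.toLinearMap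
        Subtype.val_injective
    apply hinj
    rw [map_zero, ← AlgHom.comp_apply, ← Algebra.TensorProduct.map_comp]
    exact hN
  rw [Algebra.TensorProduct.lTensor_ker _ f.rangeRestrict_surjective] at h1
  rw [← mem_nilradical]
  refine (Ideal.map_le_iff_le_comap.2 fun b hb => ?_ : Ideal.map _ _ ≤ nilradical (K' ⊗[A] B)) h1
  rw [RingHom.mem_ker] at hb
  have hb' : b ∈ nilradical B := hf (by rw [RingHom.mem_ker]; simpa using congrArg Subtype.val hb)
  exact Ideal.mem_comap.2 (mem_nilradical.2 ((mem_nilradical.1 hb').map _))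

/-- The map `A' ⊗ B → K' ⊗ B` is injective. -/
theorem injective_map_val [Module.Flat A B] (A' : Subalgebra A K') :
    Function.Injective (Algebra.TensorProduct.map A'.val (AlgHom.id A B)) :=
  Module.Flat.rTensor_preserves_injective_linearMap (M := B) A'.val.toLinearMap Subtype.val_injective

theorem flat_field [IsDomain A] [Algebra (FractionRing A) K'] [IsScalarTower A (FractionRing A) K'] :
    Module.Flat A K' :=
  have : Module.Flat A (FractionRing A) := IsLocalization.flat _ (nonZeroDivisors A)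
  Module.Flat.trans A (FractionRing A) K'

/-- An element of `A' ⊗ B` with nilpotent image in `K' ⊗ R` is nilpotent. -/
theorem isNilpotent_of_map [IsDomain A] [Algebra (FractionRing A) K'] [IsScalarTower A (FractionRing A) K']
    [Module.Flat A B] (A' : Subalgebra A K') (f : B →ₐ[A] R) (hf : RingHom.ker f ≤ nilradical B)
    (x : ↥A' ⊗[A] B) (hx : IsNilpotent (Algebra.TensorProduct.map A'.val f x)) : IsNilpotent x := by
  have : Module.Flat A K' := flat_field
  refine (IsNilpotent.map_iff (injective_map_val A')).1 (isNilpotent_of_lTensor f hf _ ?_)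
  rwa [← AlgHom.comp_apply, ← Algebra.TensorProduct.map_comp, AlgHom.id_comp, AlgHom.comp_id]

end Basic

section Core

variable {A B K' ι : Type u} [CommRing A] [CommRing B] [Algebra A B] [Field K'] [Algebra A K']
  [Finite ι] {F : ι → Type u} [∀ i, CommRing (F i)] [∀ i, Algebra A (F i)] [∀ i, Algebra B (F i)]
  [∀ i, IsScalarTower A B (F i)]

/-- The family of maps `K' ⊗ B → F i`. -/
def phi (g : ∀ i, K' →ₐ[A] F i) (i : ι) : K' ⊗[A] B →ₐ[A] F i :=
  Algebra.TensorProduct.lift (g i) (IsScalarTower.toAlgHom A B (F i)) fun _ _ => Commute.all _ _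

omit [Finite ι] in
@[simp] theorem phi_tmul (g : ∀ i, K' →ₐ[A] F i) (i : ι) (c : K') (b : B) :
    phi g i (c ⊗ₜ b) = g i c * algebraMap B (F i) b :=
  Algebra.TensorProduct.lift_tmul ..

omit [Finite ι] in
theorem phi_mem (g : ∀ i, K' →ₐ[A] F i) (C : Subalgebra A K') (x : ↥C ⊗[A] B) :
    (fun i => phi g i (Algebra.TensorProduct.map C.val (AlgHom.id A B) x)) ∈
      Algebra.adjoin B ((fun c i => g i c) '' (C : Set K')) := by
  induction x using TensorProduct.induction_on with
  | zero => simp only [map_zero]; exact Subalgebra.zero_mem _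
  | tmul c b =>
    have h : (fun i => phi g i (Algebra.TensorProduct.map C.val (AlgHom.id A B) (c ⊗ₜ b))) =
        b • fun i => g i (c : K') := by
      funext i
      simp [Algebra.smul_def, mul_comm]
    rw [h]
    exact Subalgebra.smul_mem _ (Algebra.subset_adjoin (Set.mem_image_of_mem (fun c i => g i c) c.2)) b
  | add x y hx hy =>
    simp only [map_add]
    exact Subalgebra.add_mem _ hx hy

omit [Finite ι] in
theorem exists_phi_eq (g : ∀ i, K' →ₐ[A] F i) (C : Subalgebra A K') {z : ∀ i, F i}
    (hz : z ∈ Algebra.adjoin B ((fun c i => g i c) '' (C : Set K'))) :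
    ∃ x : ↥C ⊗[A] B, (fun i => phi g i (Algebra.TensorProduct.map C.val (AlgHom.id A B) x)) = z := by
  induction hz using Algebra.adjoin_induction with
  | mem z hz =>
    obtain ⟨c, hc, rfl⟩ := hz
    exact ⟨(⟨c, hc⟩ : C) ⊗ₜ 1, by funext i; simp⟩
  | algebraMap b => exact ⟨1 ⊗ₜ b, by funext i; simp⟩
  | add z w _ _ hz hw =>
    obtain ⟨x, rfl⟩ := hz
    obtain ⟨y, rfl⟩ := hw
    exact ⟨x + y, by funext i; simp⟩
  | mul z w _ _ hz hw =>
    obtain ⟨x, rfl⟩ := hz
    obtain ⟨y, rfl⟩ := hw
    exact ⟨x * y, by funext i; simp⟩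

omit [Finite ι] in
theorem adjoin_le_pi (g : ∀ i, K' →ₐ[A] F i) (C : Subalgebra A K') [Module.Finite A C] {z : ∀ i, F i}
    (hz : z ∈ Algebra.adjoin B ((fun c i => g i c) '' (C : Set K'))) (i : ι) :
    z i ∈ integralClosure B (F i) := by
  have h : Algebra.adjoin B ((fun c i => g i c) '' (C : Set K')) ≤
      (integralClosure B (F i)).comap (Pi.evalAlgHom B F i) := by
    refine Algebra.adjoin_le ?_
    rintro _ ⟨c, hc, rfl⟩
    change g i c ∈ integralClosure B (F i)
    have : IsIntegral A ((⟨c, hc⟩ : C)) := Algebra.IsIntegral.isIntegral _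
    exact ((this.map C.val).map (g i)).tower_top
  exact h hz

/-- Stabilisation of the reductions. -/
theorem exists_stable [IsNoetherianRing B] [Module.Flat A B] (g : ∀ i, K' →ₐ[A] F i)
    (hfin : ∀ i, Module.Finite B (integralClosure B (F i)))
    (hnil : ∀ y : K' ⊗[A] B, (∀ i, phi g i y = 0) → IsNilpotent y)
    (P : Subalgebra A K' → Prop) (hP : ∀ C, P C → Module.Finite A C) (h0 : ∃ C, P C) :
    ∃ Cα, P Cα ∧ ∀ C, P C → ∀ hle : Cα ≤ C,
      (∀ x : ↥Cα ⊗[A] B, IsNilpotent (Algebra.TensorProduct.map (Subalgebra.inclusion hle) (AlgHom.id A B) x) →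
          IsNilpotent x) ∧
      ∀ y : ↥C ⊗[A] B, ∃ x : ↥Cα ⊗[A] B,
          IsNilpotent (Algebra.TensorProduct.map (Subalgebra.inclusion hle) (AlgHom.id A B) x - y) := by
  let W : Submodule B (∀ i, F i) :=
    Submodule.pi Set.univ fun i => Subalgebra.toSubmodule (integralClosure B (F i))
  have hW : Module.Finite B W := by
    let e : (∀ i, integralClosure B (F i)) →ₗ[B] W :=
      { toFun := fun z => ⟨fun i => (z i : F i), fun i _ => (z i).2⟩
        map_add' := fun _ _ => rfl
        map_smul' := fun _ _ => rfl }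
    exact Module.Finite.of_surjective e fun z => ⟨fun i => ⟨z.1 i, z.2 i trivial⟩, rfl⟩
  let M : Subalgebra A K' → Submodule B W := fun C =>
    Submodule.comap W.subtype (Subalgebra.toSubmodule (Algebra.adjoin B ((fun c i => g i c) '' (C : Set K'))))
  obtain ⟨Cα, hCα, hmax⟩ : ∃ Cα, P Cα ∧ ∀ C, P C → M Cα ≤ M C → M C ≤ M Cα := by
    obtain ⟨C0, hC0⟩ := h0
    obtain ⟨m, ⟨Cα, hCα, rfl⟩, hm⟩ := set_has_maximal_iff_noetherian.2
      (isNoetherian_of_isNoetherianRing_of_finite B W) (M '' {C | P C}) ⟨_, C0, hC0, rfl⟩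
    refine ⟨Cα, hCα, fun C hC hle => ?_⟩
    by_contra h
    exact hm (M C) ⟨C, hC, rfl⟩ (lt_of_le_not_ge hle h)
  refine ⟨Cα, hCα, fun C hC hle => ?_⟩
  have := hP C hC
  have hcomp : ∀ x, Algebra.TensorProduct.map C.val (AlgHom.id A B)
      (Algebra.TensorProduct.map (Subalgebra.inclusion hle) (AlgHom.id A B) x) =
        Algebra.TensorProduct.map Cα.val (AlgHom.id A B) x := fun x => by
    rw [← AlgHom.comp_apply, ← Algebra.TensorProduct.map_comp]
    rfl
  refine ⟨fun x hx => (IsNilpotent.map_iff (injective_map_val Cα)).1 ?_, fun y => ?_⟩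
  · rw [← hcomp]
    exact hx.map _
  · have hz := phi_mem g C y
    have hzW : (fun i => phi g i (Algebra.TensorProduct.map C.val (AlgHom.id A B) y)) ∈ W :=
      fun i _ => adjoin_le_pi g C hz i
    have hmono : M Cα ≤ M C := Submodule.comap_mono
      (fun w hw => Algebra.adjoin_mono (R := B) (Set.image_mono hle) hw)
    have hz' : (⟨_, hzW⟩ : W) ∈ M Cα := hmax C hC hmono hz
    obtain ⟨x, hx⟩ := exists_phi_eq g Cα hz'
    refine ⟨x, (IsNilpotent.map_iff (injective_map_val C)).1 (hnil _ fun i => ?_)⟩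
    have hxi := congrFun hx i
    rw [map_sub, hcomp, map_sub, sub_eq_zero]
    exact hxi

/-- The radicial part. -/
theorem eq_of_stable [Module.FaithfullyFlat A B] {Cα C : Subalgebra A K'} (hle : Cα ≤ C)
    (h : ∀ y : ↥C ⊗[A] B, ∃ x : ↥Cα ⊗[A] B,
      IsNilpotent (Algebra.TensorProduct.map (Subalgebra.inclusion hle) (AlgHom.id A B) x - y))
    {Ω : Type u} [Field Ω] (g₁ g₂ : C →+* Ω)
    (hg : g₁.comp (Subalgebra.inclusion hle).toRingHom = g₂.comp (Subalgebra.inclusion hle).toRingHom) :
    g₁ = g₂ := by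
  let : Algebra A Ω := (g₁.comp (algebraMap A C)).toAlgebra
  have h2 : ∀ a, g₂ (algebraMap A C a) = g₁ (algebraMap A C a) := fun a => by
    have := DFunLike.congr_fun hg (algebraMap A Cα a)
    simpa using this.symm
  have : Nontrivial (B ⊗[A] Ω) := Module.FaithfullyFlat.lTensor_nontrivial A B Ω
  obtain ⟨m, hm⟩ := Ideal.exists_maximal (B ⊗[A] Ω)
  let := Ideal.Quotient.field m
  let G : (C →ₐ[A] Ω) → (↥C ⊗[A] B →ₐ[A] (B ⊗[A] Ω) ⧸ m) := fun g =>
    Algebra.TensorProduct.lift
      (((Ideal.Quotient.mkₐ A m).comp Algebra.TensorProduct.includeRight).comp g)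
      ((Ideal.Quotient.mkₐ A m).comp Algebra.TensorProduct.includeLeft) fun _ _ => Commute.all _ _
  let e₁ : C →ₐ[A] Ω := { g₁ with commutes' := fun _ => rfl }
  let e₂ : C →ₐ[A] Ω := { g₂ with commutes' := h2 }
  have hagree : ∀ x : ↥Cα ⊗[A] B,
      G e₁ (Algebra.TensorProduct.map (Subalgebra.inclusion hle) (AlgHom.id A B) x) =
        G e₂ (Algebra.TensorProduct.map (Subalgebra.inclusion hle) (AlgHom.id A B) x) := fun x => by
    induction x using TensorProduct.induction_on with
    | zero => simp
    | tmul c b =>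
      have hc : e₁ (Subalgebra.inclusion hle c) = e₂ (Subalgebra.inclusion hle c) := DFunLike.congr_fun hg c
      simp [G, hc]
    | add x y hx hy => simp only [map_add, hx, hy]
  refine RingHom.ext fun c => ?_
  obtain ⟨x, hx⟩ := h (c ⊗ₜ 1)
  have key : ∀ e : C →ₐ[A] Ω, G e (c ⊗ₜ 1) =
      G e (Algebra.TensorProduct.map (Subalgebra.inclusion hle) (AlgHom.id A B) x) := fun e => by
    refine (sub_eq_zero.1 ?_).symm
    rw [← map_sub]
    exact (hx.map (G e)).eq_zero
  have heq := ((key e₁).trans (hagree x)).trans (key e₂).symm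
  simp only [G, Algebra.TensorProduct.lift_tmul, map_one, mul_one] at heq
  exact ((Ideal.Quotient.mk m).comp
    (Algebra.TensorProduct.includeRight : Ω →ₐ[A] B ⊗[A] Ω).toRingHom).injective heq

end Core

/-- A finite subalgebra with fraction field `K'`. -/
theorem exists_finite_full (A : Type u) [CommRing A] [IsDomain A] (K' : Type u) [Field K'] [Algebra A K']
    [Algebra (FractionRing A) K'] [IsScalarTower A (FractionRing A) K']
    [FiniteDimensional (FractionRing A) K'] :
    ∃ C : Subalgebra A K', Module.Finite A C ∧ ∀ x : K', ∃ a b : C, (b : K') ≠ 0 ∧ x * b = a := by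
  classical
  obtain ⟨s, b, hb⟩ := FiniteDimensional.exists_is_basis_integral A (FractionRing A) K'
  let C := Algebra.adjoin A (Set.range b)
  have hC : Module.Finite A C := by
    refine Module.Finite.iff_fg.2 (fg_adjoin_of_finite (Set.finite_range b) ?_)
    rintro _ ⟨i, rfl⟩
    exact hb i
  refine ⟨C, hC, fun x => ?_⟩
  obtain ⟨d, hd⟩ := IsLocalization.exist_integer_multiples_of_finite (nonZeroDivisors A)
    (fun i => b.repr x i)
  have hd0 : algebraMap A K' d ≠ 0 := by
    rw [IsScalarTower.algebraMap_apply A (FractionRing A) K']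
    exact (map_ne_zero_iff _ (algebraMap (FractionRing A) K').injective).2
      ((map_ne_zero_iff _ (IsFractionRing.injective A (FractionRing A))).2 (nonZeroDivisors.ne_zero d.2))
  have hmem : algebraMap A K' d * x ∈ C := by
    rw [← b.sum_repr x, Finset.mul_sum]
    refine Subalgebra.sum_mem _ fun i _ => ?_
    obtain ⟨a, ha⟩ := hd i
    have h : algebraMap A K' d * (b.repr x i • b i) = a • b i := by
      rw [← Algebra.smul_def, ← smul_assoc]
      change ((d : A) • b.repr x i) • b i = _
      rw [← ha, algebraMap_smul]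
    rw [h]
    exact C.smul_mem (Algebra.subset_adjoin ⟨i, rfl⟩) a
  exact ⟨⟨_, hmem⟩, algebraMap A C d, by simpa using hd0, by rw [mul_comm]; rfl⟩

/-- The canonical map `K' ⊗[A] L → L ⊗[K] K'`. -/
def tensorSwap (A K K' L : Type u) [CommRing A] [Field K] [Algebra A K] [CommRing K'] [Algebra A K']
    [Algebra K K'] [IsScalarTower A K K'] [CommRing L] [Algebra A L] [Algebra K L] [IsScalarTower A K L] :
    K' ⊗[A] L →ₐ[A] L ⊗[K] K' :=
  Algebra.TensorProduct.lift
    ((Algebra.TensorProduct.includeRight : K' →ₐ[K] L ⊗[K] K').restrictScalars A)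
    ((Algebra.TensorProduct.includeLeft : L →ₐ[K] L ⊗[K] K').restrictScalars A) fun _ _ => Commute.all _ _

theorem injective_tensorSwap (A K K' L : Type u) [CommRing A] [Field K] [Algebra A K] [IsFractionRing A K]
    [CommRing K'] [Algebra A K'] [Algebra K K'] [IsScalarTower A K K'] [CommRing L] [Algebra A L]
    [Algebra K L] [IsScalarTower A K L] :
    Function.Injective (tensorSwap A K K' L) := by
  let e := (IsLocalization.algebraTensorEquiv (nonZeroDivisors A) K K' L).symm.trans
    (Algebra.TensorProduct.comm K K' L)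
  have heq : tensorSwap A K K' L = (e.toAlgHom).restrictScalars A := by
    refine Algebra.TensorProduct.ext (AlgHom.ext fun k => ?_) (AlgHom.ext fun b => ?_) <;>
      simp [tensorSwap, e, IsLocalization.algebraTensorEquiv] <;> rfl
  rw [heq]
  exact e.injective

set_option maxHeartbeats 800000 in
/-- The fields used for the stabilisation. -/
theorem exists_stable_of_isN2 {A B K' : Type u} [CommRing A] [IsDomain A] [CommRing B] [Algebra A B]
    [IsNoetherianRing B] [Module.Flat A B]
    (hJ : ∀ (q : Ideal B) [q.IsPrime], q ∈ minimalPrimes B → CAlg.IsN2 (B ⧸ q))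
    [Field K'] [Algebra A K'] [Algebra (FractionRing A) K'] [IsScalarTower A (FractionRing A) K']
    [FiniteDimensional (FractionRing A) K']
    (P : Subalgebra A K' → Prop) (hP : ∀ C, P C → Module.Finite A C) (h0 : ∃ C, P C) :
    ∃ Cα, P Cα ∧ ∀ C, P C → ∀ hle : Cα ≤ C,
      (∀ x : ↥Cα ⊗[A] B, IsNilpotent (Algebra.TensorProduct.map (Subalgebra.inclusion hle) (AlgHom.id A B) x) →
          IsNilpotent x) ∧
      ∀ y : ↥C ⊗[A] B, ∃ x : ↥Cα ⊗[A] B,
          IsNilpotent (Algebra.TensorProduct.map (Subalgebra.inclusion hle) (AlgHom.id A B) x - y) := by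
  classical
  haveI : Module.Flat A K' := flat_field
  let Q := {q : PrimeSpectrum B // q.asIdeal ∈ minimalPrimes B}
  haveI : Finite Q :=
    haveI := (minimalPrimes.finite_of_isNoetherianRing B).to_subtype
    Finite.of_injective (fun q : Q => (⟨q.1.asIdeal, q.2⟩ : minimalPrimes B))
      fun a b h => Subtype.ext (PrimeSpectrum.ext (congrArg (fun z : minimalPrimes B => z.1) h))
  haveI : Fintype Q := Fintype.ofFinite Q
  have hinjA : ∀ q : Q, Function.Injective (algebraMap A (FractionRing (B ⧸ q.1.asIdeal))) := fun q => by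
    rw [injective_iff_map_eq_zero]
    intro a ha
    by_contra ha0
    have h1 : algebraMap A B a ∈ q.1.asIdeal := by
      rw [← Ideal.Quotient.eq_zero_iff_mem]
      apply IsFractionRing.injective (B ⧸ q.1.asIdeal) (FractionRing (B ⧸ q.1.asIdeal))
      rw [map_zero, ← ha, IsScalarTower.algebraMap_apply A (B ⧸ q.1.asIdeal) (FractionRing _)]
      rfl
    have h2 : algebraMap A B a ∈ nonZeroDivisors B := by
      have hreg : IsSMulRegular A a := fun x y h => mul_left_cancel₀ ha0 h
      have := hreg.of_flat (S := B)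
      refine mem_nonZeroDivisors_iff_right.2 fun x hx => this ?_
      simpa [Algebra.smul_def, mul_comm] using hx
    exact Set.disjoint_left.1 (Ideal.disjoint_nonZeroDivisors_of_mem_minimalPrimes q.2) h1 h2
  let L := fun q : Q => FractionRing (B ⧸ q.1.asIdeal)
  let : ∀ q, Algebra (FractionRing A) (L q) := fun q => (IsFractionRing.lift (hinjA q)).toAlgebra
  have : ∀ q, IsScalarTower A (FractionRing A) (L q) := fun q =>
    IsScalarTower.of_algebraMap_eq fun a => (IsFractionRing.lift_algebraMap (hinjA q) a).symm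
  let T := fun q : Q => L q ⊗[FractionRing A] K'
  let J := Σ q : Q, {m : Ideal (T q) // m.IsMaximal}
  have hfinJ : Finite J := by
    have : ∀ q : Q, Finite {m : Ideal (T q) // m.IsMaximal} := fun q => by
      have : IsArtinianRing (T q) := IsArtinianRing.of_finite (L q) (T q)
      exact (IsArtinianRing.setOfPred_isMaximal_finite (T q)).to_subtype
    infer_instance
  let g : ∀ j : J, K' →ₐ[A] T j.1 ⧸ j.2.1 := fun j =>
    (Ideal.Quotient.mkₐ A j.2.1).comp
      ((Algebra.TensorProduct.includeRight : K' →ₐ[FractionRing A] T j.1).restrictScalars A)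
  let instB : ∀ j : J, Algebra B (T j.1 ⧸ j.2.1) := fun j => inferInstance
  have : ∀ j : J, IsScalarTower A B (T j.1 ⧸ j.2.1) := fun j => inferInstance
  refine exists_stable (F := fun j : J => T j.1 ⧸ j.2.1) g (fun j => ?_) (fun y hy => ?_) P hP h0
  · let := j.2.2
    let := Ideal.Quotient.field j.2.1
    have hfinL : FiniteDimensional (L j.1) (T j.1 ⧸ j.2.1) :=
      Module.Finite.of_surjective (Ideal.Quotient.mkₐ (L j.1) j.2.1).toLinearMap Ideal.Quotient.mk_surjective
    have := hJ j.1.1.asIdeal j.1.2 (T j.1 ⧸ j.2.1) hfinL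
    have : Module.Finite B (integralClosure (B ⧸ j.1.1.asIdeal) (T j.1 ⧸ j.2.1)) := Module.Finite.trans (B ⧸ j.1.1.asIdeal) _
    let e : integralClosure B (T j.1 ⧸ j.2.1) →ₗ[B] integralClosure (B ⧸ j.1.1.asIdeal) (T j.1 ⧸ j.2.1) :=
      { toFun := fun z => ⟨z.1, z.2.tower_top⟩
        map_add' := fun _ _ => rfl
        map_smul' := fun _ _ => rfl }
    exact Module.Finite.of_injective e fun a b h => Subtype.ext (Subtype.mk.inj h)
  · let f : B →ₐ[A] (∀ q, L q) := AlgHom.pi fun q => IsScalarTower.toAlgHom A B (L q)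
    have hf : RingHom.ker f ≤ nilradical B := fun b hb => by
      rw [nilradical, Ideal.radical_eq_sInf, Ideal.mem_sInf]
      rintro P ⟨-, hPp⟩
      obtain ⟨q, hq, hqP⟩ := Ideal.exists_minimalPrimes_le (bot_le : ⊥ ≤ P)
      have hb' := congrFun (RingHom.mem_ker.1 hb) ⟨⟨q, hq.1.1⟩, hq⟩
      apply hqP
      rw [← Ideal.Quotient.eq_zero_iff_mem]
      apply IsFractionRing.injective (B ⧸ q) (FractionRing (B ⧸ q))
      rw [map_zero]
      exact hb'
    refine isNilpotent_of_lTensor f hf y ?_
    refine (IsNilpotent.map_iff (Algebra.TensorProduct.piRight A A K' L).injective).1 ?_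
    obtain ⟨N, hN⟩ : ∃ N, ∀ q, ((Algebra.TensorProduct.piRight A A K' L)
        (Algebra.TensorProduct.map (AlgHom.id A K') f y) q) ^ N = 0 := by
      have hq : ∀ q, IsNilpotent ((Algebra.TensorProduct.piRight A A K' L)
          (Algebra.TensorProduct.map (AlgHom.id A K') f y) q) := fun q => by
        refine (IsNilpotent.map_iff (injective_tensorSwap A (FractionRing A) K' (L q))).1 ?_
        have : IsArtinianRing (T q) := IsArtinianRing.of_finite (L q) (T q)
        rw [← mem_nilradical, nilradical_eq_sInf, Ideal.mem_sInf]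
        intro m hm
        have : m.IsPrime := hm
        replace hm : m.IsMaximal := IsArtinianRing.isMaximal_of_isPrime m
        rw [← Ideal.Quotient.eq_zero_iff_mem, ← hy (⟨q, m, hm⟩ : J)]
        let π : K' ⊗[A] B →ₐ[A] T q ⧸ m := (Ideal.Quotient.mkₐ A m).comp
          ((tensorSwap A (FractionRing A) K' (L q)).comp
            (((Pi.evalAlgHom A (fun q => K' ⊗[A] L q) q).comp
              (Algebra.TensorProduct.piRight A A K' L).toAlgHom).comp
              (Algebra.TensorProduct.map (AlgHom.id A K') f)))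
        have hπ : π = phi (B := B) (F := fun j : J => T j.1 ⧸ j.2.1) g ⟨q, m, hm⟩ := by
          refine Algebra.TensorProduct.ext (AlgHom.ext fun k => ?_) (AlgHom.ext fun b => ?_)
          · simp only [π, f, AlgHom.coe_comp, Function.comp_apply, Algebra.TensorProduct.includeLeft_apply,
              AlgHom.coe_restrictScalars', AlgEquiv.coe_toAlgHom, phi_tmul, map_one, mul_one,
              Algebra.TensorProduct.map_tmul, AlgHom.id_apply, Pi.evalAlgHom_apply,
              Algebra.TensorProduct.piRight_tmul, Pi.one_apply, tensorSwap, Algebra.TensorProduct.lift_tmul, g]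
          · simp only [π, f, AlgHom.coe_comp, Function.comp_apply, Algebra.TensorProduct.includeRight_apply,
              AlgHom.coe_restrictScalars', AlgEquiv.coe_toAlgHom, phi_tmul, map_one, one_mul,
              Algebra.TensorProduct.map_tmul, AlgHom.id_apply, Pi.evalAlgHom_apply, AlgHom.pi_apply,
              Algebra.TensorProduct.piRight_tmul, tensorSwap, Algebra.TensorProduct.lift_tmul, g]
            rfl
        exact DFunLike.congr_fun hπ y
      choose n hn using hq
      exact ⟨∑ q, n q, fun q => pow_eq_zero_of_le (Finset.single_le_sum (fun _ _ => Nat.zero_le _)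
        (Finset.mem_univ q)) (hn q)⟩
    exact ⟨N, funext hN⟩


/-- Radicial part. -/
theorem universallyInjective_of_stable {A B K' : Type u} [CommRing A] [CommRing B] [Algebra A B]
    [Field K'] [Algebra A K'] [Module.FaithfullyFlat A B] {Cα : Subalgebra A K'} (hfin : Module.Finite A Cα)
    (hfull : ∀ x : K', ∃ a b : Cα, (b : K') ≠ 0 ∧ x * b = a) (hint : Cα ≤ integralClosure A K')
    (h : ∀ C : Subalgebra A K', (Module.Finite A C ∧ ∀ x : K', ∃ a b : C, (b : K') ≠ 0 ∧ x * b = a) →
      ∀ hle : Cα ≤ C, ∀ y : ↥C ⊗[A] B, ∃ x : ↥Cα ⊗[A] B,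
        IsNilpotent (Algebra.TensorProduct.map (Subalgebra.inclusion hle) (AlgHom.id A B) x - y)) :
    AlgebraicGeometry.UniversallyInjective
      (AlgebraicGeometry.Spec.map (CommRingCat.ofHom (Subalgebra.inclusion hint).toRingHom)) := by
  refine ((AlgebraicGeometry.tfae_universallyInjective _).out 0 1).2 fun Ω hΩ g₁ g₂ hg => ?_
  let : Field Ω := hΩ
  obtain ⟨f₁, rfl⟩ := AlgebraicGeometry.Spec.map_surjective g₁
  obtain ⟨f₂, rfl⟩ := AlgebraicGeometry.Spec.map_surjective g₂
  simp only [← AlgebraicGeometry.Spec.map_comp] at hg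
  have hg' : (f₁.hom).comp (Subalgebra.inclusion hint).toRingHom =
      (f₂.hom).comp (Subalgebra.inclusion hint).toRingHom :=
    congrArg CommRingCat.Hom.hom (AlgebraicGeometry.Spec.map_injective hg)
  refine congrArg AlgebraicGeometry.Spec.map (CommRingCat.hom_ext (RingHom.ext fun a => ?_))
  let C := Cα ⊔ Algebra.adjoin A {(a : K')}
  have hle : Cα ≤ C := le_sup_left
  have hC : Module.Finite A C := by
    refine (Module.Finite.iff_fg (N := Subalgebra.toSubmodule C)).2 ?_
    have h1 : (Subalgebra.toSubmodule Cα * Subalgebra.toSubmodule (Algebra.adjoin A {(a : K')})).FG :=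
      Submodule.FG.mul ((Module.Finite.iff_fg (N := Subalgebra.toSubmodule Cα)).1 hfin) (IsIntegral.fg_adjoin_singleton a.2)
    rwa [Subalgebra.mul_toSubmodule] at h1
  have hCint : C ≤ integralClosure A K' :=
    sup_le hint (Algebra.adjoin_le (Set.singleton_subset_iff.2 a.2))
  have heq : (f₁.hom).comp (Subalgebra.inclusion hCint).toRingHom =
      (f₂.hom).comp (Subalgebra.inclusion hCint).toRingHom := by
    refine eq_of_stable (Ω := Ω) hle (h C ⟨hC, fun x => ?_⟩ hle) _ _ ?_
    · obtain ⟨p, q, hq, hpq⟩ := hfull x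
      exact ⟨Subalgebra.inclusion hle p, Subalgebra.inclusion hle q, hq, hpq⟩
    · exact hg'
  have hmem : (a : K') ∈ C := le_sup_right (a := Cα) (Algebra.self_mem_adjoin_singleton A (a : K'))
  exact DFunLike.congr_fun heq ⟨(a : K'), hmem⟩

end Groth.Agent.Calg46
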