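import Mathlib.RingTheory.Regular.RegularSequence
import Mathlib.RingTheory.MvPolynomial.Basic
import Mathlib.Data.Fin.Tuple.Sort
import Mathlib.Data.Finset.Max
import Mathlib.Tactic.LinearCombination

/-!
Regular sequences in every order and products with independent variables.
-/

set_option autoImplicit false

noncomputable section

universe u

namespace Groth.Agent.Calg46.RegPerm

variable {R : Type u} [CommRing R] {r : ℕ} (f : Fin r → R)

/-- `f j` is regular modulo the ideal of the `f i`, `i ∈ T`. -/
def Reg (T : Set (Fin r)) (j : Fin r) : Prop :=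
  ∀ x, f j * x ∈ Ideal.span (f '' T) → x ∈ Ideal.span (f '' T)

theorem ofList_take_ofFn {A : Type u} [CommRing A] (g : Fin r → A) (i : ℕ) :
    Ideal.ofList ((List.ofFn g).take i) = Ideal.span (g '' {k | (k : ℕ) < i}) := by
  refine congrArg Ideal.span (Set.ext fun a => ?_)
  simp only [Set.mem_ofPred_eq, Set.mem_image, List.mem_take_iff_getElem, List.getElem_ofFn, List.length_ofFn]
  constructor
  · rintro ⟨k, hk, rfl⟩
    exact ⟨⟨k, (lt_min_iff.1 hk).2⟩, (lt_min_iff.1 hk).1, rfl⟩
  · rintro ⟨k, hk, rfl⟩
    exact ⟨k, lt_min hk k.2, rfl⟩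

theorem isRegular_ofFn {A : Type u} [CommRing A] (g : Fin r → A) :
    RingTheory.Sequence.IsRegular A (List.ofFn g) ↔
      (∀ j : Fin r, ∀ x, g j * x ∈ Ideal.span (g '' {k | k < j}) → x ∈ Ideal.span (g '' {k | k < j})) ∧
        Ideal.span (Set.range g) ≠ ⊤ := by
  rw [RingTheory.Sequence.isRegular_iff, RingTheory.Sequence.isWeaklyRegular_iff]
  refine and_congr ⟨fun h j x hx => ?_, fun h i hi => ?_⟩ ?_
  · have h1 := h j (by simp)
    rw [isSMulRegular_quotient_iff_mem_of_smul_mem, ofList_take_ofFn, smul_eq_mul, Ideal.mul_top,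
      List.getElem_ofFn] at h1
    exact h1 x hx
  · rw [isSMulRegular_quotient_iff_mem_of_smul_mem, ofList_take_ofFn, smul_eq_mul, Ideal.mul_top,
      List.getElem_ofFn]
    rw [List.length_ofFn] at hi
    exact h ⟨i, hi⟩
  · have : Ideal.ofList (List.ofFn g) = Ideal.span (Set.range g) :=
      congrArg Ideal.span (Set.ext fun a => by simp [List.mem_ofFn])
    rw [smul_eq_mul, Ideal.mul_top, this]
    exact ne_comm

theorem forall_perm_iff (hf : Ideal.span (Set.range f) ≠ ⊤) :
    (∀ σ : Equiv.Perm (Fin r), RingTheory.Sequence.IsRegular R (List.ofFn (f ∘ σ))) ↔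
      ∀ (T : Set (Fin r)) (j : Fin r), j ∉ T → Reg f T j := by
  classical
  constructor
  · intro h T j hj
    let g : Fin r → ℕ := fun i => if i ∈ T then 0 else if i = j then 1 else 2
    let σ := Tuple.sort g
    have hm : Monotone (g ∘ σ) := Tuple.monotone_sort g
    have hg0 : ∀ i, i ∈ T → g i = 0 := fun i hi => if_pos hi
    have hgj : g j = 1 := (if_neg hj).trans (if_pos rfl)
    have key : σ '' {k | k < σ.symm j} = T := by
      ext i
      constructor
      · rintro ⟨k, hk, rfl⟩
        by_contra hi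
        have h1 : g (σ k) ≤ g (σ (σ.symm j)) := hm (le_of_lt hk)
        rw [Equiv.apply_symm_apply, hgj] at h1
        have h2 : σ k = j := by
          by_contra h3
          simp only [g, if_neg hi, if_neg h3] at h1
          omega
        exact absurd hk (by rw [← h2, Equiv.symm_apply_apply]; exact lt_irrefl k)
      · intro hi
        refine ⟨σ.symm i, show σ.symm i < σ.symm j from lt_of_not_ge fun hge => ?_, Equiv.apply_symm_apply _ _⟩
        have h1 : g (σ (σ.symm j)) ≤ g (σ (σ.symm i)) := hm hge
        rw [Equiv.apply_symm_apply, Equiv.apply_symm_apply, hgj, hg0 i hi] at h1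
        omega
    intro x hx
    have h1 := ((isRegular_ofFn _).1 (h σ)).1 (σ.symm j) x
    rw [Function.comp_apply, Equiv.apply_symm_apply, Set.image_comp, key] at h1
    exact h1 hx
  · intro h σ
    refine (isRegular_ofFn _).2 ⟨fun j => ?_, ?_⟩
    · rw [Set.image_comp]
      exact h _ _ fun ⟨k, hk, he⟩ => absurd (σ.injective he ▸ hk : j < j) (lt_irrefl j)
    · rwa [σ.surjective.range_comp]

theorem reg_of_reg_lt (h : ∀ (T : Set (Fin r)) (j : Fin r), (∀ i ∈ T, i < j) → Reg f T j) (T : Finset (Fin r)) :
    ∀ j ∉ T, Reg f (T : Set (Fin r)) j := by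
  classical
  induction T using Finset.induction_on_max with
  | empty => exact fun j _ => h _ j (fun i hi => by simp at hi)
  | insert m T hm ih =>
    intro j hj
    rw [Finset.mem_insert, not_or] at hj
    by_cases hjm : m < j
    · exact h _ j fun i hi => by
        rcases Finset.mem_insert.1 (Finset.mem_coe.1 hi) with rfl | hi
        exacts [hjm, (hm i hi).trans hjm]
    · have hjm' : j < m := lt_of_le_of_ne (le_of_not_gt hjm) hj.1
      intro x hx
      rw [Finset.coe_insert, Set.image_insert_eq, Ideal.mem_span_insert] at hx ⊢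
      obtain ⟨y, z, hz, hxy⟩ := hx
      have h1 := h (insert j (T : Set (Fin r))) m (fun i hi => by
        rcases hi with rfl | hi
        exacts [hjm', hm i hi]) y
      simp only [Set.image_insert_eq, Ideal.mem_span_insert] at h1
      obtain ⟨w, z', hz', hy⟩ := h1 ⟨x, -z, Ideal.neg_mem_iff _ |>.2 hz, by linear_combination -hxy⟩
      refine ⟨w, x - w * f m, ih j hj.2 _ ?_, by ring⟩
      have : f j * (x - w * f m) = f m * z' + z := by linear_combination hxy + f m * hy
      rw [this]
      exact add_mem (Ideal.mul_mem_left _ _ hz') hz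

open MvPolynomial

theorem mem_span_prod_iff (S : Set (Fin r)) (p : MvPolynomial (Fin r) R) :
    p ∈ Ideal.span ((fun i => C (f i) * X i) '' S) ↔
      ∀ a, coeff a p ∈ Ideal.span (f '' {i | i ∈ S ∧ a i ≠ 0}) := by
  classical
  constructor
  · intro hp a
    induction hp using Submodule.span_induction generalizing a with
    | mem q hq =>
      obtain ⟨i, hi, rfl⟩ := hq
      show coeff a (C (f i) * X i) ∈ _
      rw [coeff_C_mul, coeff_X]
      split
      next h => exact Ideal.mul_mem_right _ _ (Ideal.subset_span ⟨i, ⟨hi, by rw [← h]; simp⟩, rfl⟩)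
      next => simp
    | zero => simp
    | add p q _ _ h1 h2 => rw [coeff_add]; exact add_mem (h1 a) (h2 a)
    | smul c p _ h1 =>
      rw [smul_eq_mul, coeff_mul]
      refine sum_mem fun x hx => Ideal.mul_mem_left _ _ (Ideal.span_mono (Set.image_mono ?_) (h1 x.2))
      intro i hi
      refine ⟨hi.1, fun h => hi.2 ?_⟩
      have := congrArg (fun v => v i) (Finset.mem_antidiagonal.1 hx)
      simp only [Finsupp.add_apply] at this
      omega
  · intro h
    rw [p.as_sum]
    refine sum_mem fun a _ => ?_
    have hle : Ideal.span (f '' {i | i ∈ S ∧ a i ≠ 0}) ≤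
        Submodule.comap (monomial a : R →ₗ[R] MvPolynomial (Fin r) R)
          ((Ideal.span ((fun i => C (f i) * X i) '' S)).restrictScalars R) := by
      refine Submodule.span_le.2 ?_
      rintro _ ⟨i, ⟨hi, hai⟩, rfl⟩
      show monomial a (f i) ∈ Ideal.span _
      have ha : Finsupp.single i 1 + (a - Finsupp.single i 1) = a :=
        add_tsub_cancel_of_le (Finsupp.single_le_iff.2 (Nat.one_le_iff_ne_zero.2 hai))
      rw [← ha, show monomial (Finsupp.single i 1 + (a - Finsupp.single i 1)) (f i) =
        (C (f i) * X i) * monomial (a - Finsupp.single i 1) 1 by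
          simp [X, C_mul_monomial, monomial_mul]]
      exact Ideal.mul_mem_right _ _ (Ideal.subset_span ⟨i, hi, rfl⟩)
    exact hle (h a)

theorem prod_regular_iff (hf : Ideal.span (Set.range f) ≠ ⊤) :
    RingTheory.Sequence.IsRegular (MvPolynomial (Fin r) R) (List.ofFn fun i => C (f i) * X i) ↔
      ∀ (T : Set (Fin r)) (j : Fin r), (∀ i ∈ T, i < j) → Reg f T j := by
  classical
  rw [isRegular_ofFn]
  have hsupp : ∀ (j : Fin r) (a : Fin r →₀ ℕ),
      {i | i ∈ {k | k < j} ∧ (a + Finsupp.single j 1 : Fin r →₀ ℕ) i ≠ 0} = {i | i ∈ {k | k < j} ∧ a i ≠ 0} := fun j a =>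
    Set.ext fun i => and_congr_right fun hi => by
      rw [Finsupp.add_apply, Finsupp.single_eq_of_ne (ne_of_lt hi), add_zero]
  have hcoeff : ∀ (j : Fin r) (a : Fin r →₀ ℕ) (p : MvPolynomial (Fin r) R),
      coeff (a + Finsupp.single j 1) (C (f j) * X j * p) = f j * coeff a p := fun j a p => by
    rw [mul_assoc, coeff_C_mul, mul_comm (X j) p, coeff_mul_X]
  constructor
  · rintro ⟨h, -⟩ T j hT x hx
    obtain ⟨a, ha⟩ : ∃ a : Fin r →₀ ℕ, ∀ i, a i ≠ 0 ↔ i ∈ T :=
      ⟨Finsupp.equivFunOnFinite.symm fun i => if i ∈ T then 1 else 0, fun i => by simp⟩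
    have hset : {i | i ∈ {k | k < j} ∧ a i ≠ 0} = T :=
      Set.ext fun i => ⟨fun hi => (ha i).1 hi.2, fun hi => ⟨hT i hi, (ha i).2 hi⟩⟩
    have h1 := h j (monomial a x) ((mem_span_prod_iff f _ _).2 fun b => ?_)
    · have h2 := (mem_span_prod_iff f _ _).1 h1 a
      rwa [hset, coeff_monomial, if_pos rfl] at h2
    · by_cases hb : b = a + Finsupp.single j 1
      · rw [hb, hcoeff, hsupp, hset, coeff_monomial, if_pos rfl]
        exact hx
      · rw [X, C_mul_monomial, monomial_mul, coeff_monomial, if_neg fun h => hb (by rw [← h, add_comm])]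
        exact zero_mem _
  · intro h
    refine ⟨fun j p hp => (mem_span_prod_iff f _ _).2 fun a => ?_, fun htop => ?_⟩
    · have h1 := (mem_span_prod_iff f _ _).1 hp (a + Finsupp.single j 1)
      rw [hcoeff, hsupp] at h1
      exact h _ j (fun i hi => hi.1) _ h1
    · have h1 := (mem_span_prod_iff f Set.univ 1).1
        (by rw [Set.image_univ, htop]; exact Submodule.mem_top) 0
      rw [coeff_zero_one] at h1
      exact hf (Ideal.eq_top_of_isUnit_mem _ (Ideal.span_mono (Set.image_subset_range _ _) h1) isUnit_one)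

theorem perm_iff_prod (hf : Ideal.span (Set.range f) ≠ ⊤) :
    (∀ σ : Equiv.Perm (Fin r), RingTheory.Sequence.IsRegular R (List.ofFn (f ∘ σ))) ↔
      RingTheory.Sequence.IsRegular (MvPolynomial (Fin r) R) (List.ofFn fun i => C (f i) * X i) := by
  classical
  rw [forall_perm_iff f hf, prod_regular_iff f hf]
  refine ⟨fun h T j hT => h T j fun hj => lt_irrefl j (hT j hj), fun h T j hj => ?_⟩
  have := reg_of_reg_lt f h T.toFinset j (by simpa using hj)
  rwa [Set.coe_toFinset] at this

end Groth.Agent.Calg46.RegPerm
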