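import Mathlib

/-!
# Algebraic extensions of a field algebraically closed in `F` stay fields after base change to `F`
-/

set_option autoImplicit false
universe u

namespace Groth.Agent.Calg46.RegularTensor

open scoped TensorProduct

variable (k F : Type u) [Field k] [Field F] [Algebra k F]

theorem isField_of_finite (h : algebraicClosure k F = ⊥) (k' : Type u) [Field k'] [Algebra k k']
    [FiniteDimensional k k'] [Algebra.IsSeparable k k'] : IsField (F ⊗[k] k') := by
  classical
  let pb := Field.powerBasisOfFiniteOfSeparable k k'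
  set g := minpoly k pb.gen
  have hint : IsIntegral k pb.gen := IsIntegral.of_finite _ _
  have hgm : g.Monic := minpoly.monic hint
  have hirr : Irreducible (g.map (algebraMap k F)) := by
    have hg1 : g.map (algebraMap k F) ≠ 1 := fun e => by
      have := congrArg Polynomial.natDegree e
      rw [Polynomial.natDegree_map, Polynomial.natDegree_one] at this
      exact (minpoly.natDegree_pos hint).ne' this
    refine ((hgm.map _).irreducible_iff_natDegree).mpr ⟨hg1, fun f₁ f₂ h₁ h₂ heq => ?_⟩
    have hdvd : f₁ ∣ g.map (algebraMap k F) := Dvd.intro _ heq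
    obtain ⟨q, hq⟩ : ∃ q : Polynomial k, q.map (algebraMap k F) = f₁ := by
      rw [← Polynomial.mem_lifts, Polynomial.lifts_iff_coeff_lifts]
      intro i
      have h1 : f₁.coeff i ∈ algebraicClosure k F :=
        mem_algebraicClosure_iff'.2 (Polynomial.isIntegral_coeff_of_dvd g f₁ hgm h₁ hdvd i)
      rw [h] at h1
      exact IntermediateField.mem_bot.1 h1
    have hq2 : q ∣ g := (Polynomial.map_dvd_map' (algebraMap k F)).mp (hq ▸ hdvd)
    rcases ((minpoly.irreducible hint).dvd_iff).mp hq2 with h | h
    · left
      rw [← hq, Polynomial.natDegree_map, Polynomial.natDegree_eq_zero_of_isUnit h]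
    · right
      have h1 : f₁.natDegree = g.natDegree := by
        rw [← hq, Polynomial.natDegree_map]
        exact Polynomial.natDegree_eq_of_degree_eq (Polynomial.degree_eq_degree_of_associated h).symm
      have h3 := congrArg Polynomial.natDegree heq
      rw [h₁.natDegree_mul h₂, Polynomial.natDegree_map, h1] at h3
      omega
  haveI : Fact (Irreducible (g.map (algebraMap k F))) := ⟨hirr⟩
  let L := AdjoinRoot (g.map (algebraMap k F))
  have hroot : Polynomial.aeval (AdjoinRoot.root (g.map (algebraMap k F)) : L) (minpoly k pb.gen) = 0 := by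
    rw [← Polynomial.aeval_map_algebraMap F, AdjoinRoot.aeval_eq, AdjoinRoot.mk_self]
  let ψ : k' →ₐ[k] L := pb.lift (AdjoinRoot.root (g.map (algebraMap k F))) hroot
  let Φ : F ⊗[k] k' →ₐ[F] L :=
    Algebra.TensorProduct.lift (Algebra.ofId F L) ψ fun _ _ => Commute.all _ _
  have hsurj : Function.Surjective Φ.toLinearMap := by
    intro w
    induction w using AdjoinRoot.induction_on with
    | ih q =>
      refine ⟨Polynomial.aeval ((1 : F) ⊗ₜ[k] pb.gen) q, ?_⟩
      show Φ _ = _
      rw [← Polynomial.aeval_algHom_apply,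
        show Φ ((1 : F) ⊗ₜ[k] pb.gen) = AdjoinRoot.root (g.map (algebraMap k F)) by simp [Φ, ψ],
        AdjoinRoot.aeval_eq]
  have hdim : Module.finrank F (F ⊗[k] k') = Module.finrank F L := by
    rw [Module.finrank_baseChange, (AdjoinRoot.powerBasis hirr.ne_zero).finrank,
      AdjoinRoot.powerBasis_dim, Polynomial.natDegree_map, pb.finrank, PowerBasis.natDegree_minpoly]
  haveI : FiniteDimensional F L := (AdjoinRoot.powerBasis hirr.ne_zero).finite
  have hbij : Function.Bijective Φ :=
    ⟨(LinearMap.injective_iff_surjective_of_finrank_eq_finrank hdim).mpr hsurj, hsurj⟩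
  exact MulEquiv.isField (Field.toIsField L) (AlgEquiv.ofBijective Φ hbij).toMulEquiv

theorem isField_of_algebraic [PerfectField k] (h : algebraicClosure k F = ⊥) (K : Type u) [Field K]
    [Algebra k K] [Algebra.IsAlgebraic k K] : IsField (F ⊗[k] K) := by
  have key : ∀ z : F ⊗[k] K, ∃ E : IntermediateField k K, FiniteDimensional k E ∧
      ∃ w : F ⊗[k] E, Algebra.TensorProduct.map (AlgHom.id k F) E.val w = z := by
    intro z
    induction z with
    | zero => exact ⟨⊥, inferInstance, 0, map_zero _⟩
    | tmul a b =>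
      exact ⟨IntermediateField.adjoin k {b},
        IntermediateField.adjoin.finiteDimensional (Algebra.IsIntegral.isIntegral b),
        a ⊗ₜ ⟨b, IntermediateField.mem_adjoin_simple_self k b⟩, rfl⟩
    | add x y hx hy =>
      obtain ⟨E₁, h₁, w₁, rfl⟩ := hx
      obtain ⟨E₂, h₂, w₂, rfl⟩ := hy
      refine ⟨E₁ ⊔ E₂, IntermediateField.finiteDimensional_sup E₁ E₂,
        Algebra.TensorProduct.map (AlgHom.id k F)
          (IntermediateField.inclusion (le_sup_left : E₁ ≤ E₁ ⊔ E₂)) w₁ +
        Algebra.TensorProduct.map (AlgHom.id k F)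
          (IntermediateField.inclusion (le_sup_right : E₂ ≤ E₁ ⊔ E₂)) w₂, ?_⟩
      rw [map_add, ← AlgHom.comp_apply, ← AlgHom.comp_apply, ← Algebra.TensorProduct.map_comp,
        ← Algebra.TensorProduct.map_comp]
      rfl
  haveI : Nontrivial (F ⊗[k] K) :=
    (Algebra.TensorProduct.includeLeft (R := k) (S := k) (A := F) (B := K)).toRingHom.injective.nontrivial
  refine ⟨⟨0, 1, zero_ne_one⟩, mul_comm, fun {z} hz => ?_⟩
  obtain ⟨E, hE, w, rfl⟩ := key z
  have hw : w ≠ 0 := fun h0 => hz (by rw [h0, map_zero])
  obtain ⟨v, hv⟩ := (isField_of_finite k F h E).mul_inv_cancel hw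
  exact ⟨Algebra.TensorProduct.map (AlgHom.id k F) E.val v, by rw [← map_mul, hv, map_one]⟩

end Groth.Agent.Calg46.RegularTensor
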