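import Groth.Agent.CIntLib.SmoothOmega
import Groth.Agent.CIntLib.LocalDimIrred
import Groth.Agent.Synt29.SmoothDim

/-!
# Smoothness over a field from the dimension of `κ ⊗ Ω`
-/

set_option autoImplicit false
set_option linter.style.haveILetI false
set_option backward.isDefEq.respectTransparency.types false

universe u

open IsLocalRing KaehlerDifferential TensorProduct AlgebraicGeometry CategoryTheory

attribute [local instance] Algebra.TensorProduct.rightAlgebra

namespace Groth.Agent.Calg46.SmoothKaehlerDim

open CIntLib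

variable {k A : Type u} [Field k] [CommRing A] [Algebra k A] [Algebra.FiniteType k A]

/-- `κ ⊗ Ω` has the same dimension computed from the ring and from its localization. -/
theorem finrank_residueField_kaehler (p : Ideal A) [p.IsPrime] :
    Module.finrank p.ResidueField (p.ResidueField ⊗[A] Ω[A⁄k]) =
      Module.finrank (ResidueField (Localization.AtPrime p))
        (ResidueField (Localization.AtPrime p) ⊗[Localization.AtPrime p] Ω[Localization.AtPrime p⁄k]) := by
  let L := Localization.AtPrime p
  exact ((AlgebraTensorModule.cancelBaseChange A L p.ResidueField p.ResidueField Ω[A⁄k]).symm.trans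
    (AlgebraTensorModule.congr (LinearEquiv.refl p.ResidueField p.ResidueField)
      (tensorKaehlerEquivOfFormallyEtale k A L))).finrank_eq

/-- If `κ(p) ⊗ Ω` has dimension at most `n`, `n` differentials generate `Ω` at `p`. -/
theorem exists_generators (p : Ideal A) [p.IsPrime] (n : ℕ)
    (h : Module.finrank p.ResidueField (p.ResidueField ⊗[A] Ω[A⁄k]) ≤ n) :
    ∃ g : Fin n → A, Submodule.span (Localization.AtPrime p)
      (Set.range fun i => D k (Localization.AtPrime p) (algebraMap A _ (g i))) = ⊤ := by
  classical
  rw [finrank_residueField_kaehler] at h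
  let L := Localization.AtPrime p
  let M := Ω[L⁄k]
  let K := ResidueField L
  haveI : Algebra.EssFiniteType k L := Algebra.EssFiniteType.comp k A L
  haveI : Module.Finite L M := inferInstance
  let v : A → K ⊗[L] M := fun a => (1 : K) ⊗ₜ[L] D k L (algebraMap A L a)
  have hv : Submodule.span K (Set.range v) = ⊤ := by
    rw [show Set.range v = (TensorProduct.mk L K M 1) '' (Set.range fun a : A => D k L (algebraMap A L a)) by
      rw [← Set.range_comp]; rfl]
    rw [Submodule.eq_top_iff']
    intro x
    induction x using TensorProduct.induction_on with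
    | zero => exact zero_mem _
    | add x y hx hy => exact add_mem hx hy
    | tmul c y =>
      have hy : y ∈ Submodule.span L (Set.range fun a : A => D k L (algebraMap A L a)) := by
        rw [span_D_localization p]; trivial
      induction hy using Submodule.span_induction generalizing c with
      | mem y hy =>
        rw [show c ⊗ₜ[L] y = c • ((1 : K) ⊗ₜ[L] y) by rw [smul_tmul', smul_eq_mul, mul_one]]
        exact Submodule.smul_mem _ _ (Submodule.subset_span ⟨y, hy, rfl⟩)
      | zero => rw [tmul_zero]; exact zero_mem _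
      | add y z _ _ hy hz => rw [tmul_add]; exact add_mem (hy c) (hz c)
      | smul r y _ hy => rw [← smul_tmul]; exact hy (r • c)
  obtain ⟨b, hb, hspan, hli⟩ := exists_linearIndependent K (Set.range v)
  haveI : Finite b := hli.finite
  haveI := Fintype.ofFinite b
  let B : Module.Basis b K (K ⊗[L] M) := Module.Basis.mk hli (by
    rw [Subtype.range_coe, hspan, hv])
  have hcard : Fintype.card b ≤ n := by
    rw [← Module.finrank_eq_card_basis B]; exact h
  let e : b ↪ Fin n := (Fintype.equivFin b).toEmbedding.trans (Fin.castLEEmb hcard)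
  choose a ha using fun x : b => hb x.2
  refine ⟨Function.extend e a 0, eq_top_iff.2 ?_⟩
  rw [← IsLocalRing.span_eq_top_of_tmul_eq_basis (fun x => D k L (algebraMap A L (a x))) B
    fun x => (ha x).trans (Module.Basis.mk_apply hli _ x).symm]
  refine Submodule.span_mono ?_
  rintro _ ⟨x, rfl⟩
  exact ⟨e x, congrArg (fun z => D k L (algebraMap A L z)) (e.injective.extend_apply a 0 x)⟩

/-- `n` differentials generating `Ω` at `p`, `n` the local dimension: smooth at `p`. -/
theorem isSmoothAt_of_generators (p : Ideal A) [p.IsPrime] (n : ℕ) (g : Fin n → A)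
    (hg : Submodule.span (Localization.AtPrime p)
      (Set.range fun i => D k (Localization.AtPrime p) (algebraMap A _ (g i))) = ⊤)
    (hn : FlatMor.localDim (PrimeSpectrum A) ⟨p, inferInstance⟩ = (n : WithBot ℕ∞)) :
    Algebra.IsSmoothAt k p := by
  haveI : IsNoetherianRing A := Algebra.FiniteType.isNoetherianRing k A
  let L := Localization.AtPrime p
  let P := MvPolynomial (Fin n) k
  letI : Algebra P A := (MvPolynomial.aeval g).toRingHom.toAlgebra
  haveI : IsScalarTower k P A := IsScalarTower.of_algebraMap_eq fun c => (MvPolynomial.aeval g).commutes c |>.symm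
  haveI : Algebra.FiniteType P A := Algebra.FiniteType.of_restrictScalars_finiteType k P A
  haveI : Algebra.IsUnramifiedAt P p := by
    constructor
    rw [← Submodule.subsingleton_iff (R := L), ← subsingleton_iff_bot_eq_top, eq_comm]
    have hsurj := KaehlerDifferential.map_surjective_of_surjective k P L L Function.surjective_id
    rw [← LinearMap.range_eq_top.2 hsurj, LinearMap.range_eq_map, ← hg, Submodule.map_span,
      Submodule.span_eq_bot]
    rintro _ ⟨_, ⟨i, rfl⟩, rfl⟩
    rw [KaehlerDifferential.map_D]
    show D P L (algebraMap A L (g i)) = 0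
    rw [show g i = algebraMap P A (MvPolynomial.X i) from (MvPolynomial.aeval_X g i).symm,
      ← IsScalarTower.algebraMap_apply, Derivation.map_algebraMap]
  obtain ⟨r, hr⟩ : ∃ r : ℕ, ringKrullDim L = (r : WithBot ℕ∞) := by
    obtain ⟨a, ha⟩ := ENat.ne_top_iff_exists.1 (Ideal.height_ne_top_of_isPrime (I := p))
    exact ⟨a, by rw [IsLocalization.AtPrime.ringKrullDim_eq_height p, ← ha]; rfl⟩
  obtain ⟨hrn, htr⟩ := trdeg_of_localDim (k := k) p hn hr
  obtain ⟨-, hP⟩ := ringKrullDim_atPrime_mvPolynomial (k := k) (p.comap (algebraMap P A))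
    ((trdeg_comap_eq p).trans htr)
  rw [show n - (n - r) = r by omega] at hP
  haveI := isEtaleAt_of_isUnramifiedAt_of_dim P A p r hP hr.ge
  haveI : Algebra.FormallyEtale P L := ‹Algebra.IsEtaleAt P p›
  exact Algebra.FormallySmooth.comp k P L

variable (k) in
include k in
theorem exists_localDim_eq (p : Ideal A) [p.IsPrime] :
    ∃ n : ℕ, FlatMor.localDim (PrimeSpectrum A) ⟨p, inferInstance⟩ = (n : WithBot ℕ∞) := by
  haveI : IsNoetherianRing A := Algebra.FiniteType.isNoetherianRing k A
  obtain ⟨d, -, -, hco⟩ := exists_dim_residueField (k := k) p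
  obtain ⟨a, ha⟩ := ENat.ne_top_iff_exists.1 (Ideal.height_ne_top_of_isPrime (I := p))
  exact ⟨a + d, by
    rw [CAlgOdd.LocalDimSpec.localDim_eq_add k, ← PrimeSpectrum.height_eq_orderHeight, ← ha, hco]
    rfl⟩

/-- A standard smooth neighbourhood computes the local dimension and `κ ⊗ Ω`. -/
theorem finrank_eq_localDim_of_isSmoothAt (p : Ideal A) [p.IsPrime] [Algebra.IsSmoothAt k p] :
    ((Module.finrank p.ResidueField (p.ResidueField ⊗[A] Ω[A⁄k]) : ℕ∞) : WithBot ℕ∞) =
      FlatMor.localDim (PrimeSpectrum A) ⟨p, inferInstance⟩ := by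
  haveI : Algebra.FinitePresentation k A := Algebra.FinitePresentation.of_finiteType.1 inferInstance
  obtain ⟨f, hf, _⟩ := Algebra.IsSmoothAt.exists_notMem_isStandardSmooth k p
  let B := Localization.Away f
  obtain ⟨ι, σ, _, _, ⟨P⟩⟩ := ‹Algebra.IsStandardSmooth k B›.out
  haveI hB : Algebra.IsStandardSmoothOfRelativeDimension P.dimension k B :=
    ⟨ι, σ, inferInstance, inferInstance, P, rfl⟩
  let m := P.dimension
  obtain ⟨Q, hQ⟩ : (⟨p, inferInstance⟩ : PrimeSpectrum A) ∈ Set.range (PrimeSpectrum.comap (algebraMap A B)) := by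
    rw [PrimeSpectrum.localization_away_comap_range B f]; exact hf
  haveI : Nontrivial B := PrimeSpectrum.nonempty_iff_nontrivial.1 ⟨Q⟩
  -- the local dimension
  let X : Scheme.{u} := Spec (CommRingCat.of A)
  let φ : X ⟶ Spec (CommRingCat.of k) := Spec.map (CommRingCat.ofHom (algebraMap k A))
  let j : Spec (CommRingCat.of B) ⟶ X := Spec.map (CommRingCat.ofHom (algebraMap A B))
  haveI : IsOpenImmersion j := IsOpenImmersion.of_isLocalization f
  haveI : LocallyOfFinitePresentation φ :=
    HasRingHomProperty.Spec_iff.2 (RingHom.finitePresentation_algebraMap.2 inferInstance)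
  have hjφ : j ≫ φ = Spec.map (CommRingCat.ofHom (algebraMap k B)) := by
    rw [IsScalarTower.algebraMap_eq k A B, CommRingCat.ofHom_comp, Spec.map_comp]
  haveI : SmoothOfRelativeDimension m (j ≫ φ) := by
    rw [hjφ, HasRingHomProperty.Spec_iff (P := @SmoothOfRelativeDimension m)]
    exact RingHom.locally_of RingHom.isStandardSmoothOfRelativeDimension_respectsIso _
      ((RingHom.isStandardSmoothOfRelativeDimension_algebraMap m).2 hB)
  have hdim : FlatMor.localDim (PrimeSpectrum A) ⟨p, inferInstance⟩ = (m : WithBot ℕ∞) := by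
    rw [← hQ]
    refine (fibreDimAt_eq_localDim k φ (j Q)).symm.trans ?_
    rw [S7408.result φ (j ≫ φ) j (𝟙 _) (Category.comp_id _) Q]
    exact S2768.result m (j ≫ φ) Q
  -- the differentials
  rw [hdim]
  have hΩ : Module.finrank p.ResidueField (p.ResidueField ⊗[A] Ω[A⁄k]) = m := by
    haveI : Module.Free B (Ω[B⁄k]) := inferInstance
    have hrank : Module.finrank B (Ω[B⁄k]) = m := by
      simp [Module.finrank,
        Algebra.IsStandardSmoothOfRelativeDimension.rank_kaehlerDifferential (R := k) (S := B) m]
    letI : Algebra B p.ResidueField :=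
      (IsLocalization.Away.lift f (g := algebraMap A p.ResidueField) (by
        rw [isUnit_iff_ne_zero, Ne, Ideal.algebraMap_residueField_eq_zero]; exact hf)).toAlgebra
    haveI : IsScalarTower A B p.ResidueField := IsScalarTower.of_algebraMap_eq fun a =>
      (IsLocalization.Away.lift_eq f _ a).symm
    rw [((AlgebraTensorModule.cancelBaseChange A B p.ResidueField p.ResidueField Ω[A⁄k]).symm.trans
      (AlgebraTensorModule.congr (LinearEquiv.refl p.ResidueField p.ResidueField)
        (tensorKaehlerEquivOfFormallyEtale k A B))).finrank_eq, Module.finrank_baseChange, hrank]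
  rw [hΩ]
  rfl

theorem isSmoothAt_iff (p : Ideal A) [p.IsPrime] :
    Algebra.IsSmoothAt k p ↔
      ((Module.finrank p.ResidueField (p.ResidueField ⊗[A] Ω[A⁄k]) : ℕ∞) : WithBot ℕ∞) ≤
        FlatMor.localDim (PrimeSpectrum A) ⟨p, inferInstance⟩ := by
  refine ⟨fun h => (finrank_eq_localDim_of_isSmoothAt p).le, fun h => ?_⟩
  obtain ⟨n, hn⟩ := exists_localDim_eq k p
  rw [hn] at h
  obtain ⟨g, hg⟩ := exists_generators p n (by exact_mod_cast h)
  exact isSmoothAt_of_generators p n g hg hn

end Groth.Agent.Calg46.SmoothKaehlerDim
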