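import Groth.Agent.PSLib.Basic
import Groth.Agent.Adic7.Lift
import Groth.Agent.SmoothCompl.Basic
import Mathlib

/-!
# The completion of a smooth algebra along a retraction with free conormal module
-/

set_option autoImplicit false
set_option linter.style.haveILetI false
universe u

namespace Groth.Agent.Calg46.SmoothRetract

open PSLib

variable {R S : Type u} [CommRing R] [CommRing S] [Algebra R S] (σ : S →ₐ[R] R)

local notation "𝓘" => RingHom.ker σ.toRingHom

lemma sub_algebraMap_mem (s : S) : s - algebraMap R S (σ s) ∈ 𝓘 := by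
  rw [RingHom.mem_ker, AlgHom.toRingHom_eq_coe, RingHom.coe_coe, map_sub, AlgHom.commutes]
  simp

/-- `s ↦` the class of `s - σ s`. -/
noncomputable def delta : S →ₗ[R] (𝓘).Cotangent where
  toFun s := (𝓘).toCotangent ⟨s - algebraMap R S (σ s), sub_algebraMap_mem σ s⟩
  map_add' s t := by
    rw [← map_add]; congr 1; apply Subtype.ext
    rw [Submodule.coe_add]; simp only [map_add]; ring
  map_smul' r s := by
    rw [RingHom.id_apply, ← IsScalarTower.algebraMap_smul S r ((𝓘).toCotangent _), ← LinearMap.map_smul]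
    congr 1
    apply Subtype.ext
    rw [Submodule.coe_smul]
    simp only [Algebra.smul_def, map_mul, AlgHom.commutes, Algebra.algebraMap_self, RingHom.id_apply,
      smul_eq_mul, mul_sub]

lemma delta_mul (s t : S) : delta σ (s * t) = σ s • delta σ t + σ t • delta σ s := by
  simp only [delta, LinearMap.coe_mk, AddHom.coe_mk]
  rw [← IsScalarTower.algebraMap_smul S (σ s), ← IsScalarTower.algebraMap_smul S (σ t),
    ← LinearMap.map_smul, ← LinearMap.map_smul, ← map_add, Ideal.toCotangent_eq, sq]
  have : (s * t - algebraMap R S (σ (s * t))) -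
      (algebraMap R S (σ s) * (t - algebraMap R S (σ t)) +
        algebraMap R S (σ t) * (s - algebraMap R S (σ s))) =
      (s - algebraMap R S (σ s)) * (t - algebraMap R S (σ t)) := by
    rw [map_mul σ, map_mul]; ring
  simp only [Submodule.coe_add, Submodule.coe_smul, smul_eq_mul]
  rw [this]
  exact Ideal.mul_mem_mul (sub_algebraMap_mem σ s) (sub_algebraMap_mem σ t)

lemma delta_of_mem (x : S) (hx : x ∈ 𝓘) : delta σ x = (𝓘).toCotangent ⟨x, hx⟩ := by
  simp only [delta, LinearMap.coe_mk, AddHom.coe_mk]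
  congr 1
  ext1
  have : σ x = 0 := hx
  simp [this]

theorem exists_equiv [Algebra.Smooth R S] (d : ℕ) (e : (𝓘).Cotangent ≃ₗ[R] (Fin d → R)) :
    Nonempty (AdicCompletion 𝓘 S ≃ₐ[R] MvPowerSeries (Fin d) R) := by
  classical
  have hfg : (𝓘).FG := by
    refine Algebra.FinitePresentation.ker_fG_of_surjective σ fun r => ⟨algebraMap R S r, σ.commutes r⟩
  choose x hx using fun i : Fin d => (𝓘).toCotangent_surjective (e.symm (Pi.single i 1))
  let C := AdicCompletion 𝓘 S
  let K := (𝓘).map (algebraMap S C)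
  haveI hC : IsAdicComplete K C := Adic7.isAdicComplete_completion _ hfg
  -- the map from power series
  obtain ⟨Ψ, hΨ⟩ := exists_algHom (R := R) K (fun i => algebraMap S C (x i))
    (fun i => Ideal.mem_map_of_mem _ (x i).2)
  have hspan : 𝓘 ≤ Ideal.span (Set.range fun i => (x i : S)) ⊔ (𝓘) ^ 2 := by
    intro y hy
    have h1 : (𝓘).toCotangent ⟨y, hy⟩ =
        ∑ i, e ((𝓘).toCotangent ⟨y, hy⟩) i • (𝓘).toCotangent (x i) := by
      apply e.injective
      rw [map_sum]
      simp only [hx, map_smul, LinearEquiv.apply_symm_apply]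
      exact pi_eq_sum_univ' _
    simp_rw [← IsScalarTower.algebraMap_smul S (e ((𝓘).toCotangent ⟨y, hy⟩) _), ← map_smul,
      ← map_sum, Ideal.toCotangent_eq] at h1
    rw [Submodule.coe_sum] at h1
    simp only [Submodule.coe_smul, smul_eq_mul] at h1
    rw [← sub_add_cancel y (∑ i, algebraMap R S (e ((𝓘).toCotangent ⟨y, hy⟩) i) * (x i : S))]
    exact add_mem (Submodule.mem_sup_right h1) (Submodule.mem_sup_left
      (Submodule.sum_mem _ fun i _ => Ideal.mul_mem_left _ _ (Ideal.subset_span ⟨i, rfl⟩)))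
  have hΨs : Function.Surjective Ψ := by
    refine surjective_of_first_order Ψ.toRingHom (I := vars d R) (J := K) (hfg.map _)
      (IsAdicComplete.le_jacobson_bot K) (Ideal.map_le_iff_le_comap.2 (Ideal.span_le.2 (Set.range_subset_iff.2 fun i => by
        change Ψ (MvPowerSeries.X i) ∈ K
        rw [hΨ i]; exact Ideal.mem_map_of_mem _ (x i).2))) ?_ fun c => ?_
    · refine (Ideal.map_mono hspan).trans ?_
      rw [Ideal.map_sup, Ideal.map_pow, Ideal.map_span]
      refine sup_le_sup ?_ le_rfl
      rw [Ideal.span_le]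
      rintro _ ⟨_, ⟨i, rfl⟩, rfl⟩
      exact hΨ i ▸ Ideal.mem_map_of_mem _ (Ideal.subset_span ⟨i, rfl⟩)
    · obtain ⟨s, hs⟩ := Adic7.exists_sub_algebraMap_mem _ hfg c 1
      rw [pow_one] at hs
      refine ⟨algebraMap R _ (σ s), ?_⟩
      change c - Ψ (algebraMap R (MvPowerSeries (Fin d) R) (σ s)) ∈ K
      rw [AlgHom.commutes, IsScalarTower.algebraMap_apply R S C,
        ← sub_add_sub_cancel c (algebraMap S C s)]
      exact add_mem hs (by rw [← map_sub]; exact Ideal.mem_map_of_mem _ (sub_algebraMap_mem σ s))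
  -- the map to power series
  let V : Ideal (MvPowerSeries (Fin d) R) := vars d R
  haveI : IsAdicComplete (V ^ 2) (MvPowerSeries (Fin d) R) :=
    SmoothCompl.isAdicComplete_of_between V (V ^ 2) (Ideal.pow_le_self two_ne_zero) le_rfl
  let L : (Fin d → R) →ₗ[R] MvPowerSeries (Fin d) R :=
    Fintype.linearCombination R fun i => (MvPowerSeries.X i : MvPowerSeries (Fin d) R)
  have hL : ∀ v, L v ∈ V := fun v => by
    simp only [L, Fintype.linearCombination_apply]
    exact Submodule.sum_mem _ fun i _ => by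
      rw [Algebra.smul_def]; exact Ideal.mul_mem_left _ _ (Ideal.subset_span ⟨i, rfl⟩)
  let g₀ : S →ₗ[R] MvPowerSeries (Fin d) R :=
    (Algebra.linearMap R _).comp σ.toLinearMap + L.comp (e.toLinearMap.comp (delta σ))
  have hg₀ : ∀ s, g₀ s = algebraMap R _ (σ s) + L (e (delta σ s)) := fun s => rfl
  let g : S →ₐ[R] MvPowerSeries (Fin d) R ⧸ V ^ 2 :=
    AlgHom.ofLinearMap ((Ideal.Quotient.mkₐ R (V ^ 2)).toLinearMap.comp g₀)
      (by
        have h0 : delta σ 1 = 0 := by
          simp only [delta, LinearMap.coe_mk, AddHom.coe_mk]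
          rw [← map_zero (𝓘).toCotangent]; congr 1; ext1; simp
        change Ideal.Quotient.mk (V ^ 2) (g₀ 1) = 1
        rw [hg₀, h0, map_zero e, map_zero L]
        simp)
      (fun s t => by
        simp only [LinearMap.comp_apply, AlgHom.toLinearMap_apply, Ideal.Quotient.mkₐ_eq_mk]
        rw [← map_mul, Ideal.Quotient.eq]
        have : g₀ (s * t) - g₀ s * g₀ t =
            -(L (e (delta σ s)) * L (e (delta σ t))) := by
          simp only [hg₀, delta_mul, map_add, map_smul, map_mul]
          simp only [Algebra.smul_def]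
          ring
        rw [this, sq]
        exact neg_mem (Ideal.mul_mem_mul (hL _) (hL _)))
  obtain ⟨f, hf⟩ := Algebra.FormallySmooth.exists_mkₐ_comp_eq_of_isAdicComplete g
  have hfx : ∀ i, f (x i) - MvPowerSeries.X i ∈ V ^ 2 := by
    intro i
    have h1 := AlgHom.congr_fun hf (x i : S)
    rw [← Ideal.Quotient.eq]
    refine h1.trans ?_
    simp only [g, AlgHom.ofLinearMap_apply, LinearMap.comp_apply, AlgHom.toLinearMap_apply,
      Ideal.Quotient.mkₐ_eq_mk]
    congr 1
    have hσ : σ (x i : S) = 0 := (x i).2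
    rw [hg₀, delta_of_mem σ _ (x i).2, hσ]
    change algebraMap R _ 0 + L (e ((𝓘).toCotangent (x i))) = _
    rw [hx, LinearEquiv.apply_symm_apply]
    simp [L, Fintype.linearCombination_apply_single]
  have hfI : (𝓘).map f ≤ V := by
    rw [Ideal.map_le_iff_le_comap]
    refine hspan.trans (sup_le (Ideal.span_le.2 ?_) ?_)
    · rintro _ ⟨i, rfl⟩
      change f (x i) ∈ V
      rw [← sub_add_cancel (f (x i)) (MvPowerSeries.X i)]
      exact add_mem (Ideal.pow_le_self two_ne_zero (hfx i)) (Ideal.subset_span ⟨i, rfl⟩)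
    · intro y hy
      change f y ∈ V
      have h1 := AlgHom.congr_fun hf y
      have h2 : delta σ y = 0 := by
        rw [delta_of_mem σ y (Ideal.pow_le_self two_ne_zero hy), Ideal.toCotangent_eq_zero]
        exact hy
      have hσ : σ y = 0 := Ideal.pow_le_self two_ne_zero hy
      rw [← Ideal.Quotient.eq_zero_iff_mem]
      have h3 : Ideal.Quotient.mk (V ^ 2) (f y) = 0 := by
        refine h1.trans ?_
        change Ideal.Quotient.mk (V ^ 2) (g₀ y) = 0
        rw [hg₀, h2, hσ, map_zero e, map_zero L]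
        simp
      rw [Ideal.Quotient.eq_zero_iff_mem] at h3 ⊢
      exact Ideal.pow_le_self two_ne_zero h3
  haveI : IsAdicComplete V (MvPowerSeries (Fin d) R) := PSLib.isAdicComplete
  obtain ⟨F, hF⟩ := Adic7.exists_lift_completion 𝓘 V f hfI
  have hbij : Function.Bijective (F.comp Ψ) := by
    have hval : ∀ i, (F.comp Ψ) (MvPowerSeries.X i) = f (x i) := fun i => by
      rw [AlgHom.comp_apply, hΨ, hF]
    refine bijective_of_first_order _ (fun i => ?_) fun j => ?_
    · rw [hval]; exact hfI (Ideal.mem_map_of_mem _ (x i).2)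
    · rw [← sub_sub_cancel (f (x j)) (MvPowerSeries.X j)]
      exact sub_mem (Submodule.mem_sup_left (Ideal.subset_span ⟨j, hval j⟩))
        (Submodule.mem_sup_right (hfx j))
  have hinj : Function.Injective Ψ := Function.Injective.of_comp (f := F) hbij.1
  exact ⟨(AlgEquiv.ofBijective Ψ ⟨hinj, hΨs⟩).symm⟩

end Groth.Agent.Calg46.SmoothRetract
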