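import Groth.Agent.SynLift.Adapted
import Groth.Agent.Synt29.SyntomicAt
import Mathlib

/-!
# Finite syntomic algebras over local rings have square presentations
-/

set_option autoImplicit false
set_option linter.style.haveILetI false
universe u

namespace Groth.Agent.Calg46.SquarePres

open Groth.Agent.Synt29

theorem exists_square (A B : Type u) [CommRing A] [IsLocalRing A] [CommRing B] [Algebra A B]
    [Module.Finite A B] (h : Synt.IsSyntomic A B) :
    ∃ (n : ℕ) (F : Fin n → MvPolynomial (Fin n) A), Nonempty (B ≃ₐ[A] Synt.RelGCIRing A n n F) := by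
  classical
  haveI := h.2.1
  obtain ⟨n, φ, hφ⟩ := Algebra.FiniteType.iff_quotient_mvPolynomial''.1
    (inferInstance : Algebra.FiniteType A B)
  let P := MvPolynomial (Fin n) A
  let J := RingHom.ker φ.toRingHom
  have hJfg : J.FG := Algebra.FinitePresentation.ker_fG_of_surjective φ hφ
  -- finitely many maximal ideals
  haveI : Finite (MaximalSpectrum B) := by
    have hfin := Algebra.QuasiFinite.finite_primesOver (R := A) (S := B) (IsLocalRing.maximalIdeal A)
    haveI := hfin.to_subtype
    refine Finite.of_injective (fun M : MaximalSpectrum B =>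
      (⟨M.asIdeal, M.isMaximal.isPrime, ⟨(IsLocalRing.eq_maximalIdeal
        (Ideal.isMaximal_comap_of_isIntegral_of_isMaximal M.asIdeal)).symm⟩⟩ :
        (IsLocalRing.maximalIdeal A).primesOver B)) fun M N hMN => ?_
    exact MaximalSpectrum.ext (congrArg Subtype.val hMN)
  haveI := Fintype.ofFinite (MaximalSpectrum B)
  let Mt : MaximalSpectrum B → Ideal P := fun M => M.asIdeal.comap φ.toRingHom
  have hMt : ∀ M, (Mt M).IsMaximal := fun M =>
    Ideal.comap_isMaximal_of_surjective φ.toRingHom hφ (H := M.isMaximal)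
  have hcop : Pairwise (Function.onFun IsCoprime Mt) := fun M N hMN => by
    refine Ideal.isCoprime_iff_sup_eq.2 ((hMt M).coprime_of_ne (hMt N) fun heq => hMN ?_)
    exact MaximalSpectrum.ext (Ideal.comap_injective_of_surjective φ.toRingHom hφ heq)
  choose c hc F H hH hF hHJ hgci using fun M : MaximalSpectrum B =>
    SynLift.exists_adapted h φ hφ ⟨M.asIdeal, M.isMaximal.isPrime⟩
  let F' : MaximalSpectrum B → Fin n → P := fun M i => if hi : (i : ℕ) < c M then F M ⟨i, hi⟩ else 0
  choose e he using fun M : MaximalSpectrum B =>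
    Ideal.exists_forall_sub_mem_ideal hcop (fun N => if N = M then (1 : P) else 0)
  let f : Fin n → P := fun i => ∑ M, e M * F' M i
  have hF'J : ∀ M i, F' M i ∈ J := fun M i => by
    simp only [F']; split_ifs
    · exact hF M _
    · exact zero_mem _
  have hfJ : ∀ i, f i ∈ J := fun i => Submodule.sum_mem _ fun M _ => Ideal.mul_mem_left _ _ (hF'J M i)
  let I := Ideal.span (Set.range f)
  -- generation modulo each maximal ideal
  have hgen : ∀ M, J ≤ I ⊔ Mt M * J := by
    intro M x hx
    have h1 : Ideal.span (Set.range (F M)) ≤ I ⊔ Mt M * J := by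
      rw [Ideal.span_le]
      rintro _ ⟨j, rfl⟩
      have hj : (j : ℕ) < n := lt_of_lt_of_le j.2 (hc M)
      have hF'j : F' M ⟨j, hj⟩ = F M j := by simp [F']
      rw [← hF'j, ← sub_add_cancel (F' M ⟨j, hj⟩) (f ⟨j, hj⟩)]
      refine add_mem (Submodule.mem_sup_right ?_) (Submodule.mem_sup_left (Ideal.subset_span ⟨_, rfl⟩))
      have : F' M ⟨j, hj⟩ - f ⟨j, hj⟩ =
          ∑ N, ((if N = M then (1 : P) else 0) - e N) * F' N ⟨j, hj⟩ := by
        simp [f, sub_mul, Finset.sum_sub_distrib, ite_mul]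
      rw [this]
      refine Submodule.sum_mem _ fun N _ => Ideal.mul_mem_mul ?_ (hF'J N _)
      have hN := he N M
      simp only [eq_comm (a := M)] at hN
      rw [← neg_sub]; exact neg_mem hN
    obtain ⟨u, hu⟩ : ∃ u, 1 - u * H M ∈ Mt M := by
      obtain ⟨u, z, hz, huz⟩ := (hMt M).exists_inv (x := H M) (fun hmem => hH M hmem)
      exact ⟨u, by rw [← huz, add_sub_cancel_left]; exact hz⟩
    rw [show x = u * (H M * x) + (1 - u * H M) * x by ring]
    exact add_mem (Ideal.mul_mem_left _ _ (h1 (hHJ M x hx)))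
      (Submodule.mem_sup_right (Ideal.mul_mem_mul hu hx))
  have hall : ∀ s : Finset (MaximalSpectrum B), J ≤ I ⊔ (∏ M ∈ s, Mt M) * J := by
    intro s
    induction s using Finset.induction with
    | empty => simp
    | insert M s hM ih =>
      rw [Finset.prod_insert hM]
      calc J ≤ I ⊔ Mt M * J := hgen M
        _ ≤ I ⊔ Mt M * (I ⊔ (∏ N ∈ s, Mt N) * J) := sup_le_sup_left (Ideal.mul_mono_right ih) _
        _ ≤ I ⊔ Mt M * (∏ N ∈ s, Mt N) * J := by
          rw [Ideal.mul_sup, mul_assoc]
          exact sup_le le_sup_left (sup_le (Ideal.mul_le_right.trans le_sup_left) le_sup_right)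
  set K := ∏ M : MaximalSpectrum B, Mt M with hK
  obtain ⟨r, hr1, hr⟩ := Submodule.exists_sub_one_mem_and_smul_eq_zero_of_fg_of_le_smul K
    (Submodule.map (Submodule.mkQ I) J) (Submodule.FG.map _ hJfg) (by
      intro y hy
      obtain ⟨x, hx, rfl⟩ := hy
      obtain ⟨a, ha, b, hb, rfl⟩ := Submodule.mem_sup.1 (hall Finset.univ hx)
      rw [map_add, Submodule.mkQ_apply, Submodule.mkQ_apply, (Submodule.Quotient.mk_eq_zero _).2 ha,
        zero_add, ← Submodule.map_smul'']
      exact ⟨b, hb, rfl⟩)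
  have hrJ : ∀ x ∈ J, r * x ∈ I := fun x hx => by
    have := hr _ ⟨x, hx, rfl⟩
    rwa [Submodule.mkQ_apply, ← Submodule.Quotient.mk_smul, Submodule.Quotient.mk_eq_zero] at this
  have hru : IsUnit (φ r) := by
    by_contra hnu
    obtain ⟨M, hM, hrM⟩ := exists_max_ideal_of_mem_nonunits hnu
    have hKM : K ≤ Mt ⟨M, hM⟩ := Ideal.prod_le_inf.trans (Finset.inf_le (Finset.mem_univ _))
    have := Ideal.sub_mem _ (show r ∈ Mt ⟨M, hM⟩ from hrM) (hKM hr1)
    rw [sub_sub_cancel] at this
    exact (hMt ⟨M, hM⟩).ne_top ((Ideal.eq_top_iff_one _).2 this)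
  -- the localization is `B`
  let S := Synt.RelGCIRing A n n f
  let ψ : S →ₐ[A] B := Ideal.Quotient.liftₐ I φ
    (fun a ha => (Ideal.span_le.2 (by rintro _ ⟨i, rfl⟩; exact hfJ i) : I ≤ J) ha)
  let g : S := Ideal.Quotient.mk I r
  letI : Algebra S B := ψ.toRingHom.toAlgebra
  haveI : IsScalarTower A S B := IsScalarTower.of_algebraMap_eq fun a => (ψ.commutes a).symm
  haveI : IsLocalization.Away g B := by
    refine IsLocalization.Away.mk g hru (fun b => ?_) (fun a b hab => ?_)
    · obtain ⟨p, rfl⟩ := hφ b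
      exact ⟨0, Ideal.Quotient.mk I p, by simp; rfl⟩
    · obtain ⟨a, rfl⟩ := Ideal.Quotient.mk_surjective a
      obtain ⟨b, rfl⟩ := Ideal.Quotient.mk_surjective b
      refine ⟨1, ?_⟩
      rw [pow_one, ← map_mul, ← map_mul, Ideal.Quotient.eq, ← mul_sub]
      refine hrJ _ ?_
      change φ a = φ b at hab
      rw [RingHom.mem_ker, AlgHom.toRingHom_eq_coe, RingHom.coe_coe, map_sub, hab, sub_self]
  obtain ⟨e'⟩ := awayEquiv f r
  exact ⟨n + 1, snocPoly f r,
    ⟨((IsLocalization.algEquiv (Submonoid.powers g) B (Localization.Away g)).restrictScalars A).trans e'⟩⟩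

lemma dim_eq_zero (k T : Type u) [Field k] [CommRing T] [Algebra k T] [Module.Finite k T]
    [Nontrivial T] : ringKrullDim T = 0 := by
  haveI : IsArtinianRing T := IsArtinianRing.of_finite k T
  exact ringKrullDimZero_iff_ringKrullDim_eq_zero.1 inferInstance

theorem isSyntomic_of_square (A B : Type u) [CommRing A] [CommRing B] [Algebra A B] [Module.Finite A B]
    (n : ℕ) (F : Fin n → MvPolynomial (Fin n) A) (e : B ≃ₐ[A] Synt.RelGCIRing A n n F) :
    Synt.IsSyntomic A B := by
  refine isSyntomic_of_algEquiv e.symm (isSyntomic_relGCIRing fun p hp => ⟨le_rfl, ?_⟩)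
  haveI := hp
  haveI : Module.Finite A (Synt.RelGCIRing A n n F) := Module.Finite.equiv e.toLinearEquiv
  rw [Nat.sub_self, Nat.cast_zero]
  exact dim_eq_zero p.asIdeal.ResidueField (p.asIdeal.Fiber (Synt.RelGCIRing A n n F))

end Groth.Agent.Calg46.SquarePres
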