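import Groth.Agent.SGA7X.TorLES
import Groth.Agent.FlatSyz5.Resolution
import Groth.Agent.CAlgOdd.FlatDescFinite
import Groth.Agent.CAlgOdd.TorSymm.Main
import Mathlib

/-!
# Flatness from flatness on an open cover of the complement and vanishing of finitely many `Tor`s
-/

set_option autoImplicit false
set_option linter.style.haveILetI false
universe u

open CategoryTheory TensorProduct MonoidalCategory

namespace Groth.Agent.Calg46.TorFlatCrit

variable {A : Type u} [CommRing A]

/-- `Tor_i(N, M) = 0`. -/
def T (A : Type u) [CommRing A] (M : Type u) [AddCommGroup M] [Module A M] (N : Type u) [AddCommGroup N] [Module A N] (i : ℕ) : Prop :=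
  Limits.IsZero (((Tor (ModuleCat.{u} A) i).obj (ModuleCat.of A N)).obj (ModuleCat.of A M))

variable (M : Type u) [AddCommGroup M] [Module A M]

section Seq

variable {X Y Z : Type u} [AddCommGroup X] [Module A X] [AddCommGroup Y] [Module A Y] [AddCommGroup Z] [Module A Z]
  (f : X →ₗ[A] Y) (g : Y →ₗ[A] Z) (hf : Function.Injective f) (hg : Function.Surjective g)
  (hfg : Function.Exact f g)

/-- The short exact sequence in `ModuleCat`. -/
abbrev seq : ShortComplex (ModuleCat.{u} A) :=
  ShortComplex.mk (ModuleCat.ofHom f) (ModuleCat.ofHom g) (ModuleCat.hom_ext (LinearMap.ext fun x => hfg.apply_apply_eq_zero x))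

include hf hg in
theorem seq_shortExact : (seq f g hfg).ShortExact :=
  { exact := (ShortComplex.ShortExact.moduleCat_exact_iff_function_exact _).2 hfg
    mono_f := (ModuleCat.mono_iff_injective _).2 hf
    epi_g := (ModuleCat.epi_iff_surjective _).2 hg }

include hf hg hfg

theorem mid (i : ℕ) (hX : T A M X i) (hZ : T A M Z i) : T A M Y i :=
  (SGA7X.isZero_tor_vanishing _ (seq_shortExact f g hf hg hfg) (ModuleCat.of A M) i).2 hX hZ

theorem first (i : ℕ) (hZ : T A M Z (i + 1)) (hY : T A M Y i) : T A M X i :=
  (SGA7X.isZero_tor_vanishing _ (seq_shortExact f g hf hg hfg) (ModuleCat.of A M) i).1 hZ hY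

theorem third (i : ℕ) (hY : T A M Y (i + 1)) (hX : T A M X i) : T A M Z (i + 1) :=
  TorBridge.isZero_tor_third _ (seq_shortExact f g hf hg hfg) (ModuleCat.of A M) i hY hX

end Seq

/-- A resolution of `M`. -/
noncomputable def res : ProjectiveResolution (ModuleCat.of A M) := ProjectiveResolution.of _

instance (n : ℕ) : Module.Flat A ((res (A := A) M).complex.X n) :=
  haveI : Module.Projective A ((res (A := A) M).complex.X n) := (IsProjective.iff_projective _).2 ((res M).projective n)
  inferInstance

/-- The differentials. -/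
noncomputable def d (n : ℕ) : ((res (A := A) M).complex.X (n + 1)) →ₗ[A] ((res (A := A) M).complex.X n) :=
  ((res M).complex.d (n + 1) n).hom

theorem exact_d (n : ℕ) : Function.Exact (d (A := A) M (n + 1)) (d M n) :=
  (ShortComplex.ShortExact.moduleCat_exact_iff_function_exact _).1 ((res M).exact_succ n)

theorem T_succ_iff (N : Type u) [AddCommGroup N] [Module A N] (i : ℕ) :
    T A M N (i + 1) ↔ Function.Exact ((d (A := A) M (i + 1)).lTensor N) ((d M i).lTensor N) := by
  show Limits.IsZero (((TorBridge.tenF (ModuleCat.of A N)).leftDerived (i + 1)).obj (ModuleCat.of A M)) ↔ _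
  rw [Iso.isZero_iff ((res M).isoLeftDerivedObj (TorBridge.tenF (ModuleCat.of A N)) (i + 1))]
  show Limits.IsZero (((((TorBridge.tenF (ModuleCat.of A N)).mapHomologicalComplex _).obj (res M).complex)).homology (i + 1)) ↔ _
  rw [← HomologicalComplex.exactAt_iff_isZero_homology,
    HomologicalComplex.exactAt_iff' _ (i + 2) (i + 1) i (by simp) (by simp),
    ShortComplex.ShortExact.moduleCat_exact_iff_function_exact]
  rfl

theorem T_congr {N N' : Type u} [AddCommGroup N] [Module A N] [AddCommGroup N'] [Module A N'] (e : N ≃ₗ[A] N')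
    {i : ℕ} (h : T A M N i) : T A M N' i :=
  Limits.IsZero.of_iso h (((Tor (ModuleCat.{u} A) i).mapIso e.toModuleIso).app (ModuleCat.of A M)).symm

/-- Tensoring with a flat module preserves vanishing. -/
theorem T_tensor (G N : Type u) [AddCommGroup G] [Module A G] [Module.Flat A G] [AddCommGroup N] [Module A N] (i : ℕ)
    (h : T A M N (i + 1)) : T A M (G ⊗[A] N) (i + 1) := by
  rw [T_succ_iff] at h ⊢
  have h' := Module.Flat.lTensor_exact G h
  refine (Function.Exact.iff_of_ladder_linearEquiv (e₁ := TensorProduct.assoc A G N _)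
    (e₂ := TensorProduct.assoc A G N _) (e₃ := TensorProduct.assoc A G N _) ?_ ?_).1 h' <;>
  · refine TensorProduct.ext_threefold fun x y z => ?_
    simp

/-- Vanishing passes to unions. -/
theorem T_union (N : Type u) [AddCommGroup N] [Module A N] (W : ℕ → Submodule A N) (hW : Monotone W)
    (hu : ∀ x, ∃ k, x ∈ W k) (i : ℕ) (h : ∀ k, T A M (W k) (i + 1)) : T A M N (i + 1) := by
  rw [T_succ_iff]
  intro z
  constructor
  · intro hz
    have hlift : ∀ z : N ⊗[A] ((res (A := A) M).complex.X (i + 1)),
        ∃ (k : ℕ) (w : W k ⊗[A] ((res (A := A) M).complex.X (i + 1))), (W k).subtype.rTensor _ w = z := by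
      intro z
      induction z using TensorProduct.induction_on with
      | zero => exact ⟨0, 0, map_zero _⟩
      | tmul x q => obtain ⟨k, hk⟩ := hu x; exact ⟨k, ⟨x, hk⟩ ⊗ₜ q, rfl⟩
      | add a b ha hb =>
        obtain ⟨k, w, rfl⟩ := ha
        obtain ⟨l, v, rfl⟩ := hb
        refine ⟨max k l, (Submodule.inclusion (hW (le_max_left k l))).rTensor _ w +
          (Submodule.inclusion (hW (le_max_right k l))).rTensor _ v, ?_⟩
        rw [map_add, ← LinearMap.comp_apply, ← LinearMap.rTensor_comp, ← LinearMap.comp_apply, ← LinearMap.rTensor_comp]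
        rfl
    obtain ⟨k, w, rfl⟩ := hlift z
    have hw : (d M i).lTensor (W k) w = 0 := by
      refine Module.Flat.rTensor_preserves_injective_linearMap (M := (res (A := A) M).complex.X i) (W k).subtype
        Subtype.val_injective ?_
      rw [map_zero, ← hz, ← LinearMap.comp_apply, LinearMap.rTensor_comp_lTensor, ← LinearMap.lTensor_comp_rTensor]
      rfl
    obtain ⟨y, rfl⟩ := ((T_succ_iff M (W k) i).1 (h k) w).1 hw
    refine ⟨(W k).subtype.rTensor _ y, ?_⟩
    rw [← LinearMap.comp_apply, LinearMap.lTensor_comp_rTensor, ← LinearMap.rTensor_comp_lTensor]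
    rfl
  · rintro ⟨y, rfl⟩
    rw [← LinearMap.comp_apply, ← LinearMap.lTensor_comp, (exact_d M i).linearMap_comp_eq_zero, LinearMap.lTensor_zero,
      LinearMap.zero_apply]

/-- Tensor products with a flat algebra making `M` flat have no higher `Tor` with `M`. -/
theorem T_of_flat_algebra (R : Type u) [CommRing R] [Algebra A R] [Module.Flat A R] [Module.Flat A (R ⊗[A] M)]
    (N : Type u) [AddCommGroup N] [Module A N] (i : ℕ) : T A M (R ⊗[A] N) (i + 1) := by
  refine T_congr M (TensorProduct.comm A N R) ?_
  rw [T_succ_iff]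
  let X : ℕ → Type u := fun n => R ⊗[A] ((res (A := A) M).complex.X n)
  let dR : ∀ n, X (n + 1) →ₗ[A] X n := fun n => (d M n).lTensor R
  have hex : ∀ n, Function.Exact (dR (n + 1)) (dR n) := fun n => Module.Flat.lTensor_exact R (exact_d M n)
  have hflat : ∀ n, Module.Flat A (X n ⧸ LinearMap.range (dR n)) := by
    intro n
    induction n with
    | zero =>
      let π : ((res (A := A) M).complex.X 0) →ₗ[A] M := ((res M).π.f 0).hom
      have h0 : Function.Exact (d (A := A) M 0) π :=
        (ShortComplex.ShortExact.moduleCat_exact_iff_function_exact _).1 (res M).exact₀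
      have hs : Function.Surjective π :=
        (ModuleCat.epi_iff_surjective ((res (A := A) M).π.f 0)).1 inferInstance
      exact Module.Flat.of_linearEquiv
        ((lTensor_exact R h0 hs).linearEquivOfSurjective (LinearMap.lTensor_surjective R hs))
    | succ n ih =>
      haveI := ih
      haveI : Module.Flat A (LinearMap.ker (LinearMap.range (dR n)).mkQ) :=
        FlatSyz5.flat_ker A _ (Submodule.mkQ_surjective _)
      refine Module.Flat.of_linearEquiv (((Submodule.quotEquivOfEq _ _ (hex n).linearMap_ker_eq.symm).trans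
        (dR n).quotKerEquivRange).trans (LinearEquiv.ofEq _ _ (Submodule.ker_mkQ _).symm))
  have key : Function.Exact ((dR (i + 1)).lTensor N) ((dR i).lTensor N) := by
    haveI := hflat i
    exact (TorBridge.lTensor_ker_injective_iff (dR (i + 1)) (dR i) (LinearMap.range (dR i)).mkQ (hex i)
      (LinearMap.exact_map_mkQ_range _)).1
      (W4Lib.lTensor_injective_of_flat_quotient (Submodule.injective_subtype _)
        (LinearMap.exact_subtype_ker_map _) (Submodule.mkQ_surjective _) N)
  refine (Function.Exact.iff_of_ladder_linearEquiv (e₁ := TensorProduct.assoc A N R _)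
    (e₂ := TensorProduct.assoc A N R _) (e₃ := TensorProduct.assoc A N R _) ?_ ?_).1 key <;>
  · exact TensorProduct.ext_threefold fun x y z => rfl

variable (I : Ideal A) [Module.Flat (A ⧸ I) ((A ⧸ I) ⊗[A] M)]

/-- Degree one: modules killed by a power of `I`. -/
theorem T_one_of_killed (h : T A M (A ⧸ I) 1) (N : Type u) [AddCommGroup N] [Module A N] (n : ℕ)
    (hN : ∀ a ∈ I ^ n, ∀ x : N, a • x = 0) : T A M N 1 := by
  have hI : Function.Injective (I.subtype.rTensor M) := by
    have h1 := (TorBridge.isZero_tor_one_iff M (A ⧸ I) (Submodule.mkQ I) (Submodule.mkQ_surjective _)).1 h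
    exact (fun (K : Submodule A A) (e : K = I) (h : Function.Injective (K.subtype.rTensor M)) => e ▸ h) _
      (Submodule.ker_mkQ I) h1
  have hq := Finsupp.linearCombination_id_surjective A N
  show Limits.IsZero _
  rw [TorBridge.isZero_tor_one_iff M N _ hq]
  refine CAlgOdd.FlatDesc.rTensor_injective_of_pow_smul_le M I hI (LocalCrit.keepsInjective_of_flat I M) n _ ?_
  rw [Submodule.smul_le]
  intro a ha x _
  rw [LinearMap.mem_ker, map_smul]
  exact hN a ha _

/-- Higher degrees: modules killed by `I`. -/
theorem T_of_killed (r : ℕ) (h : ∀ i, i < r → T A M (A ⧸ I) (i + 1)) : ∀ i, i < r →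
    ∀ (N : Type u) [AddCommGroup N] [Module A N], (∀ a ∈ I, ∀ x : N, a • x = 0) → T A M N (i + 1) := by
  intro i
  induction i with
  | zero =>
    intro hi N _ _ hN
    exact T_one_of_killed M I (h 0 hi) N 1 (by rwa [pow_one])
  | succ i ih =>
    intro hi N _ _ hN
    let q := Finsupp.linearCombination A (id : N → N)
    have hle : (I • ⊤ : Submodule A (N →₀ A)) ≤ LinearMap.ker q := by
      rw [Submodule.smul_le]
      intro a ha x _
      rw [LinearMap.mem_ker, map_smul]
      exact hN a ha _
    let q' := (I • ⊤ : Submodule A (N →₀ A)).liftQ q hle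
    have hq' : Function.Surjective q' := fun x => by
      obtain ⟨y, hy⟩ := Finsupp.linearCombination_id_surjective A N x
      exact ⟨Submodule.Quotient.mk y, hy⟩
    refine third M (LinearMap.ker q').subtype q' Subtype.val_injective hq' (LinearMap.exact_subtype_ker_map q') (i + 1) ?_
      (ih (by omega) (LinearMap.ker q') ?_)
    · exact T_congr M (TensorProduct.tensorQuotEquivQuotSMul (N →₀ A) I) (T_tensor M _ _ _ (h (i + 1) hi))
    · intro a ha x
      obtain ⟨y, hy⟩ := Submodule.Quotient.mk_surjective _ x.1
      refine Subtype.ext ?_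
      show a • x.1 = 0
      rw [← hy, ← Submodule.Quotient.mk_smul, Submodule.Quotient.mk_eq_zero]
      exact Submodule.smul_mem_smul ha trivial

/-- Modules killed by a power of `I`. -/
theorem T_of_pow_killed (r : ℕ) (h : ∀ i, i < r → T A M (A ⧸ I) (i + 1)) (i : ℕ) (hi : i < r) (n : ℕ) :
    ∀ (N : Type u) [AddCommGroup N] [Module A N], (∀ a ∈ I ^ n, ∀ x : N, a • x = 0) → T A M N (i + 1) := by
  induction n with
  | zero =>
    intro N _ _ hN
    exact T_of_killed M I r h i hi N fun a ha x => by
      rw [← one_smul A x, hN 1 (by simp) x, smul_zero]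
  | succ n ih =>
    intro N _ _ hN
    let W : Submodule A N := I • ⊤
    refine mid M W.subtype W.mkQ Subtype.val_injective (Submodule.mkQ_surjective _) (LinearMap.exact_subtype_mkQ W) _
      (ih W ?_) (T_of_killed M I r h i hi _ ?_)
    · rintro a ha ⟨x, hx⟩
      refine Subtype.ext ?_
      show a • x = 0
      induction hx using Submodule.smul_induction_on' with
      | smul b hb y hy => rw [← mul_smul]; exact hN _ (by rw [pow_succ]; exact Ideal.mul_mem_mul ha hb) y
      | add y hy z hz h1 h2 => rw [smul_add, h1, h2, add_zero]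
    · intro a ha x
      obtain ⟨y, rfl⟩ := Submodule.Quotient.mk_surjective _ x
      rw [← Submodule.Quotient.mk_smul, Submodule.Quotient.mk_eq_zero]
      exact Submodule.smul_mem_smul ha trivial

/-- Modules all of whose elements are killed by powers of `I`. -/
theorem T_of_torsion (r : ℕ) (h : ∀ i, i < r → T A M (A ⧸ I) (i + 1)) (i : ℕ) (hi : i < r) (N : Type u)
    [AddCommGroup N] [Module A N] (hN : ∀ x : N, ∃ n, ∀ a ∈ I ^ n, a • x = 0) : T A M N (i + 1) := by
  let W : ℕ → Submodule A N := fun n => Submodule.torsionBySet A N ((I ^ n : Ideal A) : Set A)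
  refine T_union M N W (fun n m hnm x hx => (Submodule.mem_torsionBySet_iff _ _).2 fun a =>
    (Submodule.mem_torsionBySet_iff _ _).1 hx ⟨a.1, Ideal.pow_le_pow_right hnm a.2⟩) (fun x => ?_) i fun k => ?_
  · obtain ⟨n, hn⟩ := hN x
    exact ⟨n, (Submodule.mem_torsionBySet_iff _ _).2 fun a => hn a.1 a.2⟩
  · exact T_of_pow_killed M I r h i hi k (W k) fun a ha x =>
      Subtype.ext ((Submodule.mem_torsionBySet_iff _ _).1 x.2 ⟨a, ha⟩)

end Groth.Agent.Calg46.TorFlatCrit
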