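import Groth.Agent.Calg46.TorFlatCrit

/-!
# The flatness criterion
-/

set_option autoImplicit false
set_option linter.style.haveILetI false
universe u

open CategoryTheory TensorProduct

namespace Groth.Agent.Calg46.TorFlatCrit

variable {A : Type u} [CommRing A] (M : Type u) [AddCommGroup M] [Module A M]

/-- Each element is killed by a power of each of `f l`, `l < j`. -/
def IsTors {r : ℕ} (f : Fin r → A) (j : ℕ) (N : Type u) [AddCommGroup N] [Module A N] : Prop :=
  ∀ l : Fin r, (l : ℕ) < j → ∀ x : N, ∃ n : ℕ, f l ^ n • x = 0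

theorem exists_pow_of_isTors {r : ℕ} (f : Fin r → A) (N : Type u) [AddCommGroup N] [Module A N]
    (h : IsTors f r N) (x : N) : ∃ n, ∀ a ∈ Ideal.span (Set.range f) ^ n, a • x = 0 := by
  let J : Ideal A := LinearMap.ker (LinearMap.toSpanSingleton A N x)
  have hle : Ideal.span (Set.range f) ≤ J.radical := by
    rw [Ideal.span_le]
    rintro _ ⟨l, rfl⟩
    obtain ⟨n, hn⟩ := h l l.2 x
    exact ⟨n, hn⟩
  obtain ⟨n, hn⟩ := Ideal.exists_pow_le_of_le_radical_of_fg hle (Submodule.fg_span (Set.finite_range f))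
  exact ⟨n, fun a ha => hn ha⟩

/-- Vanishing of `Tor_i`, `1 ≤ i ≤ j + 1`, against modules torsion for `f l`, `l < j`. -/
theorem T_descend {r : ℕ} (f : Fin r → A) (hflat : ∀ l, Module.Flat A (Localization.Away (f l) ⊗[A] M))
    [Module.Flat (A ⧸ Ideal.span (Set.range f)) ((A ⧸ Ideal.span (Set.range f)) ⊗[A] M)]
    (h : ∀ i, i < r + 1 → T A M (A ⧸ Ideal.span (Set.range f)) (i + 1)) :
    ∀ k j : ℕ, j + k = r → ∀ (N : Type u) [AddCommGroup N] [Module A N], IsTors f j N →
      ∀ i, i < j + 1 → T A M N (i + 1) := by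
  intro k
  induction k with
  | zero =>
    intro j hj N _ _ hN i hi
    obtain rfl : j = r := by omega
    exact T_of_torsion M _ (j + 1) h i hi N (exists_pow_of_isTors f N hN)
  | succ k ih =>
    intro j hj N _ _ hN i hi
    let l : Fin r := ⟨j, by omega⟩
    let R := Localization.Away (f l)
    haveI := hflat l
    haveI : Module.Flat A R := IsLocalization.flat R (Submonoid.powers (f l))
    let φ : N →ₗ[A] R ⊗[A] N := TensorProduct.mk A R N 1
    have hloc : IsLocalizedModule (Submonoid.powers (f l)) φ :=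
      (isLocalizedModule_iff_isBaseChange (Submonoid.powers (f l)) R φ).2 (TensorProduct.isBaseChange A N R)
    have hIm : IsTors f j (LinearMap.range φ) := by
      rintro m hm ⟨_, x, rfl⟩
      obtain ⟨n, hn⟩ := hN m hm x
      exact ⟨n, Subtype.ext (by rw [Submodule.coe_smul, ← map_smul, hn, map_zero]; rfl)⟩
    have hR : IsTors f j (R ⊗[A] N) := by
      intro m hm z
      induction z using TensorProduct.induction_on with
      | zero => exact ⟨0, smul_zero _⟩
      | tmul a x =>
        obtain ⟨n, hn⟩ := hN m hm x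
        exact ⟨n, by rw [← TensorProduct.tmul_smul, hn, TensorProduct.tmul_zero]⟩
      | add y z hy hz =>
        obtain ⟨n, hn⟩ := hy
        obtain ⟨p, hp⟩ := hz
        refine ⟨n + p, ?_⟩
        rw [smul_add, pow_add]
        conv_lhs => arg 1; rw [mul_comm, mul_smul, hn, smul_zero]
        rw [mul_smul, hp, smul_zero, add_zero]
    have hC : IsTors f (j + 1) ((R ⊗[A] N) ⧸ LinearMap.range φ) := by
      intro m hm y
      obtain ⟨y, rfl⟩ := Submodule.Quotient.mk_surjective _ y
      rcases Nat.lt_succ_iff_lt_or_eq.1 hm with hm | hm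
      · obtain ⟨n, hn⟩ := hR m hm y
        exact ⟨n, by rw [← Submodule.Quotient.mk_smul, hn, Submodule.Quotient.mk_zero]⟩
      · obtain rfl : m = l := Fin.ext hm
        obtain ⟨⟨x, c, n, hc⟩, hx⟩ := hloc.surj y
        refine ⟨n, (Submodule.Quotient.mk_smul _ _ _).symm.trans ((Submodule.Quotient.mk_eq_zero _).2 ⟨x, ?_⟩)⟩
        subst hc
        rw [← hx]
        rfl
    have hK : IsTors f (j + 1) (LinearMap.ker φ) := by
      rintro m hm ⟨x, hx⟩
      rcases Nat.lt_succ_iff_lt_or_eq.1 hm with hm | hm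
      · obtain ⟨n, hn⟩ := hN m hm x
        exact ⟨n, Subtype.ext hn⟩
      · obtain rfl : m = l := Fin.ext hm
        obtain ⟨⟨c, n, hc⟩, hc'⟩ := hloc.exists_of_eq (x₁ := x) (x₂ := 0) (by rw [map_zero]; exact hx)
        exact ⟨n, Subtype.ext (by
          show f ⟨j, _⟩ ^ n • x = 0
          replace hc : f ⟨j, _⟩ ^ n = c := hc
          rw [hc]; rw [smul_zero] at hc'; exact hc')⟩
    have hIm' : T A M (LinearMap.range φ) (i + 1) :=
      first M (LinearMap.range φ).subtype (LinearMap.range φ).mkQ Subtype.val_injective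
        (Submodule.mkQ_surjective _) (LinearMap.exact_subtype_mkQ _) (i + 1)
        (ih (j + 1) (by omega) _ hC (i + 1) (by omega)) (T_of_flat_algebra M R N i)
    exact mid M (LinearMap.ker φ).subtype φ.rangeRestrict Subtype.val_injective φ.surjective_rangeRestrict
      (by rw [LinearMap.exact_iff, LinearMap.ker_rangeRestrict, Submodule.range_subtype]) (i + 1)
      (ih (j + 1) (by omega) _ hK i (by omega)) hIm'

/-- The flatness criterion. -/
theorem flat_of_tor {r : ℕ} (f : Fin r → A) (hflat : ∀ l, Module.Flat A (Localization.Away (f l) ⊗[A] M))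
    [Module.Flat (A ⧸ Ideal.span (Set.range f)) ((A ⧸ Ideal.span (Set.range f)) ⊗[A] M)]
    (h : ∀ i, i < r + 1 → T A M (A ⧸ Ideal.span (Set.range f)) (i + 1)) : Module.Flat A M := by
  rw [Module.Flat.iff_rTensor_injective']
  intro J
  have h1 := T_descend M f hflat h r 0 (Nat.zero_add r) (A ⧸ J) (fun l hl => absurd hl (Nat.not_lt_zero _)) 0 Nat.one_pos
  have h2 := (TorBridge.isZero_tor_one_iff M (A ⧸ J) (Submodule.mkQ J) (Submodule.mkQ_surjective _)).1 h1
  exact (fun (K : Submodule A A) (e : K = J) (h : Function.Injective (K.subtype.rTensor M)) => e ▸ h) _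
    (Submodule.ker_mkQ J) h2

end Groth.Agent.Calg46.TorFlatCrit
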