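import Groth.Agent.Calg46.KoszulTorZero
import Mathlib

/-!
# Inclusions `IⁿM ⊆ M` kill `Tor` with modules killed by `I`
-/

set_option autoImplicit false
set_option linter.style.haveILetI false
universe u

open CategoryTheory TensorProduct MonoidalCategory

namespace Groth.Agent.Calg46.TorMapZero

variable {A : Type u} [CommRing A] {N : ModuleCat.{u} A} (P : ProjectiveResolution N)

/-- The total module of a resolution. -/
abbrev Tot : Type u := DirectSum ℕ fun q => (P.complex.X q : Type u)

instance flat_tot : Module.Flat A (Tot P) :=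
  haveI : ∀ q, Module.Flat A (P.complex.X q) := fun q =>
    haveI : Module.Projective A (P.complex.X q) := (IsProjective.iff_projective _).2 (P.projective q)
    inferInstance
  inferInstance

/-- The inclusion of a degree. -/
noncomputable abbrev inj (q : ℕ) : P.complex.X q →ₗ[A] Tot P := DirectSum.lof A ℕ (fun q => (P.complex.X q : Type u)) q

/-- The projection to a degree. -/
noncomputable abbrev proj (q : ℕ) : Tot P →ₗ[A] P.complex.X q :=
  DirectSum.component A ℕ (fun q => (P.complex.X q : Type u)) q

theorem proj_inj (q : ℕ) : proj P q ∘ₗ inj P q = LinearMap.id :=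
  LinearMap.ext fun x => by simp [proj, inj]

/-- The differential of the total module. -/
noncomputable def D : Tot P →ₗ[A] Tot P :=
  DirectSum.toModule A ℕ (Tot P) fun q => match q with
    | 0 => 0
    | q + 1 => inj P q ∘ₗ (P.complex.d (q + 1) q).hom

theorem D_inj_zero : D P ∘ₗ inj P 0 = 0 := LinearMap.ext fun x => by simp [D, inj]

theorem D_inj_succ (q : ℕ) : D P ∘ₗ inj P (q + 1) = inj P q ∘ₗ (P.complex.d (q + 1) q).hom :=
  LinearMap.ext fun x => by simp [D, inj]

theorem D_sq : D P ∘ₗ D P = 0 := by
  refine DirectSum.linearMap_ext A fun q => ?_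
  match q with
  | 0 => rw [LinearMap.comp_assoc, D_inj_zero, LinearMap.comp_zero, LinearMap.zero_comp]
  | q + 1 =>
    rw [LinearMap.comp_assoc, D_inj_succ, ← LinearMap.comp_assoc, LinearMap.zero_comp]
    match q with
    | 0 => rw [D_inj_zero, LinearMap.zero_comp]
    | q + 1 =>
      rw [D_inj_succ, LinearMap.comp_assoc, ← ModuleCat.hom_comp, P.complex.d_comp_d, ModuleCat.hom_zero,
        LinearMap.comp_zero]

theorem proj_D (q : ℕ) : proj P q ∘ₗ D P = (P.complex.d (q + 1) q).hom ∘ₗ proj P (q + 1) := by
  refine DirectSum.linearMap_ext A fun r => LinearMap.ext fun x => ?_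
  rw [LinearMap.comp_apply, LinearMap.comp_apply, LinearMap.comp_apply, LinearMap.comp_apply]
  show proj P q ((D P ∘ₗ inj P r) x) = _
  match r with
  | 0 =>
    rw [D_inj_zero, LinearMap.zero_apply, map_zero, DirectSum.component.of]
    simp
  | r + 1 =>
    rw [D_inj_succ, LinearMap.comp_apply, DirectSum.component.of, DirectSum.component.of]
    by_cases h : r = q
    · subst h; simp
    · simp [h]

theorem exists_homotopy (a : A) (hN : ∀ y : N, a • y = 0) :
    ∃ h : Tot P →ₗ[A] Tot P, ∀ p, D P (h p) + h (D P p) = a • p := by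
  have comm : (a • 𝟙 P.complex) ≫ P.π = 0 := by
    refine HomologicalComplex.to_single_hom_ext (ModuleCat.hom_ext (LinearMap.ext fun x => ?_))
    show (P.π.f 0).hom (a • x) = 0
    rw [map_smul]
    exact hN _
  let hh := ProjectiveResolution.liftHomotopyZero (a • 𝟙 P.complex) comm
  let h : Tot P →ₗ[A] Tot P := DirectSum.toModule A ℕ (Tot P) fun q => inj P (q + 1) ∘ₗ (hh.hom q (q + 1)).hom
  have hinj : ∀ q, h ∘ₗ inj P q = inj P (q + 1) ∘ₗ (hh.hom q (q + 1)).hom := fun q =>
    LinearMap.ext fun x => by simp [h, inj]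
  refine ⟨h, LinearMap.congr_fun (f := D P ∘ₗ h + h ∘ₗ D P) (g := a • LinearMap.id) ?_⟩
  refine DirectSum.linearMap_ext A fun q => ?_
  have hc := congrArg ModuleCat.Hom.hom (hh.comm q)
  rw [LinearMap.add_comp, LinearMap.comp_assoc, LinearMap.comp_assoc, hinj, ← LinearMap.comp_assoc, D_inj_succ,
    LinearMap.smul_comp, LinearMap.id_comp, LinearMap.comp_assoc]
  match q with
  | 0 =>
    rw [D_inj_zero, LinearMap.comp_zero, add_zero]
    rw [Homotopy.dNext_zero_chainComplex, Homotopy.prevD_chainComplex] at hc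
    refine LinearMap.ext fun x => ?_
    have := LinearMap.congr_fun hc x
    simp at this
    simp [← this, map_smul]
  | q + 1 =>
    rw [show D P ∘ₗ DirectSum.lof A ℕ (fun i => (P.complex.X i : Type u)) (q + 1) = _ from D_inj_succ P q,
      ← LinearMap.comp_assoc _ _ h, hinj, LinearMap.comp_assoc]
    rw [Homotopy.dNext_succ_chainComplex, Homotopy.prevD_chainComplex] at hc
    refine LinearMap.ext fun x => ?_
    have := LinearMap.congr_fun hc x
    simp at this
    rw [LinearMap.smul_apply, ← map_smul, this, map_add]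
    simp [add_comm]

theorem map_eq_zero (A : Type u) [CommRing A] {M M' : Type u} [AddCommGroup M] [Module A M] [AddCommGroup M']
    [Module A M'] (ι : M' →ₗ[A] M) (N : ModuleCat.{u} A) (P : ProjectiveResolution N)
    (hkey : ∀ u : M' ⊗[A] Tot P, (D P).lTensor M' u = 0 → ∃ w : M ⊗[A] Tot P, (D P).lTensor M w = ι.rTensor _ u)
    (p : ℕ) : ((Tor (ModuleCat.{u} A) p).map (ModuleCat.ofHom ι)).app N = 0 := by
  show (NatTrans.leftDerived ((tensoringLeft (ModuleCat.{u} A)).map (ModuleCat.ofHom ι)) p).app N = 0
  rw [ProjectiveResolution.leftDerived_app_eq _ P p]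
  let C' := (((tensoringLeft (ModuleCat.{u} A)).obj (ModuleCat.of A M')).mapHomologicalComplex (ComplexShape.down ℕ)).obj P.complex
  let C := (((tensoringLeft (ModuleCat.{u} A)).obj (ModuleCat.of A M)).mapHomologicalComplex (ComplexShape.down ℕ)).obj P.complex
  let φ : C' ⟶ C := (NatTrans.mapHomologicalComplex ((tensoringLeft (ModuleCat.{u} A)).map (ModuleCat.ofHom ι)) _).app P.complex
  suffices h : HomologicalComplex.homologyMap φ p = 0 by
    rw [show (HomologicalComplex.homologyFunctor (ModuleCat.{u} A) (ComplexShape.down ℕ) p).map φ = 0 from h]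
    simp
  rw [← cancel_epi (C'.homologyπ p), HomologicalComplex.homologyπ_naturality, Limits.comp_zero]
  refine ModuleCat.hom_ext (LinearMap.ext fun c => ?_)
  let z : M' ⊗[A] P.complex.X p := (C'.iCycles p).hom c
  have hz : ∀ q, (P.complex.d p q).hom.lTensor M' z = 0 := fun q =>
    LinearMap.congr_fun (congrArg ModuleCat.Hom.hom (C'.iCycles_d p q)) c
  have hu : (D P).lTensor M' ((inj P p).lTensor M' z) = 0 := by
    rw [← LinearMap.comp_apply, ← LinearMap.lTensor_comp]
    rcases p with _ | q
    · rw [D_inj_zero, LinearMap.lTensor_zero, LinearMap.zero_apply]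
    · rw [D_inj_succ, LinearMap.lTensor_comp, LinearMap.comp_apply, hz q, map_zero]
  obtain ⟨w, hw⟩ := hkey _ hu
  let w' : C.X (p + 1) := (proj P (p + 1)).lTensor M w
  have hw' : (P.complex.d (p + 1) p).hom.lTensor M w' = ι.rTensor _ z := by
    show (P.complex.d (p + 1) p).hom.lTensor M ((proj P (p + 1)).lTensor M w) = _
    rw [← LinearMap.comp_apply, ← LinearMap.lTensor_comp, ← proj_D, LinearMap.lTensor_comp, LinearMap.comp_apply, hw,
      ← LinearMap.comp_apply, LinearMap.lTensor_comp_rTensor, ← LinearMap.rTensor_comp_lTensor, LinearMap.comp_apply,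
      ← LinearMap.comp_apply ((proj P p).lTensor M'), ← LinearMap.lTensor_comp, proj_inj, LinearMap.lTensor_id,
      LinearMap.id_apply]
  have hc : (HomologicalComplex.cyclesMap φ p).hom c = (C.toCycles (p + 1) p).hom w' := by
    refine (ModuleCat.mono_iff_injective (C.iCycles p)).1 inferInstance ?_
    refine (LinearMap.congr_fun (congrArg ModuleCat.Hom.hom (HomologicalComplex.cyclesMap_i φ p)) c).trans ?_
    refine Eq.trans ?_ (LinearMap.congr_fun (congrArg ModuleCat.Hom.hom (C.toCycles_i (p + 1) p)) w').symm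
    exact hw'.symm
  show (C.homologyπ p).hom ((HomologicalComplex.cyclesMap φ p).hom c) = 0
  rw [hc]
  exact LinearMap.congr_fun (congrArg ModuleCat.Hom.hom (C.toCycles_comp_homologyπ (p + 1) p)) w'

end Groth.Agent.Calg46.TorMapZero
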