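import Mathlib
import Groth.Prelude.Def_W4stkdualitygroupp2Univ

/-!
# The universal system of n polynomials in n variables
-/

noncomputable section

namespace Groth.Agent.Calg46

open MvPolynomial Synt

/-- The zero exponent. -/
def idxZero (n d : ℕ) : UnivIdx n d := ⟨fun _ => 0, by simp⟩

theorem idxZero_exponent (n d : ℕ) : (idxZero n d).exponent = 0 :=
  Finsupp.ext fun i => by simp [idxZero, UnivIdx.exponent]

theorem exponent_injective (n d : ℕ) : Function.Injective (UnivIdx.exponent (n := n) (d := d)) := fun E F h =>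
  Subtype.ext (funext fun i => Fin.ext (DFunLike.congr_fun h i))

/-- Exponent of the `i`th variable. -/
def idxOne (n d : ℕ) (hd : 1 ≤ d) (i : Fin n) : UnivIdx n d :=
  ⟨Pi.single i ⟨1, by omega⟩, by
    rw [Finset.sum_eq_single i (fun b _ hb => by simp [hb]) (fun h => absurd (Finset.mem_univ i) h)]
    simpa using hd⟩

theorem idxOne_exponent (n d : ℕ) (hd : 1 ≤ d) (i : Fin n) : (idxOne n d hd i).exponent = Finsupp.single i 1 := by
  refine Finsupp.ext fun j => ?_
  rcases eq_or_ne j i with rfl | h
  · simp [idxOne, UnivIdx.exponent]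
  · simp [idxOne, UnivIdx.exponent, h]

/-- The variables of the polynomial ring isomorphic to the universal algebra. -/
abbrev FreeVars (n d : ℕ) : Type := (Fin n × {E : UnivIdx n d // E ≠ idxZero n d}) ⊕ Fin n

abbrev FreeRing (n d : ℕ) : Type := MvPolynomial (FreeVars n d) ℤ

/-- Monomial in the free variables. -/
def xPow (n d : ℕ) (E : UnivIdx n d) : FreeRing n d :=
  ∏ j, (X (Sum.inr j) : FreeRing n d) ^ E.exponent j

/-- The image of a coefficient. -/
def coeffVal (n d : ℕ) (p : Fin n × UnivIdx n d) : FreeRing n d :=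
  if h : p.2 = idxZero n d then
    - ∑ E : {E : UnivIdx n d // E ≠ idxZero n d}, X (Sum.inl (p.1, E)) * xPow n d E.1
  else X (Sum.inl (p.1, ⟨p.2, h⟩))

/-- Substitution. -/
def toFree (n d : ℕ) : MvPolynomial (Fin n) (UnivBase n d) →+* FreeRing n d :=
  eval₂Hom (eval₂Hom (Int.castRingHom _) (coeffVal n d)) fun j => X (Sum.inr j)

theorem toFree_monomial (n d : ℕ) (i : Fin n) (E : UnivIdx n d) :
    toFree n d (monomial E.exponent (X (i, E))) = coeffVal n d (i, E) * xPow n d E := by
  rw [toFree, coe_eval₂Hom, eval₂_monomial, Finsupp.prod_fintype _ _ (fun _ => pow_zero _)]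
  simp [xPow]

theorem toFree_univPoly (n d : ℕ) (i : Fin n) : toFree n d (univPoly n d i) = 0 := by
  classical
  simp only [univPoly, map_sum, toFree_monomial]
  rw [Fintype.sum_eq_add_sum_subtype_ne _ (idxZero n d)]
  rw [Finset.sum_congr rfl fun (E : {E : UnivIdx n d // E ≠ idxZero n d}) _ => congrArg (fun c => c * xPow n d E.1)
    (show coeffVal n d (i, E.1) = X (Sum.inl (i, E)) by rw [coeffVal, dif_neg E.2])]
  have h0 : xPow n d (idxZero n d) = 1 := by simp [xPow, idxZero_exponent]
  simp [coeffVal, h0]

/-- Section. -/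
def fromFree (n d : ℕ) : FreeRing n d →+* UnivAlg n d :=
  eval₂Hom (Int.castRingHom _) (Sum.elim (fun p => UnivAlg.mk n d (C (X (p.1, p.2.1))))
    (fun j => UnivAlg.mk n d (X j)))

theorem fromFree_inl (n d : ℕ) (p : Fin n × {E : UnivIdx n d // E ≠ idxZero n d}) :
    fromFree n d (X (Sum.inl p)) = UnivAlg.mk n d (C (X (p.1, p.2.1))) := eval₂Hom_X' _ _ _

theorem fromFree_inr (n d : ℕ) (j : Fin n) :
    fromFree n d (X (Sum.inr j)) = UnivAlg.mk n d (X j) := eval₂Hom_X' _ _ _

theorem toFree_C_X (n d : ℕ) (p : Fin n × UnivIdx n d) : toFree n d (C (X p)) = coeffVal n d p := by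
  rw [toFree, eval₂Hom_C, eval₂Hom_X']

theorem toFree_X (n d : ℕ) (j : Fin n) : toFree n d (X j) = X (Sum.inr j) := eval₂Hom_X' _ _ _

theorem fromFree_comp_toFree (n d : ℕ) :
    (fromFree n d).comp (toFree n d) = (UnivAlg.mk n d).toRingHom := by
  classical
  have hx : ∀ E : UnivIdx n d, fromFree n d (xPow n d E) = UnivAlg.mk n d (monomial E.exponent 1) := fun E => by
    rw [monomial_eq, map_one, one_mul, Finsupp.prod_fintype _ _ (fun _ => pow_zero _), map_prod]
    simp only [xPow, map_prod, map_pow, fromFree_inr]
  refine MvPolynomial.ringHom_ext (fun a => ?_) fun j => ?_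
  swap
  · simp only [RingHom.coe_comp, Function.comp_apply, toFree_X, fromFree_inr, AlgHom.toRingHom_eq_coe, RingHom.coe_coe]
  refine DFunLike.congr_fun (?_ : ((fromFree n d).comp (toFree n d)).comp C = (UnivAlg.mk n d).toRingHom.comp C) a
  refine MvPolynomial.ringHom_ext (fun z => ?_) ?_
  · exact DFunLike.congr_fun (RingHom.ext_int
      ((((fromFree n d).comp (toFree n d)).comp C).comp C) (((UnivAlg.mk n d).toRingHom.comp C).comp C)) z
  · rintro ⟨i, E⟩
    by_cases hE : E = idxZero n d
    · subst hE
      have hz : UnivAlg.mk n d (univPoly n d i) = 0 :=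
        Ideal.Quotient.eq_zero_iff_mem.2 (Ideal.subset_span ⟨i, rfl⟩)
      have hm : ∀ E : UnivIdx n d, UnivAlg.mk n d (monomial E.exponent (X (i, E))) =
          UnivAlg.mk n d (C (X (i, E))) * UnivAlg.mk n d (monomial E.exponent 1) := fun E => by
        rw [← map_mul, C_mul_monomial, mul_one]
      rw [univPoly, map_sum, Fintype.sum_eq_add_sum_subtype_ne _ (idxZero n d), idxZero_exponent,
        monomial_zero', add_eq_zero_iff_eq_neg] at hz
      simp only [RingHom.coe_comp, Function.comp_apply, AlgHom.toRingHom_eq_coe, RingHom.coe_coe, toFree_C_X,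
        coeffVal, dif_pos, map_neg, map_sum, map_mul, hx, hz, hm, fromFree_inl]
    · simp only [RingHom.coe_comp, Function.comp_apply, AlgHom.toRingHom_eq_coe, RingHom.coe_coe, toFree_C_X,
        coeffVal, dif_neg hE, fromFree_inl]

theorem univIdeal_le_ker (n d : ℕ) : univIdeal n d ≤ RingHom.ker (toFree n d) := by
  rw [univIdeal, Ideal.span_le]
  rintro _ ⟨i, rfl⟩
  exact toFree_univPoly n d i

/-- The universal algebra is a polynomial ring over `ℤ`. -/
def univAlgEquiv (n d : ℕ) : UnivAlg n d ≃+* FreeRing n d :=
  RingEquiv.ofRingHom (Ideal.Quotient.lift (univIdeal n d) (toFree n d) (univIdeal_le_ker n d)) (fromFree n d)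
    (MvPolynomial.ringHom_ext (fun z => by simp only [eq_intCast, map_intCast]) fun v => by
      rcases v with ⟨i, E⟩ | j
      · show Ideal.Quotient.lift (univIdeal n d) (toFree n d) (univIdeal_le_ker n d)
          (fromFree n d (X (Sum.inl (i, E)))) = X (Sum.inl (i, E))
        rw [fromFree_inl]
        exact (toFree_C_X n d _).trans (by rw [coeffVal, dif_neg E.2])
      · show Ideal.Quotient.lift (univIdeal n d) (toFree n d) (univIdeal_le_ker n d)
          (fromFree n d (X (Sum.inr j))) = X (Sum.inr j)
        rw [fromFree_inr]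
        exact toFree_X n d j)
    (Ideal.Quotient.ringHom_ext (RingHom.ext fun x => by
      have := DFunLike.congr_fun (fromFree_comp_toFree n d) x
      exact this))

/-- A square system is quasi-finite and étale where the Jacobian is invertible. -/
theorem quasiFiniteAt_and_isEtaleAt {R : Type*} [CommRing R] {n : ℕ} (F : Fin n → MvPolynomial (Fin n) R)
    (q : Ideal (MvPolynomial (Fin n) R ⧸ Ideal.span (Set.range F))) [q.IsPrime]
    (hq : Ideal.Quotient.mk (Ideal.span (Set.range F)) (Matrix.det (Matrix.of fun i j => pderiv i (F j))) ∉ q) :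
    Algebra.QuasiFiniteAt R q ∧ Algebra.IsEtaleAt R q := by
  classical
  let P : Algebra.PreSubmersivePresentation R (MvPolynomial (Fin n) R ⧸ Ideal.span (Set.range F))
      (Fin n) (Fin n) := Algebra.PreSubmersivePresentation.naive id Function.injective_id
  let j := P.jacobian
  have hj0 : j = Ideal.Quotient.mk _ (Matrix.det (Matrix.of fun i k => pderiv i (F k))) := by
    show P.jacobian = _
    rw [P.jacobian_eq_jacobiMatrix_det]
    show Ideal.Quotient.mk _ P.jacobiMatrix.det = _
    refine congrArg (fun M : Matrix (Fin n) (Fin n) (MvPolynomial (Fin n) R) =>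
      Ideal.Quotient.mk _ M.det) (Matrix.ext fun i k => ?_)
    exact Algebra.PreSubmersivePresentation.jacobiMatrix_naive ..
  let B := Localization.Away j
  let Q := Algebra.PreSubmersivePresentation.localizationAway B j
  have hj : IsUnit (Q.comp P).jacobian := by
    rw [Algebra.PreSubmersivePresentation.comp_jacobian_eq_jacobian_smul_jacobian,
      Algebra.PreSubmersivePresentation.localizationAway_jacobian, Algebra.smul_def]
    exact (IsLocalization.Away.algebraMap_isUnit j).mul (IsLocalization.Away.algebraMap_isUnit j)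
  let S' : Algebra.SubmersivePresentation R B (Unit ⊕ Fin n) (Unit ⊕ Fin n) := ⟨Q.comp P, hj⟩
  have : Algebra.Etale R B := Algebra.Etale.iff_isStandardSmoothOfRelativeDimension_zero.mpr
    (S'.isStandardSmoothOfRelativeDimension (by simp [Algebra.Presentation.dimension]))
  have hjq : j ∉ q := hj0 ▸ hq
  have het : Algebra.IsEtaleAt R q :=
    Algebra.basicOpen_subset_etaleLocus_iff.2 (inferInstance : Algebra.FormallyEtale R B)
      (show (⟨q, inferInstance⟩ : PrimeSpectrum _) ∈ PrimeSpectrum.basicOpen j from hjq)
  have : Algebra.QuasiFinite R B := inferInstance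
  have hpow : Submonoid.powers j ≤ q.primeCompl := Submonoid.powers_le.2 hjq
  let : Algebra B (Localization.AtPrime q) :=
    IsLocalization.localizationAlgebraOfSubmonoidLe B _ (Submonoid.powers j) q.primeCompl hpow
  have : IsScalarTower (MvPolynomial (Fin n) R ⧸ Ideal.span (Set.range F)) B (Localization.AtPrime q) :=
    IsLocalization.localization_isScalarTower_of_submonoid_le B _ (Submonoid.powers j) q.primeCompl hpow
  have : IsScalarTower R B (Localization.AtPrime q) :=
    IsScalarTower.to₁₃₄ R (MvPolynomial (Fin n) R ⧸ Ideal.span (Set.range F)) B (Localization.AtPrime q)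
  have : IsLocalization (q.primeCompl.map (algebraMap (MvPolynomial (Fin n) R ⧸ Ideal.span (Set.range F)) B))
      (Localization.AtPrime q) :=
    IsLocalization.isLocalization_of_submonoid_le B _ (Submonoid.powers j) q.primeCompl hpow
  exact ⟨Algebra.QuasiFinite.of_isLocalization (q.primeCompl.map
    (algebraMap (MvPolynomial (Fin n) R ⧸ Ideal.span (Set.range F)) B)), het⟩

/-- Evaluation at the split point. -/
theorem exists_etale_point (n d : ℕ) (hd : 1 ≤ d) :
    ∃ ε : MvPolynomial (Fin n) (UnivBase n d) →+* ℤ,
      (∀ i, ε (univPoly n d i) = 0) ∧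
        ε (Matrix.det (Matrix.of fun i j => pderiv i (univPoly n d j))) = 1 := by
  classical
  let e : UnivBase n d →+* ℤ :=
    eval₂Hom (Int.castRingHom ℤ) fun p => if p.2 = idxOne n d hd p.1 then 1 else 0
  let ε : MvPolynomial (Fin n) (UnivBase n d) →+* ℤ := eval₂Hom e 0
  have hmon : ∀ (s : Fin n →₀ ℕ) (a : UnivBase n d), ε (monomial s a) = if s = 0 then e a else 0 := fun s a => by
    simp only [ε, eval₂Hom_zero, RingHom.comp_apply, constantCoeff_eq, coeff_monomial]
    split_ifs <;> simp
  refine ⟨ε, fun i => ?_, ?_⟩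
  · rw [univPoly, map_sum]
    refine Finset.sum_eq_zero fun E _ => ?_
    rw [hmon]
    split_ifs with h
    · have hne : ¬ E = idxOne n d hd i := fun he => by
        rw [he, idxOne_exponent] at h
        simp at h
      simp [e, hne]
    · rfl
  · have hmat : (Matrix.of fun i j => pderiv i (univPoly n d j)).map ε = 1 := by
      ext i j
      simp only [Matrix.map_apply, Matrix.of_apply, univPoly, map_sum, pderiv_monomial, hmon]
      rw [Finset.sum_eq_single (idxOne n d hd i)]
      · rw [idxOne_exponent, tsub_self, if_pos rfl, Finsupp.single_eq_same]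
        simp only [Nat.cast_one, mul_one, e, eval₂Hom_X', Matrix.one_apply]
        by_cases h : i = j
        · subst h; simp
        · rw [if_neg h, if_neg]
          intro h'
          have := congrArg UnivIdx.exponent h'
          rw [idxOne_exponent, idxOne_exponent] at this
          exact h (Finsupp.single_left_inj one_ne_zero |>.1 this)
      · intro E _ hE
        split_ifs with h
        · have h0 : E.exponent i = 0 := by
            by_contra h1
            apply hE
            apply exponent_injective
            rw [idxOne_exponent]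
            refine le_antisymm (tsub_eq_zero_iff_le.1 h) ?_
            rw [Finsupp.single_le_iff]
            omega
          simp [h0]
        · rfl
      · simp
    rw [RingHom.map_det, RingHom.mapMatrix_apply, hmat, Matrix.det_one]

end Groth.Agent.Calg46
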