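import Groth.Agent.Calg46.WittEval
import Groth.Agent.Calg46.DescIso

/-!
# A compatibility criterion on elements
-/

universe u

set_option autoImplicit false
set_option backward.isDefEq.respectTransparency false
set_option backward.isDefEq.respectTransparency.types false

open CategoryTheory Opposite TensorProduct

namespace Groth.Agent.Calg46.WEval

variable {Φ : CommRingCat.{u} ⥤ CommRingCat.{u}} {X Y T : CommRingCat.{u}ᵒᵖ} (p : Y ⟶ X)

set_option maxHeartbeats 2000000 in
-- The kernel unfolds the pseudofunctor to compare the compositions.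
/-- Compatibility can be checked on `1 ⊗ (1 ⊗ m)`. -/
theorem comm_of_one (M : ModuleCat.{u} (WR Φ X)) (N : ModuleCat.{u} (WR Φ Y)) (a : (ES p).obj M ⟶ N) (q : T ⟶ X)
    (f₁ f₂ : T ⟶ Y) (h₁ : f₁ ≫ p = q) (h₂ : f₂ ≫ p = q) (k : (ES f₁).obj N ⟶ (ES f₂).obj N)
    (H : ∀ m, k (one f₁ N (a (one p M m))) = one f₂ N (a (one p M m))) :
    compHom p M f₁ h₁ ≫ (ES f₁).map a ≫ k = compHom p M f₂ h₂ ≫ (ES f₂).map a := by
  refine es_hom_ext fun m => ?_
  rw [CategoryTheory.comp_apply, CategoryTheory.comp_apply, CategoryTheory.comp_apply, compHom_one h₁,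
    compHom_one h₂, es_map_tm, es_map_tm, H]

set_option maxHeartbeats 2000000 in
-- The kernel unfolds the pseudofunctor to compare the compositions.
/-- The criterion in the categories of the pseudofunctor. -/
theorem cat_comm_of_one (M : ModuleCat.{u} (WR Φ X)) (N : ModuleCat.{u} (WR Φ Y)) (a : (ES p).obj M ⟶ N)
    (q : T ⟶ X) (f₁ f₂ : T ⟶ Y) (h₁ : f₁ ≫ p = q) (h₂ : f₂ ≫ p = q) (k : (ES f₁).obj N ⟶ (ES f₂).obj N)
    (H : ∀ m, k (one f₁ N (a (one p M m))) = one f₂ N (a (one p M m))) :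
    CategoryStruct.comp (obj := ↑((PF Φ).obj ⟨op T⟩))
        (compApp (F := PF Φ) p f₁ q h₁ M)
        (CategoryStruct.comp (obj := ↑((PF Φ).obj ⟨op T⟩)) (((PF Φ).map f₁.op.toLoc).toFunctor.map a) k) =
      CategoryStruct.comp (obj := ↑((PF Φ).obj ⟨op T⟩))
        (compApp (F := PF Φ) p f₂ q h₂ M)
        (((PF Φ).map f₂.op.toLoc).toFunctor.map a) := by
  have h := comm_of_one p M N a q f₁ f₂ h₁ h₂ k H
  rw [compHom_def, compHom_def] at h
  exact h

set_option maxHeartbeats 2000000 in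
-- The kernel unfolds the pseudofunctor to compare the compositions.
/-- An isomorphism fixed by the gluing identifies the canonical datum with the datum. -/
theorem nonempty_iso_of_one (D : (PF Φ).DescentData (fun _ : PUnit.{u + 1} => p)) (M : ModuleCat.{u} (WR Φ X))
    (a : (ES p).obj M ⟶ carrier D) [IsIso a]
    (H : ∀ (T : CommRingCat.{u}ᵒᵖ) (f₁ f₂ : T ⟶ Y) (e : f₁ ≫ p = f₂ ≫ p) (m : M),
      homM D f₁ f₂ e (one f₁ _ (a (one p M m))) = one f₂ _ (a (one p M m))) :
    Nonempty (((PF Φ).toDescentData (fun _ : PUnit.{u + 1} => p)).obj M ≅ D) := by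
  refine nonempty_iso_toDescentData D M (fun _ => asIso a) fun T q i₁ i₂ f₁ f₂ hf₁ hf₂ => ?_
  cases i₁; cases i₂
  subst hf₂
  exact cat_comm_of_one p M (carrier D) a (f₂ ≫ p) f₁ f₂ hf₁ rfl (homM D f₁ f₂ hf₁) (H T f₁ f₂ hf₁)

end Groth.Agent.Calg46.WEval
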