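import Groth.Agent.Calg46.WittTrunc
import Groth.Agent.Calg46.MatDescent

/-!
# Descent data for truncated Witt vectors in matrix form: lifting invariant vectors
-/

noncomputable section

namespace Groth.Agent.Calg46

universe u

open Matrix WittGrp WittTrunc

variable (p : ℕ) [Fact p.Prime] (n : ℕ) (R R' : Type u) [CommRing R] [CommRing R'] [Algebra R R']

/-- `W_n` of an algebra map. -/
abbrev wmap {A B : Type u} [CommRing A] [CommRing B] [Algebra R A] [Algebra R B] (g : A →ₐ[R] B) :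
    TruncatedWittVector p n A →+* TruncatedWittVector p n B :=
  truncMap p n (g : A →+* B)

theorem wmap_comp {A B C : Type u} [CommRing A] [CommRing B] [CommRing C] [Algebra R A] [Algebra R B]
    [Algebra R C] (f : A →ₐ[R] B) (g : B →ₐ[R] C) (x : TruncatedWittVector p n A) :
    wmap p n R g (wmap p n R f x) = wmap p n R (g.comp f) x :=
  TruncatedWittVector.ext fun i => by simp [coeff_truncMap]

theorem wmap_id (x : TruncatedWittVector p n R') : wmap p n R (AlgHom.id R R') x = x :=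
  TruncatedWittVector.ext fun i => by simp [coeff_truncMap]

/-- A matrix descent datum over truncated Witt vectors. -/
structure WDatum (ι : Type) [Fintype ι] where
  G : ∀ {T : Type u} [CommRing T] [Algebra R T], (R' →ₐ[R] T) → (R' →ₐ[R] T) →
    Matrix ι ι (TruncatedWittVector p n T)
  natural : ∀ {T U : Type u} [CommRing T] [Algebra R T] [CommRing U] [Algebra R U] (g : T →ₐ[R] U)
    (f₁ f₂ : R' →ₐ[R] T), (G f₁ f₂).map (wmap p n R g) = G (g.comp f₁) (g.comp f₂)
  cocycle : ∀ {T : Type u} [CommRing T] [Algebra R T] (f₁ f₂ f₃ : R' →ₐ[R] T),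
    G f₁ f₂ * G f₂ f₃ = G f₁ f₃

variable {p n R R'} {ι : Type} [Fintype ι] (D : WDatum p n R R' ι)

/-- The underlying idempotent. -/
def WDatum.P : Matrix ι ι (TruncatedWittVector p n R') := D.G (AlgHom.id R R') (AlgHom.id R R')

theorem WDatum.P_mul_self : D.P * D.P = D.P := D.cocycle _ _ _

theorem WDatum.map_P {T : Type u} [CommRing T] [Algebra R T] (f : R' →ₐ[R] T) :
    D.P.map (wmap p n R f) = D.G f f := by
  rw [WDatum.P, D.natural, AlgHom.comp_id]

/-- The transposed datum. -/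
def WDatum.transpose : WDatum p n R R' ι where
  G := fun {T} _ _ f₁ f₂ => (D.G f₂ f₁)ᵀ
  natural := fun {T U} _ _ _ _ g f₁ f₂ => by rw [Matrix.transpose_map, D.natural]
  cocycle := fun {T} _ _ f₁ f₂ f₃ => by rw [← Matrix.transpose_mul, D.cocycle]

/-- The datum given by a ghost component. -/
def WDatum.ghDatum (j : Fin n) : MatDatum R R' ι where
  G := fun {T} _ _ f₁ f₂ => (D.G f₁ f₂).map (gh p j)
  natural := fun {T U} _ _ _ _ g f₁ f₂ => by
    rw [← D.natural g f₁ f₂, Matrix.map_map, Matrix.map_map]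
    exact Matrix.ext fun a b => (gh_truncMap p j (g : T →+* U) (D.G f₁ f₂ a b)).symm
  cocycle := fun {T} _ _ f₁ f₂ f₃ => by rw [← Matrix.map_mul, D.cocycle]

/-- Invariant row vectors. -/
def WDatum.Invariant (v : ι → TruncatedWittVector p n R') : Prop :=
  ∀ {T : Type u} [CommRing T] [Algebra R T] (f₁ f₂ : R' →ₐ[R] T),
    (wmap p n R f₁ ∘ v) ᵥ* D.G f₁ f₂ = wmap p n R f₂ ∘ v

/-- The defect of invariance. -/
def WDatum.defect (v : ι → TruncatedWittVector p n R') {T : Type u} [CommRing T] [Algebra R T]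
    (f₁ f₂ : R' →ₐ[R] T) : ι → TruncatedWittVector p n T :=
  (wmap p n R f₁ ∘ v) ᵥ* D.G f₁ f₂ - wmap p n R f₂ ∘ v

theorem WDatum.defect_natural (v : ι → TruncatedWittVector p n R') {T U : Type u} [CommRing T] [Algebra R T]
    [CommRing U] [Algebra R U] (g : T →ₐ[R] U) (f₁ f₂ : R' →ₐ[R] T) :
    wmap p n R g ∘ D.defect v f₁ f₂ = D.defect v (g.comp f₁) (g.comp f₂) := by
  funext i
  simp only [WDatum.defect, Pi.sub_apply, Function.comp_apply, map_sub, RingHom.map_vecMul, D.natural, wmap_comp]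
  congr 1

theorem WDatum.defect_cocycle (v : ι → TruncatedWittVector p n R') {T : Type u} [CommRing T] [Algebra R T]
    (f₁ f₂ f₃ : R' →ₐ[R] T) :
    D.defect v f₁ f₂ ᵥ* D.G f₂ f₃ + D.defect v f₂ f₃ = D.defect v f₁ f₃ := by
  simp only [WDatum.defect, sub_vecMul, vecMul_vecMul, D.cocycle]
  abel

theorem WDatum.defect_add (v w : ι → TruncatedWittVector p n R') {T : Type u} [CommRing T] [Algebra R T]
    (f₁ f₂ : R' →ₐ[R] T) : D.defect (v + w) f₁ f₂ = D.defect v f₁ f₂ + D.defect w f₁ f₂ := by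
  have h1 : wmap p n R f₁ ∘ (v + w) = wmap p n R f₁ ∘ v + wmap p n R f₁ ∘ w := funext fun i => map_add _ _ _
  have h2 : wmap p n R f₂ ∘ (v + w) = wmap p n R f₂ ∘ v + wmap p n R f₂ ∘ w := funext fun i => map_add _ _ _
  simp only [WDatum.defect, h1, h2, add_vecMul]
  abel

theorem WDatum.defect_vecMul_P (s : ι → TruncatedWittVector p n R') {T : Type u} [CommRing T] [Algebra R T]
    (f₁ f₂ : R' →ₐ[R] T) :
    D.defect (s ᵥ* D.P) f₁ f₂ = (wmap p n R f₁ ∘ s) ᵥ* D.G f₁ f₂ - (wmap p n R f₂ ∘ s) ᵥ* D.G f₂ f₂ := by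
  simp only [WDatum.defect, comp_vecMul, D.map_P, vecMul_vecMul, D.cocycle]

omit [Fintype ι] in
theorem low_vecMul {A : Type u} [CommRing A] {j : ℕ} {κ : Type} [Fintype κ]
    {w : κ → TruncatedWittVector p n A} (h : ∀ a, Low p j (w a)) (M : Matrix κ ι (TruncatedWittVector p n A))
    (i : ι) : Low p j ((w ᵥ* M) i) :=
  Low.sum p fun a _ => (h a).mul p _

omit [Fintype ι] in
theorem coeff_vecMul_of_low {A : Type u} [CommRing A] {j : Fin n} {κ : Type} [Fintype κ]
    {w : κ → TruncatedWittVector p n A} (h : ∀ a, Low p j (w a)) (M : Matrix κ ι (TruncatedWittVector p n A))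
    (i : ι) : ((w ᵥ* M) i).coeff j = ((fun a => (w a).coeff j) ᵥ* M.map (gh p j)) i := by
  rw [Matrix.vecMul, dotProduct, coeff_sum_of_low p fun a _ => (h a).mul p _]
  exact Finset.sum_congr rfl fun a _ => coeff_mul_of_low p (h a) _

/-- Successive correction of a vector. -/
theorem WDatum.exists_correction [Module.FaithfullyFlat R R'] (j : Fin n) (v : ι → TruncatedWittVector p n R')
    (hv : v ᵥ* D.P = v)
    (hlow : ∀ {T : Type u} [CommRing T] [Algebra R T] (f₁ f₂ : R' →ₐ[R] T) (a : ι), Low p j (D.defect v f₁ f₂ a)) :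
    ∃ e : ι → R', ∀ {T : Type u} [CommRing T] [Algebra R T] (f₁ f₂ : R' →ₐ[R] T) (a : ι),
      Low p (j + 1) (D.defect (v + (fun b => WittTrunc.single p j (e b)) ᵥ* D.P) f₁ f₂ a) := by
  let c : ∀ {T : Type u} [CommRing T] [Algebra R T], (R' →ₐ[R] T) → (R' →ₐ[R] T) → ι → T :=
    fun {T} _ _ f₁ f₂ a => (D.defect v f₁ f₂ a).coeff j
  obtain ⟨e, he⟩ := (D.ghDatum j).exists_coboundary c
    (fun {T U} _ _ _ _ g f₁ f₂ => funext fun a => by
      show g ((D.defect v f₁ f₂ a).coeff j) = (D.defect v (g.comp f₁) (g.comp f₂) a).coeff j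
      rw [← D.defect_natural v g f₁ f₂, Function.comp_apply, coeff_truncMap]
      rfl)
    (fun {T} _ _ f₁ f₂ f₃ => funext fun a => by
      show (c f₁ f₂ ᵥ* (D.G f₂ f₃).map (gh p j)) a + c f₂ f₃ a = c f₁ f₃ a
      have h := congrFun (D.defect_cocycle v f₁ f₂ f₃) a
      rw [Pi.add_apply] at h
      show _ = (D.defect v f₁ f₃ a).coeff j
      rw [← h, coeff_add_of_low p (low_vecMul (hlow f₁ f₂) _ a) (hlow f₂ f₃ a),
        coeff_vecMul_of_low (hlow f₁ f₂)])
  refine ⟨e, fun {T} _ _ f₁ f₂ a => ?_⟩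
  have hs : ∀ (f : R' →ₐ[R] T) (b : ι), Low p j ((wmap p n R f ∘ fun b => WittTrunc.single p j (e b)) b) := fun f b =>
    (low_single p j (e b)).truncMap p _
  have hcoef : ∀ f : R' →ₐ[R] T, (fun b => ((wmap p n R f ∘ fun b => WittTrunc.single p j (e b)) b).coeff j) = f ∘ e :=
    fun f => funext fun b => by
      simp only [Function.comp_apply, coeff_truncMap, coeff_single]
      rfl
  have hc0 : c f₂ f₂ = 0 := funext fun b => by
    show (D.defect v f₂ f₂ b).coeff j = 0
    have h : D.defect v f₂ f₂ = 0 := by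
      rw [WDatum.defect, ← D.map_P, ← comp_vecMul, hv, sub_self]
    rw [h]
    exact TruncatedWittVector.coeff_zero p n T j
  have he2 : (f₂ ∘ e) ᵥ* (D.G f₂ f₂).map (gh p j) = f₂ ∘ e := by
    have h := he f₂ f₂
    rw [hc0, add_zero] at h
    exact h
  have l1 : Low p j (D.defect v f₁ f₂ a) := hlow f₁ f₂ a
  have l2 := low_vecMul (hs f₁) (D.G f₁ f₂) a
  have l3 := low_vecMul (hs f₂) (D.G f₂ f₂) a
  rw [D.defect_add, D.defect_vecMul_P, Pi.add_apply, Pi.sub_apply]
  refine Low.succ p (l1.add p (l2.sub p l3)) ?_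
  rw [coeff_add_of_low p l1 (l2.sub p l3), coeff_sub_of_low p l2 l3, coeff_vecMul_of_low (hs f₁),
    coeff_vecMul_of_low (hs f₂), hcoef, hcoef, he2]
  have h := congrFun (he f₁ f₂) a
  rw [Pi.add_apply] at h
  rw [← h]
  show c f₁ f₂ a + _ = 0
  simp only [WDatum.ghDatum]
  ring

variable {m : ℕ} (E : WDatum p (m + 1) R R' ι)

/-- Every invariant vector of the residual datum lifts to an invariant vector. -/
theorem WDatum.exists_invariant_lift [Module.FaithfullyFlat R R'] (v₀ : ι → R')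
    (hv₀ : (E.ghDatum 0).Invariant v₀) :
    ∃ v : ι → TruncatedWittVector p (m + 1) R', E.Invariant v ∧ ∀ a, (v a).coeff 0 = v₀ a := by
  have hP : ∀ x : ι → TruncatedWittVector p (m + 1) R', (x ᵥ* E.P) ᵥ* E.P = x ᵥ* E.P := fun x => by
    rw [vecMul_vecMul, E.P_mul_self]
  suffices key : ∀ k, 1 ≤ k → k ≤ m + 1 → ∃ v : ι → TruncatedWittVector p (m + 1) R', v ᵥ* E.P = v ∧
      (∀ a, (v a).coeff 0 = v₀ a) ∧
      ∀ {T : Type u} [CommRing T] [Algebra R T] (f₁ f₂ : R' →ₐ[R] T) (a : ι), Low p k (E.defect v f₁ f₂ a) by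
    obtain ⟨v, -, h0, hl⟩ := key (m + 1) (by omega) le_rfl
    refine ⟨v, fun {T} _ _ f₁ f₂ => ?_, h0⟩
    exact sub_eq_zero.1 (funext fun a => eq_zero_of_low p (hl f₁ f₂ a))
  intro k hk hk'
  induction k, hk using Nat.le_induction with
  | base =>
    let v := (fun a => WittTrunc.single p (0 : Fin (m + 1)) (v₀ a)) ᵥ* E.P
    have h0 : ∀ a, (v a).coeff 0 = v₀ a := fun a => by
      rw [← gh_zero_apply p, RingHom.map_vecMul (gh p (0 : Fin (m + 1)))]
      have h1 : (gh p (0 : Fin (m + 1)) ∘ fun b => WittTrunc.single p (0 : Fin (m + 1)) (v₀ b)) = v₀ := funext fun b => by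
        rw [Function.comp_apply, gh_zero_apply, coeff_single]
      rw [h1]
      exact congrFun (hv₀ (AlgHom.id R R') (AlgHom.id R R')) a
    refine ⟨v, hP _, h0, fun {T} _ _ f₁ f₂ a i hi => ?_⟩
    obtain rfl : i = 0 := Fin.ext (Nat.lt_one_iff.1 hi)
    have hco : ∀ f : R' →ₐ[R] T, gh p (0 : Fin (m + 1)) ∘ (wmap p (m + 1) R f ∘ v) = f ∘ v₀ := fun f =>
      funext fun b => by
        rw [Function.comp_apply, Function.comp_apply, gh_truncMap, gh_zero_apply, h0]
        rfl
    rw [← gh_zero_apply p, WDatum.defect, Pi.sub_apply, map_sub, RingHom.map_vecMul, hco, sub_eq_zero]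
    exact (congrFun (hv₀ f₁ f₂) a).trans (congrFun (hco f₂) a).symm
  | succ k hk ih =>
    obtain ⟨v, hv, h0, hl⟩ := ih (by omega)
    let j : Fin (m + 1) := ⟨k, by omega⟩
    obtain ⟨e, he⟩ := E.exists_correction j v hv hl
    refine ⟨v + (fun b => WittTrunc.single p j (e b)) ᵥ* E.P, ?_, fun a => ?_, fun {T} _ _ f₁ f₂ a => he f₁ f₂ a⟩
    · rw [add_vecMul, hv, hP]
    · have hz : gh p (0 : Fin (m + 1)) ∘ (fun b => WittTrunc.single p j (e b)) = 0 := funext fun b => by
        rw [Function.comp_apply, gh_zero_apply, low_single p j (e b) 0 (by show 0 < k; omega)]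
        rfl
      rw [← gh_zero_apply p, Pi.add_apply, map_add, RingHom.map_vecMul, hz, zero_vecMul, Pi.zero_apply,
        add_zero, gh_zero_apply, h0]

end Groth.Agent.Calg46
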