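import Groth.Agent.Calg46.WittDatum
import Groth.Agent.Calg46.MatNil

/-!
# Effectiveness of descent of projective modules over truncated Witt vectors, in matrix form
-/

noncomputable section

namespace Groth.Agent.Calg46

universe u

open Matrix WittGrp WittTrunc

variable {p : ℕ} [Fact p.Prime] {n : ℕ} {R R' : Type u} [CommRing R] [CommRing R'] [Algebra R R']
  {ι : Type} [Fintype ι]

/-- A vector whose two pullbacks agree comes from `W_n R`. -/
theorem exists_truncMap_eq [Module.FaithfullyFlat R R'] (x : TruncatedWittVector p n R')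
    (h : ∀ (T : Type u) [CommRing T] [Algebra R T] (f₁ f₂ : R' →ₐ[R] T), wmap p n R f₁ x = wmap p n R f₂ x) :
    ∃ y, truncMap p n (algebraMap R R') y = x := by
  have h' : ∀ i, ∃ s, algebraMap R R' s = x.coeff i := fun i =>
    exists_eq_of_eqLocus fun T _ _ f₁ f₂ => by
      have := congrArg (TruncatedWittVector.coeff i) (h T f₁ f₂)
      simpa [coeff_truncMap] using this
  choose s hs using h'
  exact ⟨TruncatedWittVector.mk p s, TruncatedWittVector.ext fun i => by
    rw [coeff_truncMap, TruncatedWittVector.coeff_mk, hs]⟩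

variable {m : ℕ}

/-- Matrices with the same residual part have the same product with residual part. -/
theorem isNilpotent_entry {A : Type u} [CommRing A] (hp : IsNilpotent (p : A)) {κ μ : Type}
    {M N : Matrix κ μ (TruncatedWittVector p (m + 1) A)}
    (h : M.map (gh p (0 : Fin (m + 1))) = N.map (gh p (0 : Fin (m + 1)))) (i : κ) (j : μ) :
    IsNilpotent ((M - N) i j) := by
  apply isNilpotent_of_coeff_zero p hp
  have := congrFun (congrFun h i) j
  rw [← gh_zero_apply p, Matrix.sub_apply, map_sub]
  exact sub_eq_zero.2 this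

/-- Lifts of invariant vectors whose residual parts span. -/
theorem WDatum.exists_cover [Module.FaithfullyFlat R R'] (E : WDatum p (m + 1) R R' ι) :
    ∃ (κ : Type) (_ : Fintype κ) (V : Matrix κ ι (TruncatedWittVector p (m + 1) R')) (C : Matrix ι κ R'),
      (∀ a, E.Invariant (V a)) ∧
        C * V.map (gh p (0 : Fin (m + 1))) = E.P.map (gh p (0 : Fin (m + 1))) := by
  classical
  have hmem : ∀ a, (Pi.single a (1 : R') : ι → R') ᵥ* E.P.map (gh p (0 : Fin (m + 1))) ∈
      Submodule.span R' {w | (E.ghDatum 0).Invariant w} := fun a =>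
    (E.ghDatum 0).mem_span_invariant _
  choose N f g hfg using fun a => Submodule.mem_span_set'.1 (hmem a)
  have hlift := fun q : (Σ a, Fin (N a)) => E.exists_invariant_lift (g q.1 q.2).1 (g q.1 q.2).2
  choose V hV hV0 using hlift
  refine ⟨Σ a, Fin (N a), inferInstance, Matrix.of V,
    Matrix.of fun a q => if q.1 = a then f q.1 q.2 else 0, hV, ?_⟩
  ext a b
  rw [Matrix.mul_apply]
  have hP : E.P.map (gh p (0 : Fin (m + 1))) a b =
      ((Pi.single a (1 : R') : ι → R') ᵥ* E.P.map (gh p (0 : Fin (m + 1)))) b := by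
    rw [Matrix.single_one_vecMul]; rfl
  rw [hP, ← congrFun (hfg a) b, Finset.sum_apply, Fintype.sum_sigma, Finset.sum_eq_single a]
  · refine Finset.sum_congr rfl fun q _ => ?_
    rw [Matrix.of_apply, if_pos rfl, Matrix.map_apply, Matrix.of_apply, gh_zero_apply, hV0, Pi.smul_apply,
      smul_eq_mul]
  · intro c _ hc
    exact Finset.sum_eq_zero fun q _ => by rw [Matrix.of_apply, if_neg hc, zero_mul]
  · exact fun h => absurd (Finset.mem_univ a) h

/-- A matrix splitting of the datum over `W_n R`. -/
structure WDatum.Splitting (D : WDatum p n R R' ι) (κ : Type) [Fintype κ] where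
  e : Matrix κ κ (TruncatedWittVector p n R)
  V : Matrix κ ι (TruncatedWittVector p n R')
  Y : Matrix ι κ (TruncatedWittVector p n R')
  idem : e * e = e
  map_mul : e.map (truncMap p n (algebraMap R R')) * V = V
  mul_P : V * D.P = V
  invt : ∀ a, D.Invariant (V a)
  P_mul : D.P * Y = Y
  Y_mul_V : Y * V = D.P
  V_mul_Y : V * Y = e.map (truncMap p n (algebraMap R R'))

theorem wmap_truncMap_algebraMap {T : Type u} [CommRing T] [Algebra R T] (f : R' →ₐ[R] T)
    (x : TruncatedWittVector p n R) :
    wmap p n R f (truncMap p n (algebraMap R R') x) = truncMap p n (algebraMap R T) x :=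
  TruncatedWittVector.ext fun i => by simp [coeff_truncMap]

/-- Descent of projective modules over truncated Witt vectors. -/
theorem WDatum.exists_splitting [Module.FaithfullyFlat R R'] (hp : IsNilpotent (p : R))
    (E : WDatum p (m + 1) R R' ι) : ∃ (κ : Type) (_ : Fintype κ), Nonempty (E.Splitting κ) := by
  classical
  have hp' : IsNilpotent (p : R') := by simpa using hp.map (algebraMap R R')
  obtain ⟨κ, hκ, V, C, hV, hC⟩ := E.exists_cover
  obtain ⟨μ, hμ, U', D', hU', hD'⟩ := E.transpose.exists_cover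
  let π := gh p (A := R') (0 : Fin (m + 1))
  let ι₀ := truncMap p (m + 1) (algebraMap R R')
  have hVP : V * E.P = V := Matrix.ext fun a b => by
    have h := congrFun (hV a (AlgHom.id R R') (AlgHom.id R R')) b
    simp only [show (wmap p (m + 1) R (AlgHom.id R R') ∘ V a) = V a from funext fun i => wmap_id p (m+1) R R' _] at h
    exact h
  let U := U'ᵀ
  have hPU : E.P * U = U := Matrix.ext fun b a => by
    have h := congrFun (hU' a (AlgHom.id R R') (AlgHom.id R R')) b
    simp only [show (wmap p (m + 1) R (AlgHom.id R R') ∘ U' a) = U' a from funext fun i => wmap_id p (m+1) R R' _] at h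
    exact Eq.trans (by simp [Matrix.mul_apply, vecMul, dotProduct, U, WDatum.transpose, WDatum.P, mul_comm]) h
  have hC0 : C * V.map π = E.P.map π := hC
  have hD0 : U.map π * D'ᵀ = E.P.map π := by
    have h := congrArg Matrix.transpose hD'
    rw [Matrix.transpose_mul] at h
    exact h
  -- the product is defined over `W_n R`
  have hdesc : ∀ a c, ∃ y, ι₀ y = (V * U) a c := fun a c => exists_truncMap_eq _ fun T _ _ f₁ f₂ => by
    have h1 : wmap p (m + 1) R f₁ ((V * U) a c) =
        (wmap p (m + 1) R f₁ ∘ V a) ⬝ᵥ (E.G f₁ f₂ *ᵥ (wmap p (m + 1) R f₂ ∘ U' c)) := by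
      have h := hU' c f₂ f₁
      have h' : E.G f₁ f₂ *ᵥ (wmap p (m + 1) R f₂ ∘ U' c) = wmap p (m + 1) R f₁ ∘ U' c := by
        simp only [WDatum.transpose, Matrix.vecMul_transpose] at h
        exact h
      rw [h', Matrix.mul_apply, map_sum]
      simp [dotProduct, U]
    rw [h1, Matrix.dotProduct_mulVec, hV a f₁ f₂, Matrix.mul_apply, map_sum]
    simp [dotProduct, U]
  choose y hy using hdesc
  let A : Matrix κ μ (TruncatedWittVector p (m + 1) R) := Matrix.of y
  have hA : A.map ι₀ = V * U := Matrix.ext fun a c => hy a c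
  let π₀ := gh p (A := R) (0 : Fin (m + 1))
  have hsq : ∀ {κ' μ' : Type} (M : Matrix κ' μ' (TruncatedWittVector p (m + 1) R)),
      (M.map ι₀).map π = (M.map π₀).map (algebraMap R R') := fun M =>
    Matrix.ext fun a b => gh_truncMap p _ _ _
  -- residual regularity
  obtain ⟨X₀, hX₀⟩ := exists_regular_of_faithfullyFlat (R' := R') (A.map π₀) ⟨D'ᵀ * C, by
    rw [← hsq, hA, Matrix.map_mul,
      show V.map π * U.map π * (D'ᵀ * C) * (V.map π * U.map π) =
        V.map π * (U.map π * D'ᵀ) * (C * V.map π) * U.map π by simp only [Matrix.mul_assoc],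
      hD0, hC0, ← Matrix.map_mul, ← Matrix.map_mul, ← Matrix.map_mul, hVP, hVP, Matrix.map_mul]⟩
  let X : Matrix μ κ (TruncatedWittVector p (m + 1) R) := X₀.map fun x => WittTrunc.single p 0 x
  have hX : X.map π₀ = X₀ := Matrix.ext fun a b => by
    simp only [X, π₀, Matrix.map_apply, gh_zero_apply, coeff_single]
  obtain ⟨e, he, he0⟩ := exists_isIdempotentElem_eq_of_ker_isNilpotent (π₀.mapMatrix (m := κ))
    (fun z hz => isNilpotent_matrix fun i j => isNilpotent_of_coeff_zero p hp (by
      rw [← gh_zero_apply p]; exact congrFun (congrFun ((RingHom.mem_ker (f := (π₀.mapMatrix (m := κ)))).1 hz) i) j))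
    ((A * X).map π₀) ⟨A * X, rfl⟩ (show _ * _ = _ by
      rw [Matrix.map_mul, hX, ← Matrix.mul_assoc, hX₀])
  replace he : e * e = e := he
  replace he0 : e.map π₀ = (A * X).map π₀ := he0
  let e' := e.map ι₀
  let X' := X.map ι₀
  have he' : e' * e' = e' := by rw [← Matrix.map_mul, he]
  let V₁ := e' * V
  let Y₀ := U * X' * e'
  -- residual identities
  let v := V.map π
  let w := U.map π
  let x := X'.map π
  have hax : v * w * x * (v * w) = v * w := by
    have h := congrArg (fun M => M.map (algebraMap R R')) hX₀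
    simp only [Matrix.map_mul] at h
    rw [← hX, ← hsq, ← hsq, hA] at h
    simpa only [Matrix.map_mul] using h
  have hQ : w * x * v = E.P.map π := by
    have hP0 : E.P.map π * E.P.map π = E.P.map π := by rw [← Matrix.map_mul, E.P_mul_self]
    have hl : E.P.map π * w = w := by rw [← Matrix.map_mul, hPU]
    have hr : v * E.P.map π = v := by rw [← Matrix.map_mul, hVP]
    calc w * x * v = (E.P.map π * w) * x * (v * E.P.map π) := by rw [hl, hr]
      _ = C * (v * w * x * (v * w)) * D'ᵀ := by
        rw [← hC0]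
        conv_lhs => enter [2, 2]; rw [hC0, ← hD0]
        simp only [v, w, Matrix.mul_assoc]
      _ = C * (v * w) * D'ᵀ := by rw [hax]
      _ = (C * v) * (w * D'ᵀ) := by simp only [Matrix.mul_assoc]
      _ = E.P.map π := by rw [hC0, hD0, hP0]
  have hee : e'.map π = v * w * x := by
    rw [hsq, he0, Matrix.map_mul, Matrix.map_mul, ← hsq, ← hsq, hA, Matrix.map_mul]
  have hP0 : E.P.map π * E.P.map π = E.P.map π := by rw [← Matrix.map_mul, E.P_mul_self]
  have hee2 : v * w * x * (v * w * x) = v * w * x := by rw [← Matrix.mul_assoc, hax]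
  -- correct `Y₀`
  have hY0 : (Y₀ * V₁).map π = E.P.map π := by
    show (U * X' * e' * (e' * V)).map π = _
    rw [Matrix.mul_assoc (U * X') e', ← Matrix.mul_assoc e' e', he']
    simp only [Matrix.map_mul, hee]
    show w * x * (v * w * x * v) = _
    calc w * x * (v * w * x * v) = (w * x * v) * (w * x * v) := by simp only [Matrix.mul_assoc]
      _ = E.P.map π := by rw [hQ, hP0]
  have hPY : E.P * Y₀ = Y₀ := by
    show E.P * (U * X' * e') = U * X' * e'
    rw [← Matrix.mul_assoc, ← Matrix.mul_assoc, hPU]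
  have hVP1 : V₁ * E.P = V₁ := by show e' * V * E.P = e' * V; rw [Matrix.mul_assoc, hVP]
  have hu : IsUnit (1 - (E.P - Y₀ * V₁)) :=
    (isNilpotent_matrix fun i j => isNilpotent_entry hp' hY0.symm i j).isUnit_one_sub
  obtain ⟨u, hu⟩ := hu
  let Y := (↑u⁻¹ : Matrix ι ι (TruncatedWittVector p (m + 1) R')) * Y₀
  have huP : (u : Matrix ι ι (TruncatedWittVector p (m + 1) R')) * E.P = Y₀ * V₁ := by
    rw [hu, Matrix.sub_mul, Matrix.one_mul, Matrix.sub_mul, E.P_mul_self, Matrix.mul_assoc, hVP1]
    abel
  have hPu : E.P * (u : Matrix ι ι (TruncatedWittVector p (m + 1) R')) = Y₀ * V₁ := by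
    rw [hu, Matrix.mul_sub, Matrix.mul_one, Matrix.mul_sub, E.P_mul_self, ← Matrix.mul_assoc, hPY]
    abel
  have hYV : Y * V₁ = E.P := by
    rw [Matrix.mul_assoc, ← huP, ← Matrix.mul_assoc, Units.inv_mul, Matrix.one_mul]
  have hPY1 : E.P * Y = Y := by
    have hc : Commute E.P (u : Matrix ι ι (TruncatedWittVector p (m + 1) R')) := hPu.trans huP.symm
    show E.P * ((↑u⁻¹ : Matrix ι ι (TruncatedWittVector p (m + 1) R')) * Y₀) = _
    rw [← Matrix.mul_assoc, (hc.units_inv_right).eq, Matrix.mul_assoc, hPY]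
  have heV : e' * V₁ = V₁ := by show e' * (e' * V) = e' * V; rw [← Matrix.mul_assoc, he']
  have hYe : Y₀ * e' = Y₀ := by
    show U * X' * e' * e' = U * X' * e'
    rw [Matrix.mul_assoc (U * X'), he']
  have hVY : V₁ * Y = e' := by
    have h1 : e' * (V₁ * Y) = V₁ * Y := by rw [← Matrix.mul_assoc, heV]
    have h2 : V₁ * Y * e' = V₁ * Y := by
      show V₁ * ((↑u⁻¹ : Matrix ι ι (TruncatedWittVector p (m + 1) R')) * Y₀) * e' = _
      rw [Matrix.mul_assoc, Matrix.mul_assoc _ Y₀ e', hYe]
    have h3 : V₁ * Y * (V₁ * Y) = V₁ * Y := by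
      rw [Matrix.mul_assoc, ← Matrix.mul_assoc Y, hYV, hPY1]
    have hz : e' - V₁ * Y = 0 := by
      refine eq_zero_of_idempotent_of_nilpotent (fun i j => isNilpotent_entry hp' ?_ i j) ?_
      · have hid : (↑u⁻¹ : Matrix ι ι (TruncatedWittVector p (m + 1) R')).map π = 1 := by
          have hu1 : (u : Matrix ι ι (TruncatedWittVector p (m + 1) R')).map π = 1 := by
            rw [hu, ← RingHom.mapMatrix_apply, map_sub, map_one, map_sub]
            simp only [RingHom.mapMatrix_apply]
            rw [hY0, sub_self, sub_zero]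
          have h := congrArg π.mapMatrix u.inv_mul
          rw [map_mul, map_one, RingHom.mapMatrix_apply, RingHom.mapMatrix_apply, hu1, mul_one] at h
          exact h
        show e'.map π = (e' * V * ((↑u⁻¹ : Matrix ι ι (TruncatedWittVector p (m + 1) R')) * (U * X' * e'))).map π
        simp only [Matrix.map_mul, hid, Matrix.one_mul, hee]
        show v * w * x = v * w * x * v * (w * x * (v * w * x))
        calc v * w * x = v * w * x * (v * w * x) * (v * w * x) := by rw [hee2, hee2]
          _ = _ := by simp only [Matrix.mul_assoc]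
      · rw [Matrix.sub_mul, Matrix.mul_sub, Matrix.mul_sub, he', h1, h2, h3, sub_self, sub_zero]
    exact (sub_eq_zero.1 hz).symm
  refine ⟨κ, hκ, ⟨⟨e, V₁, Y, he, heV, hVP1, ?_, hPY1, hYV, hVY⟩⟩⟩
  intro a T _ _ f₁ f₂
  have hrow : ∀ f : R' →ₐ[R] T, wmap p (m + 1) R f ∘ V₁ a =
      (truncMap p (m + 1) (algebraMap R T) ∘ e a) ᵥ* V.map (wmap p (m + 1) R f) := fun f => funext fun i => by
    show wmap p (m + 1) R f ((e' * V) a i) = _
    rw [Matrix.mul_apply, map_sum]
    exact Finset.sum_congr rfl fun b _ => by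
      rw [map_mul]
      exact congrArg (· * _) (wmap_truncMap_algebraMap f (e a b))
  rw [hrow, hrow, vecMul_vecMul]
  congr 1
  exact Matrix.ext fun b i => congrFun (hV b f₁ f₂) i

end Groth.Agent.Calg46
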