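import Groth.Agent.Calg46.WittFrame
import Groth.Agent.Calg46.WittComm
import Groth.Agent.Calg46.DescIso

/-!
# Descent data of projective modules over truncated Witt vectors are effective
-/

universe u

set_option autoImplicit false
set_option backward.isDefEq.respectTransparency false
set_option backward.isDefEq.respectTransparency.types false

noncomputable section

open CategoryTheory Opposite TensorProduct Matrix

namespace Groth.Agent.Calg46.WEval

open W4c3truncdispsmooth

variable {π : ℕ} [Fact π.Prime] {ν : ℕ} {R R' : Type u} [CommRing R] [CommRing R'] [Algebra R R']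

/-- Splittings exist in every length. -/
theorem exists_splitting' [Module.FaithfullyFlat R R'] (hp : IsNilpotent (π : R)) {ι : Type} [Fintype ι]
    (E : WDatum π ν R R' ι) : ∃ (κ : Type) (_ : Fintype κ), Nonempty (E.Splitting κ) := by
  cases ν with
  | zero =>
    have hs : ∀ A : Type u, Subsingleton (TruncatedWittVector π 0 A) := fun A =>
      ⟨fun x y => TruncatedWittVector.ext fun i => i.elim0⟩
    exact ⟨Fin 0, inferInstance, ⟨⟨0, 0, 0, Subsingleton.elim _ _, Subsingleton.elim _ _, Subsingleton.elim _ _,
      fun a => a.elim0, Subsingleton.elim _ _, Subsingleton.elim _ _, Subsingleton.elim _ _⟩⟩⟩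
  | succ m => exact E.exists_splitting hp

variable {D : (PF (wittTrunc.{u} π ν)).DescentData (fun _ : PUnit.{u + 1} => pOf R R')} {ι : Type} [Fintype ι]
  (F : Frame D ι) {κ : Type} [Fintype κ] (S : F.toWDatum.Splitting κ)

/-- The ring downstairs. -/
abbrev WB (π : ℕ) [Fact π.Prime] (ν : ℕ) (R : Type u) [CommRing R] : CommRingCat.{u} :=
  WR (wittTrunc π ν) (op (CommRingCat.of R))

/-- Descended module. -/
def desc : ModuleCat.{u} (WB π ν R) :=
  ModuleCat.of (WB π ν R) (LinearMap.range (Matrix.vecMulLinear (R := WB π ν R) S.e))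

/-- The underlying vector of an element of the descended module. -/
def vec (x : desc F S) : κ → WB π ν R := Subtype.val x

/-- The map to the module of the datum on the descended elements. -/
def toCarrier (x : desc F S) : carrier D :=
  F.s ((wm (wittTrunc π ν) (pOf R R') ∘ vec F S x) ᵥ* S.V)

lemma toCarrier_add (x y : desc F S) : toCarrier F S (x + y) = toCarrier F S x + toCarrier F S y := by
  rw [toCarrier, toCarrier, toCarrier, ← map_add, ← Matrix.add_vecMul]
  congr 2
  exact funext fun i => map_add (wm (wittTrunc π ν) (pOf R R')) _ _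

lemma toCarrier_smul (r : WB π ν R) (x : desc F S) :
    toCarrier F S (r • x) = wm (wittTrunc π ν) (pOf R R') r • toCarrier F S x := by
  rw [toCarrier, toCarrier, ← map_smul, ← Matrix.smul_vecMul]
  congr 2
  exact funext fun i => map_mul (wm (wittTrunc π ν) (pOf R R')) _ _

lemma t_toCarrier (x : desc F S) :
    F.t (toCarrier F S x) = (wm (wittTrunc π ν) (pOf R R') ∘ vec F S x) ᵥ* S.V := by
  rw [toCarrier, F.t_s, Matrix.vecMul_vecMul]
  exact congrArg (fun M => _ ᵥ* M) S.mul_P

lemma invariant_toCarrier (x : desc F S) : F.toWDatum.Invariant (F.t (toCarrier F S x)) := by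
  intro T _ _ f₁ f₂
  rw [t_toCarrier]
  have hrow : ∀ f : R' →ₐ[R] T, wmap π ν R f ∘ ((wm (wittTrunc π ν) (pOf R R') ∘ vec F S x) ᵥ* S.V) =
      (WittGrp.truncMap π ν (algebraMap R T) ∘ vec F S x) ᵥ* S.V.map (wmap π ν R f) := fun f => by
    refine (comp_vecMul (wmap π ν R f) _ S.V).trans ?_
    exact congrArg (fun c => c ᵥ* _) (funext fun a => wmap_truncMap_algebraMap f _)
  rw [hrow, hrow, Matrix.vecMul_vecMul]
  congr 1
  exact Matrix.ext fun b i => congrFun (S.invt b f₁ f₂) i

/-- A generator of the descended module. -/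
def descGen (a : κ) : desc F S :=
  ⟨S.e a, letI := Classical.decEq κ; ⟨Pi.single a 1, Matrix.single_one_vecMul _ _⟩⟩

lemma vec_vecMul_e (x : desc F S) : vec F S x ᵥ* S.e = vec F S x := by
  obtain ⟨y, hy⟩ := Subtype.prop x
  rw [show vec F S x = y ᵥ* S.e from hy.symm]
  exact (Matrix.vecMul_vecMul _ _ _).trans (congrArg (fun M => y ᵥ* M) S.idem)

lemma vec_sum_gen (x : desc F S) : ∑ a, vec F S x a • descGen F S a = x := by
  refine Subtype.ext ?_
  conv_rhs => rw [show Subtype.val x = vec F S x from rfl, ← vec_vecMul_e F S x]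
  funext b
  refine (congrFun (AddSubmonoidClass.coe_finsetSum (fun a => vec F S x a • descGen F S a) Finset.univ) b).trans ?_
  rw [Finset.sum_apply]
  rfl

/-- The comparison map. -/
def comparison : (ES (pOf R R')).obj (desc F S) ⟶ carrier D :=
  let φ : WR (wittTrunc π ν) (op (CommRingCat.of R')) →+ desc F S →+ carrier D :=
    AddMonoidHom.mk'
      (fun y => AddMonoidHom.mk' (fun x => y • toCarrier F S x) fun x x' => by rw [toCarrier_add, smul_add])
      fun y y' => AddMonoidHom.ext fun x => add_smul y y' _
  let a : (ES (pOf R R')).obj (desc F S) →+ carrier D := liftAdd φ fun r y x => by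
    show (wm (wittTrunc π ν) (pOf R R') r * y) • toCarrier F S x = y • toCarrier F S (r • x)
    rw [toCarrier_smul, mul_comm, mul_smul]
  ModuleCat.ofHom
    { toFun := a
      map_add' := map_add a
      map_smul' := fun s z => by
        induction z using es_induction with
        | h0 => rw [smul_zero, map_zero, smul_zero]
        | h1 y x => exact mul_smul s y (toCarrier F S x)
        | h2 a' b ha hb => rw [smul_add, map_add, map_add, smul_add, ha, hb] }

lemma comparison_tm (y : WR (wittTrunc π ν) (op (CommRingCat.of R'))) (x : desc F S) :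
    comparison F S (tm (pOf R R') (desc F S) y x) = y • toCarrier F S x := rfl

lemma comparison_one (x : desc F S) : comparison F S (one (pOf R R') (desc F S) x) = toCarrier F S x :=
  (comparison_tm F S 1 x).trans (one_smul _ _)

/-- The inverse of the comparison map on elements. -/
def comparisonInv (m : carrier D) : (ES (pOf R R')).obj (desc F S) :=
  ∑ a, (F.t m ᵥ* S.Y) a • one (pOf R R') (desc F S) (descGen F S a)

lemma comparison_comparisonInv (m : carrier D) : comparison F S (comparisonInv F S m) = m := by
  have hgen : ∀ a, comparison F S (one (pOf R R') (desc F S) (descGen F S a)) = F.s (S.V a) := fun a => by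
    rw [comparison_one, toCarrier]
    exact congrArg F.s (congrFun S.map_mul a)
  rw [comparisonInv, map_sum]
  simp only [map_smul, hgen]
  rw [show ∑ a, (F.t m ᵥ* S.Y) a • F.s (S.V a) = F.s ((F.t m ᵥ* S.Y) ᵥ* S.V) by
    refine ((congrArg F.s (Matrix.vecMul_eq_sum (F.t m ᵥ* S.Y) S.V)).trans
      ((map_sum F.s _ _).trans (Finset.sum_congr rfl fun a _ => ?_))).symm
    exact map_smul F.s _ _]
  rw [Matrix.vecMul_vecMul]
  exact (congrArg (fun M => F.s (F.t m ᵥ* M)) S.Y_mul_V).trans
    ((congrArg F.s (F.t_vecMul_P m)).trans (F.st m))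

lemma comparisonInv_comparison (z : (ES (pOf R R')).obj (desc F S)) :
    comparisonInv F S (comparison F S z) = z := by
  induction z using es_induction with
  | h0 => simp [comparisonInv]
  | h1 y x =>
    have hc : ∀ a, (F.t (toCarrier F S x) ᵥ* S.Y) a = wm (wittTrunc π ν) (pOf R R') (vec F S x a) := fun a => by
      rw [t_toCarrier, Matrix.vecMul_vecMul]
      refine (congrArg (fun M => ((wm (wittTrunc π ν) (pOf R R') ∘ vec F S x) ᵥ* M) a) S.V_mul_Y).trans ?_
      refine (RingHom.map_vecMul (wm (wittTrunc π ν) (pOf R R')) S.e (vec F S x) a).symm.trans ?_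
      rw [vec_vecMul_e]
    rw [comparison_tm, comparisonInv]
    simp only [map_smul, Matrix.smul_vecMul, Pi.smul_apply, hc, smul_eq_mul, mul_smul, ← Finset.smul_sum]
    let o : desc F S →+ (ES (pOf R R')).obj (desc F S) :=
      AddMonoidHom.mk' (fun m => one (pOf R R') (desc F S) m) (one_add _ _)
    rw [show ∑ a, wm (wittTrunc π ν) (pOf R R') (vec F S x a) • one (pOf R R') (desc F S) (descGen F S a) =
        one (pOf R R') (desc F S) x by
      conv_rhs => rw [← vec_sum_gen F S x]
      show _ = o (∑ a, vec F S x a • descGen F S a)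
      rw [map_sum]
      exact Finset.sum_congr rfl fun a _ => (one_smul' (pOf R R') _ _ _).symm]
    exact (tm_eq (pOf R R') _ y x).symm
  | h2 a b ha hb =>
    simp only [comparisonInv, map_add, Matrix.add_vecMul, Pi.add_apply, add_smul, Finset.sum_add_distrib] at ha hb ⊢
    rw [ha, hb]

lemma homM_toCarrier {T : CommRingCat.{u}ᵒᵖ} (f₁ f₂ : T ⟶ op (CommRingCat.of R'))
    (e : f₁ ≫ pOf R R' = f₂ ≫ pOf R R') (x : desc F S) :
    homM D f₁ f₂ e (one f₁ _ (toCarrier F S x)) = one f₂ _ (toCarrier F S x) := by
  letI : Algebra R T.unop := (f₁.unop.hom.comp (algebraMap R R')).toAlgebra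
  let a₁ : R' →ₐ[R] T.unop := { f₁.unop.hom with commutes' := fun r => rfl }
  let a₂ : R' →ₐ[R] T.unop := { f₂.unop.hom with
    commutes' := fun r => (congrArg (fun k : T ⟶ op (CommRingCat.of R) => k.unop r) e).symm }
  exact F.hom_one_of_invariant (toCarrier F S x) (invariant_toCarrier F S x) a₁ a₂

/-- The descended module is a direct summand of a free module. -/
theorem desc_finite_projective :
    Module.Finite (WB π ν R) (desc F S) ∧ Module.Projective (WB π ν R) (desc F S) := by
  refine ⟨Module.Finite.range (Matrix.vecMulLinear (R := WB π ν R) S.e), ?_⟩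
  refine Module.Projective.of_split (M := κ → WB π ν R)
    (LinearMap.range (Matrix.vecMulLinear (R := WB π ν R) S.e)).subtype
    (Matrix.vecMulLinear (R := WB π ν R) S.e).rangeRestrict (LinearMap.ext fun x => Subtype.ext ?_)
  exact vec_vecMul_e F S x

set_option maxHeartbeats 2000000 in
-- The kernel unfolds the pseudofunctor to compare two compositions.
/-- The canonical datum of the descended module is the given datum. -/
theorem nonempty_iso :
    Nonempty (((PF (wittTrunc π ν)).toDescentData (fun _ : PUnit.{u + 1} => pOf R R')).obj (desc F S) ≅ D) := by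
  haveI : IsIso (comparison F S) := by
    rw [ConcreteCategory.isIso_iff_bijective]
    exact ⟨Function.LeftInverse.injective (comparisonInv_comparison F S),
      fun m => ⟨_, comparison_comparisonInv F S m⟩⟩
  refine nonempty_iso_of_one (pOf R R') D (desc F S) (comparison F S) fun T f₁ f₂ e x => ?_
  rw [comparison_one, homM_toCarrier]

end Groth.Agent.Calg46.WEval
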