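import Groth.Agent.Calg46.DescIso
import Mathlib.Algebra.Category.ModuleCat.ChangeOfRings
import Mathlib.Algebra.Category.ModuleCat.Pseudofunctor
import Mathlib.CategoryTheory.Sites.Descent.DescentData

/-!
# Evaluating descent data of modules over a functor of rings on elements
-/

universe u

set_option autoImplicit false
set_option backward.isDefEq.respectTransparency false
set_option backward.isDefEq.respectTransparency.types false

open CategoryTheory Opposite TensorProduct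

namespace Groth.Agent.Calg46.WEval

variable {Φ : CommRingCat.{u} ⥤ CommRingCat.{u}}

/-- Modules over the values of a functor of rings. -/
@[reducible] noncomputable def PF (Φ : CommRingCat.{u} ⥤ CommRingCat.{u}) :
    Pseudofunctor (LocallyDiscrete (CommRingCat.{u}ᵒᵖ)ᵒᵖ) Cat.{u, u + 1} :=
  ((unopUnop CommRingCat.{u}) ⋙ Φ).toPseudofunctor.comp CommRingCat.moduleCatExtendScalarsPseudofunctor.{u}

/-- The value at an affine scheme. -/
noncomputable abbrev WR (Φ : CommRingCat.{u} ⥤ CommRingCat.{u}) (X : CommRingCat.{u}ᵒᵖ) : CommRingCat.{u} :=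
  Φ.obj X.unop

/-- The value at a morphism of affine schemes. -/
noncomputable abbrev wm (Φ : CommRingCat.{u} ⥤ CommRingCat.{u}) {X Y : CommRingCat.{u}ᵒᵖ} (f : Y ⟶ X) :
    WR Φ X →+* WR Φ Y :=
  (Φ.map f.unop).hom

variable {X Y Z : CommRingCat.{u}ᵒᵖ}

/-- Extension of scalars along a morphism of affine schemes. -/
noncomputable abbrev ES (f : Y ⟶ X) : ModuleCat.{u} (WR Φ X) ⥤ ModuleCat.{u} (WR Φ Y) :=
  ((PF Φ).map f.op.toLoc).toFunctor

/-- A pure tensor. -/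
noncomputable def tm (f : Y ⟶ X) (M : ModuleCat.{u} (WR Φ X)) (y : (WR Φ Y)) (m : M) : (ES f).obj M :=
  letI := (wm Φ f).toAlgebra
  y ⊗ₜ[(WR Φ X)] m

/-- The canonical map to the extension of scalars. -/
noncomputable abbrev one (f : Y ⟶ X) (M : ModuleCat.{u} (WR Φ X)) (m : M) : (ES f).obj M := tm f M 1 m

variable (f : Y ⟶ X) (M : ModuleCat.{u} (WR Φ X))

lemma smul_tm (a y : (WR Φ Y)) (m : M) : a • tm f M y m = tm f M (a * y) m := rfl

lemma tm_eq (y : (WR Φ Y)) (m : M) : tm f M y m = y • one f M m := by rw [smul_tm, mul_one]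

lemma tm_add_right (y : (WR Φ Y)) (m m' : M) : tm f M y (m + m') = tm f M y m + tm f M y m' :=
  letI := (wm Φ f).toAlgebra
  TensorProduct.tmul_add _ _ _

lemma tm_add_left (y y' : (WR Φ Y)) (m : M) : tm f M (y + y') m = tm f M y m + tm f M y' m :=
  letI := (wm Φ f).toAlgebra
  TensorProduct.add_tmul _ _ _

lemma tm_smul (y : (WR Φ Y)) (x : (WR Φ X)) (m : M) : tm f M y (x • m) = tm f M (wm Φ f x * y) m :=
  letI := (wm Φ f).toAlgebra
  (TensorProduct.smul_tmul x y m).symm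

lemma one_add (m m' : M) : one f M (m + m') = one f M m + one f M m' := tm_add_right f M 1 m m'

lemma one_zero : one f M 0 = 0 :=
  letI := (wm Φ f).toAlgebra
  TensorProduct.tmul_zero _ _

lemma one_smul' (x : (WR Φ X)) (m : M) : one f M (x • m) = wm Φ f x • one f M m := by
  show tm f M 1 (x • m) = wm Φ f x • tm f M 1 m
  rw [tm_smul, smul_tm]

variable {f M}

/-- Induction on an extension of scalars. -/
lemma es_induction {P : (ES f).obj M → Prop} (h0 : P 0) (h1 : ∀ y m, P (tm f M y m))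
    (h2 : ∀ a b, P a → P b → P (a + b)) (z : (ES f).obj M) : P z :=
  letI := (wm Φ f).toAlgebra
  TensorProduct.induction_on z h0 h1 h2

/-- An additive map out of an extension of scalars. -/
noncomputable def liftAdd {V : Type u} [AddCommGroup V] (φ : (WR Φ Y) →+ M →+ V)
    (h : ∀ (x : (WR Φ X)) (y : (WR Φ Y)) (m : M), φ (wm Φ f x * y) m = φ y (x • m)) : (ES f).obj M →+ V :=
  letI := (wm Φ f).toAlgebra
  TensorProduct.liftAddHom φ h

lemma liftAdd_tm {V : Type u} [AddCommGroup V] (φ : (WR Φ Y) →+ M →+ V)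
    (h : ∀ (x : (WR Φ X)) (y : (WR Φ Y)) (m : M), φ (wm Φ f x * y) m = φ y (x • m)) (y : (WR Φ Y)) (m : M) :
    liftAdd φ h (tm f M y m) = φ y m := rfl

lemma es_hom_ext {V : ModuleCat.{u} (WR Φ Y)} {a b : (ES f).obj M ⟶ V}
    (h : ∀ m, a (one f M m) = b (one f M m)) : a = b :=
  ModuleCat.ExtendScalars.hom_ext h

lemma es_map_tm {M' : ModuleCat.{u} (WR Φ X)} (a : M ⟶ M') (y : (WR Φ Y)) (m : M) :
    (ES f).map a (tm f M y m) = tm f M' y (a m) := rfl

theorem eqToHom_one {A B : CommRingCat.{u}} {φ χ : A →+* B} (h : φ = χ) (N : ModuleCat.{u} A)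
    (heq : (ModuleCat.extendScalars φ).obj N = (ModuleCat.extendScalars χ).obj N) (n : N) :
    eqToHom heq (letI := φ.toAlgebra; ((1 : B) ⊗ₜ[A] n : (ModuleCat.extendScalars φ).obj N)) =
      (letI := χ.toAlgebra; ((1 : B) ⊗ₜ[A] n : (ModuleCat.extendScalars χ).obj N)) := by
  subst h
  rfl

lemma catComp {W : CommRingCat.{u}ᵒᵖ} {A B C : ModuleCat.{u} (WR Φ W)} (a : A ⟶ B) (b : B ⟶ C) :
    (CategoryStruct.comp (obj := ↑((PF Φ).obj ⟨op W⟩)) (X := A) (Y := B) (Z := C) a b : A ⟶ C) = a ≫ b := rfl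

section Comp

variable {g : Z ⟶ Y} {h : Z ⟶ X} (e : g ≫ f = h)

variable (f g M) in
/-- The composition isomorphism. -/
noncomputable irreducible_def compHom : (ES h).obj M ⟶ (ES g).obj ((ES f).obj M) :=
  compApp (F := PF Φ) f g h e M

variable (f g M) in
/-- The inverse of the composition isomorphism. -/
noncomputable irreducible_def compInv : (ES g).obj ((ES f).obj M) ⟶ (ES h).obj M :=
  compAppInv (F := PF Φ) f g h e M

lemma compHom_inv : compHom f M g e ≫ compInv f M g e = 𝟙 _ := by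
  rw [compHom_def, compInv_def]
  exact (catComp _ _).symm.trans (compApp_inv (F := PF Φ) f g h e M)

lemma compInv_hom : compInv f M g e ≫ compHom f M g e = 𝟙 _ := by
  rw [compHom_def, compInv_def]
  exact (catComp _ _).symm.trans (compAppInv_comp (F := PF Φ) f g h e M)

lemma compHom_one (m : M) : compHom f M g e (one h M m) = one g _ (one f M m) := by
  subst e
  have hc : wm Φ (g ≫ f) = (wm Φ g).comp (wm Φ f) := by
    show (Φ.map (g ≫ f).unop).hom = _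
    rw [unop_comp, Φ.map_comp]
    rfl
  simp [compHom_def, compApp, Pseudofunctor.mapComp', Functor.toPseudofunctor, pseudofunctorOfIsLocallyDiscrete,
    CommRingCat.moduleCatExtendScalarsPseudofunctor, Quiver.Hom.toLoc, eqToIso.hom, PrelaxFunctor.map₂_eqToHom]
  have heq : (ModuleCat.extendScalars (wm Φ (g ≫ f))).obj M =
      (ModuleCat.extendScalars ((wm Φ g).comp (wm Φ f))).obj M := by rw [hc]
  refine (congrArg _ (eqToHom_one hc M heq m)).trans ?_
  exact ModuleCat.extendScalarsComp_hom_app_one_tmul (wm Φ f) (wm Φ g) M m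

lemma compInv_one (m : M) : compInv f M g e (one g _ (one f M m)) = one h M m := by
  rw [← compHom_one e]
  exact ConcreteCategory.congr_hom (compHom_inv e) (one h M m)

end Comp

variable (f M) in
/-- Change of rings for elements. -/
noncomputable def bmap (g : Z ⟶ Y) {h : Z ⟶ X} (e : g ≫ f = h) (z : (ES f).obj M) : (ES h).obj M :=
  compInv f M g e (one g _ z)

section

variable {g : Z ⟶ Y} {h : Z ⟶ X} (e : g ≫ f = h)

lemma bmap_add (z w : (ES f).obj M) : bmap f M g e (z + w) = bmap f M g e z + bmap f M g e w := by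
  unfold bmap
  exact (congrArg _ (one_add g _ z w)).trans (map_add _ _ _)

lemma bmap_zero : bmap f M g e 0 = 0 := by rw [bmap, one_zero, map_zero]

lemma bmap_smul (y : (WR Φ Y)) (z : (ES f).obj M) : bmap f M g e (y • z) = wm Φ g y • bmap f M g e z := by
  unfold bmap
  exact (congrArg _ (one_smul' g _ y z)).trans (map_smul (compInv f M g e).hom _ _)

lemma bmap_one (m : M) : bmap f M g e (one f M m) = one h M m := compInv_one e m

lemma bmap_tm (y : (WR Φ Y)) (m : M) : bmap f M g e (tm f M y m) = wm Φ g y • one h M m := by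
  rw [tm_eq, bmap_smul, bmap_one]

end

/-- `pullHom` as a map between extensions of scalars. -/
noncomputable def pullES {W W' : CommRingCat.{u}ᵒᵖ} {M₁ M₂ : ModuleCat.{u} (WR Φ Y)} (g : W' ⟶ W) (f₁ f₂ : W ⟶ Y)
    (gf₁ gf₂ : W' ⟶ Y) (h₁ : g ≫ f₁ = gf₁) (h₂ : g ≫ f₂ = gf₂) (φ : (ES f₁).obj M₁ ⟶ (ES f₂).obj M₂) :
    (ES gf₁).obj M₁ ⟶ (ES gf₂).obj M₂ :=
  Pseudofunctor.LocallyDiscreteOpToCat.pullHom (F := PF Φ) φ g gf₁ gf₂ h₁ h₂

set_option maxHeartbeats 1000000 in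
-- The kernel unfolds the pseudofunctor to compare the two compositions.
lemma pullES_eq {W W' : CommRingCat.{u}ᵒᵖ} {M₁ M₂ : ModuleCat.{u} (WR Φ Y)} (g : W' ⟶ W) (f₁ f₂ : W ⟶ Y)
    (gf₁ gf₂ : W' ⟶ Y) (h₁ : g ≫ f₁ = gf₁) (h₂ : g ≫ f₂ = gf₂) (φ : (ES f₁).obj M₁ ⟶ (ES f₂).obj M₂) :
    pullES g f₁ f₂ gf₁ gf₂ h₁ h₂ φ = compHom f₁ M₁ g h₁ ≫ (ES g).map φ ≫ compInv f₂ M₂ g h₂ := by
  rw [compHom_def, compInv_def]
  exact (pullHom_eq_compApp (F := PF Φ) g f₁ f₂ gf₁ gf₂ h₁ h₂ φ).trans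
    ((catComp _ _).trans (congrArg _ (catComp _ _)))

lemma pullHom_one {W W' : CommRingCat.{u}ᵒᵖ} {M₁ M₂ : ModuleCat.{u} (WR Φ Y)} (g : W' ⟶ W) (f₁ f₂ : W ⟶ Y)
    (gf₁ gf₂ : W' ⟶ Y) (h₁ : g ≫ f₁ = gf₁) (h₂ : g ≫ f₂ = gf₂) (φ : (ES f₁).obj M₁ ⟶ (ES f₂).obj M₂) (n : M₁) :
    pullES g f₁ f₂ gf₁ gf₂ h₁ h₂ φ (one gf₁ _ n) =
      bmap f₂ _ g h₂ (φ (one f₁ _ n)) := by
  unfold bmap
  rw [pullES_eq, CategoryTheory.comp_apply, CategoryTheory.comp_apply, compHom_one h₁]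
  exact congrArg (compInv f₂ M₂ g h₂) (es_map_tm φ 1 _)

section Datum

variable {p : Y ⟶ X} (D : (PF Φ).DescentData (fun _ : PUnit.{u + 1} => p))

/-- The module of a descent datum. -/
noncomputable abbrev carrier : ModuleCat.{u} (WR Φ Y) := D.obj PUnit.unit

variable {T T' : CommRingCat.{u}ᵒᵖ}

/-- The gluing morphism of a descent datum. -/
noncomputable def homM (f₁ f₂ : T ⟶ Y) (e : f₁ ≫ p = f₂ ≫ p) :
    (ES f₁).obj (carrier D) ⟶ (ES f₂).obj (carrier D) :=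
  D.hom (i₁ := PUnit.unit) (i₂ := PUnit.unit) (f₂ ≫ p) f₁ f₂ e rfl

lemma homM_self (f₁ : T ⟶ Y) : homM D f₁ f₁ rfl = 𝟙 _ :=
  D.hom_self (i := PUnit.unit) (f₁ ≫ p) f₁ rfl

lemma homM_comp (f₁ f₂ f₃ : T ⟶ Y) (e : f₁ ≫ p = f₂ ≫ p) (e' : f₂ ≫ p = f₃ ≫ p) :
    homM D f₁ f₂ e ≫ homM D f₂ f₃ e' = homM D f₁ f₃ (e.trans e') := by
  have h : homM D f₁ f₂ e = D.hom (i₁ := PUnit.unit) (i₂ := PUnit.unit) (f₃ ≫ p) f₁ f₂ (e.trans e') e' := by
    simp only [homM, e']
  rw [h]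
  exact D.hom_comp (f₃ ≫ p) f₁ f₂ f₃ _ _ _

set_option maxHeartbeats 1000000 in
-- The kernel unfolds the pseudofunctor to compare the two compositions.
lemma homM_bmap (g : T' ⟶ T) (f₁ f₂ : T ⟶ Y) (e : f₁ ≫ p = f₂ ≫ p) (gf₁ gf₂ : T' ⟶ Y)
    (h₁ : g ≫ f₁ = gf₁) (h₂ : g ≫ f₂ = gf₂) (e' : gf₁ ≫ p = gf₂ ≫ p) (n : carrier D) :
    homM D gf₁ gf₂ e' (one gf₁ _ n) = bmap f₂ _ g h₂ (homM D f₁ f₂ e (one f₁ _ n)) := by
  have : pullES g f₁ f₂ gf₁ gf₂ h₁ h₂ (homM D f₁ f₂ e) = homM D gf₁ gf₂ e' :=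
    D.pullHom_hom (i₁ := PUnit.unit) (i₂ := PUnit.unit) g (f₂ ≫ p) (gf₂ ≫ p)
      (by rw [← h₂, Category.assoc]) f₁ f₂ e rfl gf₁ gf₂ h₁ h₂
  rw [← this, pullHom_one]

end Datum

end Groth.Agent.Calg46.WEval
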