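import Groth.Agent.Calg46.WittEval
import Groth.Agent.Calg46.WittDescent
import Groth.Prelude.Def_W4c3truncdispsmoothDesc

/-!
# Matrix form of a descent datum of modules over truncated Witt vectors
-/

universe u

set_option autoImplicit false
set_option backward.isDefEq.respectTransparency false
set_option backward.isDefEq.respectTransparency.types false

noncomputable section

open CategoryTheory Opposite TensorProduct Matrix

namespace Groth.Agent.Calg46.WEval

open W4c3truncdispsmooth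

variable {π : ℕ} [Fact π.Prime] {ν : ℕ} {R R' : Type u} [CommRing R] [CommRing R'] [Algebra R R']

variable (R R') in
/-- The morphism of affine schemes of the algebra. -/
abbrev pOf : op (CommRingCat.of R') ⟶ op (CommRingCat.of R) :=
  (CommRingCat.ofHom (algebraMap R R')).op

/-- The morphism of affine schemes of an algebra map. -/
abbrev hf {A B : Type u} [CommRing A] [CommRing B] [Algebra R A] [Algebra R B] (f : A →ₐ[R] B) :
    op (CommRingCat.of B) ⟶ op (CommRingCat.of A) :=
  (CommRingCat.ofHom (f : A →+* B)).op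

lemma hf_pOf {T : Type u} [CommRing T] [Algebra R T] (f₁ f₂ : R' →ₐ[R] T) :
    hf f₁ ≫ pOf R R' = hf f₂ ≫ pOf R R' :=
  Quiver.Hom.unop_inj (CommRingCat.hom_ext (RingHom.ext fun r =>
    (f₁.commutes r).trans (f₂.commutes r).symm))

variable (D : (PF (wittTrunc.{u} π ν)).DescentData (fun _ : PUnit.{u + 1} => pOf R R'))

/-- A presentation of the module of a datum as a direct summand of a free module. -/
structure Frame (ι : Type) [Fintype ι] where
  s : (ι → WR (wittTrunc π ν) (op (CommRingCat.of R'))) →ₗ[WR (wittTrunc π ν) (op (CommRingCat.of R'))] carrier D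
  t : carrier D →ₗ[WR (wittTrunc π ν) (op (CommRingCat.of R'))] (ι → WR (wittTrunc π ν) (op (CommRingCat.of R')))
  st : ∀ m, s (t m) = m

variable {D} {ι : Type} [Fintype ι] (F : Frame D ι)

/-- The image of a basis vector. -/
def Frame.gen (a : ι) : carrier D :=
  letI := Classical.decEq ι
  F.s (Pi.single a 1)

lemma Frame.s_eq (c : ι → WR (wittTrunc π ν) (op (CommRingCat.of R'))) : F.s c = ∑ a, c a • F.gen a := by
  classical
  conv_lhs => rw [pi_eq_sum_univ' c]
  rw [map_sum]
  refine Finset.sum_congr rfl fun a _ => ?_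
  rw [map_smul]
  refine congrArg (fun w => c a • F.s w) (funext fun j => ?_)
  rw [Pi.single_apply]

lemma Frame.sum_gen (m : carrier D) : ∑ a, F.t m a • F.gen a = m := by rw [← F.s_eq, F.st]

variable {X : CommRingCat.{u}ᵒᵖ} (f : X ⟶ op (CommRingCat.of R'))

/-- Coordinates of the elements of a base change. -/
def Frame.crd : (ES f).obj (carrier D) →+ (ι → WR (wittTrunc π ν) X) :=
  liftAdd
    (AddMonoidHom.mk' (fun y => AddMonoidHom.mk' (fun m => y • (wm (wittTrunc π ν) f ∘ F.t m))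
        fun m m' => funext fun i => by
          simp only [map_add, Pi.add_apply, Pi.smul_apply, Function.comp_apply, smul_add])
      fun y y' => AddMonoidHom.ext fun m => add_smul y y' _)
    fun x y m => funext fun i => by
      show (wm (wittTrunc π ν) f x * y) * wm (wittTrunc π ν) f (F.t m i) = y * wm (wittTrunc π ν) f (F.t (x • m) i)
      rw [map_smul, Pi.smul_apply, smul_eq_mul, map_mul]
      ring

lemma Frame.crd_tm (y : WR (wittTrunc π ν) X) (m : carrier D) : F.crd f (tm f _ y m) = y • (wm (wittTrunc π ν) f ∘ F.t m) := rfl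

lemma Frame.crd_one (m : carrier D) : F.crd f (one f _ m) = wm (wittTrunc π ν) f ∘ F.t m :=
  (F.crd_tm f 1 m).trans (one_smul _ _)

lemma Frame.crd_smul (a : WR (wittTrunc π ν) X) (z : (ES f).obj (carrier D)) : F.crd f (a • z) = a • F.crd f z := by
  induction z using es_induction with
  | h0 => rw [smul_zero, map_zero, smul_zero]
  | h1 y m => rw [smul_tm, F.crd_tm, F.crd_tm, mul_smul]
  | h2 a' b ha hb => rw [smul_add, map_add, map_add, smul_add, ha, hb]

/-- Reconstruction from coordinates. -/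
lemma Frame.sum_crd (z : (ES f).obj (carrier D)) : ∑ b, F.crd f z b • one f _ (F.gen b) = z := by
  induction z using es_induction with
  | h0 => simp only [map_zero, Pi.zero_apply, zero_smul, Finset.sum_const_zero]
  | h1 y m =>
    let o : carrier D →+ (ES f).obj (carrier D) := AddMonoidHom.mk' (fun m => one f _ m) (one_add f _)
    have h : ∑ b, wm (wittTrunc π ν) f (F.t m b) • one f _ (F.gen b) = one f _ m := by
      conv_rhs => rw [← F.sum_gen m]
      show _ = o (∑ a, F.t m a • F.gen a)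
      rw [map_sum]
      exact Finset.sum_congr rfl fun b _ => (one_smul' f _ _ _).symm
    simp only [F.crd_tm, Pi.smul_apply, Function.comp_apply, smul_eq_mul, mul_smul, ← Finset.smul_sum, h]
    exact (tm_eq f _ y m).symm
  | h2 a b ha hb => simp only [map_add, Pi.add_apply, add_smul, Finset.sum_add_distrib, ha, hb]

/-- The matrix of the gluing. -/
def Frame.mat (f₁ f₂ : X ⟶ op (CommRingCat.of R')) (e : f₁ ≫ pOf R R' = f₂ ≫ pOf R R') :
    Matrix ι ι (WR (wittTrunc π ν) X) :=
  Matrix.of fun a => F.crd f₂ (homM D f₁ f₂ e (one f₁ _ (F.gen a)))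

lemma Frame.crd_hom (f₁ f₂ : X ⟶ op (CommRingCat.of R')) (e : f₁ ≫ pOf R R' = f₂ ≫ pOf R R')
    (z : (ES f₁).obj (carrier D)) :
    F.crd f₂ (homM D f₁ f₂ e z) = F.crd f₁ z ᵥ* F.mat f₁ f₂ e := by
  conv_lhs => rw [← F.sum_crd f₁ z]
  funext i
  simp only [map_sum, map_smul, F.crd_smul, Finset.sum_apply, Pi.smul_apply, smul_eq_mul]
  rfl

lemma Frame.mat_natural {Y : CommRingCat.{u}ᵒᵖ} (g : Y ⟶ X) (f₁ f₂ : X ⟶ op (CommRingCat.of R'))
    (e : f₁ ≫ pOf R R' = f₂ ≫ pOf R R') (gf₁ gf₂ : Y ⟶ op (CommRingCat.of R')) (h₁ : g ≫ f₁ = gf₁)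
    (h₂ : g ≫ f₂ = gf₂) (e' : gf₁ ≫ pOf R R' = gf₂ ≫ pOf R R') :
    (F.mat f₁ f₂ e).map (wm (wittTrunc π ν) g) = F.mat gf₁ gf₂ e' := by
  have key : ∀ z, F.crd gf₂ (bmap f₂ _ g h₂ z) = wm (wittTrunc π ν) g ∘ F.crd f₂ z := by
    intro z
    induction z using es_induction with
    | h0 => rw [bmap_zero, map_zero, map_zero]; exact funext fun i => (map_zero (wm (wittTrunc π ν) g)).symm
    | h1 y m =>
      rw [bmap_tm, F.crd_smul, F.crd_one, F.crd_tm]
      funext i
      simp only [Pi.smul_apply, Function.comp_apply, smul_eq_mul, map_mul]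
      congr 1
      rw [← h₂]
      exact RingHom.congr_fun (congrArg CommRingCat.Hom.hom ((wittTrunc π ν).map_comp f₂.unop g.unop)) _
    | h2 a b ha hb =>
      rw [bmap_add, map_add, map_add, ha, hb]
      exact funext fun i => (map_add (wm (wittTrunc π ν) g) _ _).symm
  refine Matrix.ext fun a b => ?_
  show _ = F.crd gf₂ (homM D gf₁ gf₂ e' (one gf₁ _ (F.gen a))) b
  rw [homM_bmap D g f₁ f₂ e gf₁ gf₂ h₁ h₂, key]
  rfl

/-- The datum in matrix form. -/
def Frame.toWDatum : WDatum π ν R R' ι where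
  G := fun {T} _ _ f₁ f₂ => F.mat (hf f₁) (hf f₂) (hf_pOf f₁ f₂)
  natural := fun {T U} _ _ _ _ g f₁ f₂ =>
    F.mat_natural (hf g) (hf f₁) (hf f₂) _ (hf (g.comp f₁)) (hf (g.comp f₂)) rfl rfl _
  cocycle := fun {T} _ _ f₁ f₂ f₃ => by
    refine Matrix.ext fun a b => ?_
    show (F.mat (hf f₁) (hf f₂) (hf_pOf f₁ f₂) * F.mat (hf f₂) (hf f₃) (hf_pOf f₂ f₃)) a b =
      F.crd (hf f₃) (homM D (hf f₁) (hf f₃) (hf_pOf f₁ f₃) (one (hf f₁) _ (F.gen a))) b
    rw [← homM_comp D (hf f₁) (hf f₂) (hf f₃) (hf_pOf f₁ f₂) (hf_pOf f₂ f₃), CategoryTheory.comp_apply, F.crd_hom]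
    rfl

lemma Frame.crd_hom_one {T : Type u} [CommRing T] [Algebra R T] (f₁ f₂ : R' →ₐ[R] T) (m : carrier D) :
    F.crd (hf f₂) (homM D (hf f₁) (hf f₂) (hf_pOf f₁ f₂) (one (hf f₁) _ m)) =
      (wmap π ν R f₁ ∘ F.t m) ᵥ* F.toWDatum.G f₁ f₂ := by
  rw [F.crd_hom, F.crd_one]
  rfl

lemma Frame.P_row (a b : ι) : F.toWDatum.P a b = F.t (F.gen a) b := by
  show F.crd (hf (AlgHom.id R R')) (homM D (hf (AlgHom.id R R')) (hf (AlgHom.id R R')) _ _) b = _
  rw [homM_self]
  show F.crd (hf (AlgHom.id R R')) (one _ _ (F.gen a)) b = _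
  rw [F.crd_one]
  exact wmap_id π ν R R' _

lemma Frame.t_s (c : ι → WR (wittTrunc π ν) (op (CommRingCat.of R'))) : F.t (F.s c) = c ᵥ* F.toWDatum.P := by
  funext b
  rw [F.s_eq, map_sum, Finset.sum_apply]
  exact Finset.sum_congr rfl fun a _ => by
    rw [map_smul, Pi.smul_apply, smul_eq_mul]
    exact congrArg (c a * ·) (F.P_row a b).symm

lemma Frame.t_vecMul_P (m : carrier D) : F.t m ᵥ* F.toWDatum.P = F.t m := by rw [← F.t_s, F.st]

/-- Invariant coordinates give elements fixed by the gluing. -/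
lemma Frame.hom_one_of_invariant (m : carrier D) (hm : F.toWDatum.Invariant (F.t m)) {T : Type u} [CommRing T]
    [Algebra R T] (f₁ f₂ : R' →ₐ[R] T) :
    homM D (hf f₁) (hf f₂) (hf_pOf f₁ f₂) (one (hf f₁) _ m) = one (hf f₂) _ m := by
  rw [← F.sum_crd (hf f₂) (homM D _ _ _ _), ← F.sum_crd (hf f₂) (one (hf f₂) _ m)]
  refine Finset.sum_congr rfl fun b _ => ?_
  rw [F.crd_hom_one, hm f₁ f₂, F.crd_one]
  rfl

end Groth.Agent.Calg46.WEval
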