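import Groth.Agent.Calg46.WittFrame
import Groth.Agent.Calg46.WittComm
import Groth.Agent.S16225

/-!
# Full faithfulness of descent for flat modules over truncated Witt vectors
-/

universe u

set_option autoImplicit false
set_option backward.isDefEq.respectTransparency false
set_option backward.isDefEq.respectTransparency.types false

noncomputable section

open CategoryTheory Opposite TensorProduct

namespace Groth.Agent.Calg46.WEval

open W4c3truncdispsmooth

section Generic

variable {Φ : CommRingCat.{u} ⥤ CommRingCat.{u}} {X Y T : CommRingCat.{u}ᵒᵖ} (p : Y ⟶ X)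

/-- A morphism of canonical data commutes with the two changes of rings. -/
theorem bmap_hom_eq {M N : ModuleCat.{u} (WR Φ X)}
    (ψ : ((PF Φ).toDescentData (fun _ : PUnit.{u + 1} => p)).obj M ⟶
      ((PF Φ).toDescentData (fun _ : PUnit.{u + 1} => p)).obj N)
    (f₁ f₂ : T ⟶ Y) (e : f₁ ≫ p = f₂ ≫ p) (a : (ES p).obj M ⟶ (ES p).obj N) (ha : a = ψ.hom PUnit.unit) (m : M) :
    bmap p N f₁ (h := f₂ ≫ p) e (a (one p M m)) = bmap p N f₂ (h := f₂ ≫ p) rfl (a (one p M m)) := by
  have h0 := comm_canonical ψ (f₂ ≫ p) (i₁ := PUnit.unit) (i₂ := PUnit.unit) f₁ f₂ e rfl a a ha ha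
  have h : compHom p M f₁ (h := f₂ ≫ p) e ≫ (ES f₁).map a ≫ compInv p N f₁ (h := f₂ ≫ p) e =
      compHom p M f₂ (h := f₂ ≫ p) rfl ≫ (ES f₂).map a ≫ compInv p N f₂ (h := f₂ ≫ p) rfl := by
    rw [compHom_def, compHom_def, compInv_def, compInv_def]
    exact ((catComp _ _).trans (congrArg _ (catComp _ _))).symm.trans
      (h0.trans ((catComp _ _).trans (congrArg _ (catComp _ _))))
  have h' := ConcreteCategory.congr_hom h (one (f₂ ≫ p) M m)
  rw [CategoryTheory.comp_apply, CategoryTheory.comp_apply, CategoryTheory.comp_apply, CategoryTheory.comp_apply,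
    compHom_one e, compHom_one rfl, es_map_tm, es_map_tm] at h'
  exact h'

/-- A morphism of canonical data is determined on the elements `1 ⊗ m`. -/
theorem map_eq_of_one {M N : ModuleCat.{u} (WR Φ X)} (φ : M ⟶ N)
    (ψ : ((PF Φ).toDescentData (fun _ : PUnit.{u + 1} => p)).obj M ⟶
      ((PF Φ).toDescentData (fun _ : PUnit.{u + 1} => p)).obj N)
    (a : (ES p).obj M ⟶ (ES p).obj N) (ha : a = ψ.hom PUnit.unit)
    (h : ∀ m, one p N (φ m) = a (one p M m)) :
    ((PF Φ).toDescentData (fun _ : PUnit.{u + 1} => p)).map φ = ψ := by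
  subst ha
  refine Pseudofunctor.DescentData.Hom.ext (funext fun _ => ?_)
  show (ES p).map φ = _
  exact es_hom_ext fun m => (es_map_tm φ 1 m).trans (h m)

/-- The map attached to a morphism on the elements `1 ⊗ m`. -/
theorem map_one_apply {M N : ModuleCat.{u} (WR Φ X)} (φ φ' : M ⟶ N)
    (h : ((PF Φ).toDescentData (fun _ : PUnit.{u + 1} => p)).map φ =
      ((PF Φ).toDescentData (fun _ : PUnit.{u + 1} => p)).map φ') (m : M) :
    one p N (φ m) = one p N (φ' m) := by
  have h1 : (ES p).map φ = (ES p).map φ' := congrArg (fun k => k.hom PUnit.unit) h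
  exact (es_map_tm φ 1 m).symm.trans ((ConcreteCategory.congr_hom h1 (one p M m)).trans (es_map_tm φ' 1 m))

end Generic

variable {π : ℕ} [Fact π.Prime] {ν : ℕ} {R R' : Type u} [CommRing R] [CommRing R'] [Algebra R R']

variable (π ν R) in
/-- `W_n A` over `W_n R`. -/
abbrev wAlg (A : Type u) [CommRing A] [Algebra R A] :
    Algebra (TruncatedWittVector π ν R) (TruncatedWittVector π ν A) :=
  (WittGrp.truncMap π ν (algebraMap R A)).toAlgebra

variable (R') in
/-- `W_n` of an inclusion. -/
def wInc (g : R' →ₐ[R] R' ⊗[R] R') :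
    letI := wAlg π ν R R'; letI := wAlg π ν R (R' ⊗[R] R')
    TruncatedWittVector π ν R' →ₐ[TruncatedWittVector π ν R] TruncatedWittVector π ν (R' ⊗[R] R') :=
  letI := wAlg π ν R R'; letI := wAlg π ν R (R' ⊗[R] R')
  { (WittGrp.truncMap π ν (g : R' →+* R' ⊗[R] R')) with commutes' := fun r => wmap_truncMap_algebraMap g r }

variable (N : ModuleCat.{u} (WR (wittTrunc π ν) (op (CommRingCat.of R))))

/-- The base change as a tensor product. -/
def toTensor : letI := wAlg π ν R R'
    (ES (pOf R R')).obj N →+ (N : Type u) ⊗[TruncatedWittVector π ν R] TruncatedWittVector π ν R' :=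
  letI := wAlg π ν R R'
  liftAdd
    (AddMonoidHom.mk' (fun y => AddMonoidHom.mk' (fun n => n ⊗ₜ[TruncatedWittVector π ν R] (y : TruncatedWittVector π ν R'))
        fun n n' => TensorProduct.add_tmul n n' _)
      fun y y' => AddMonoidHom.ext fun n => TensorProduct.tmul_add n _ _)
    fun r y n => (TensorProduct.smul_tmul (R := TruncatedWittVector π ν R)
        (R' := TruncatedWittVector π ν R) (M := (N : Type u)) (N := TruncatedWittVector π ν R') (r : TruncatedWittVector π ν R) (n : (N : Type u))
      (y : TruncatedWittVector π ν R')).symm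

/-- The further base change as a tensor product. -/
def toTensor₂ : letI := wAlg π ν R (R' ⊗[R] R')
    (ES (hf (Algebra.TensorProduct.includeRight : R' →ₐ[R] R' ⊗[R] R') ≫ pOf R R')).obj N →+
      (N : Type u) ⊗[TruncatedWittVector π ν R] TruncatedWittVector π ν (R' ⊗[R] R') :=
  letI := wAlg π ν R (R' ⊗[R] R')
  liftAdd
    (AddMonoidHom.mk' (fun y => AddMonoidHom.mk'
        (fun n => n ⊗ₜ[TruncatedWittVector π ν R] (y : TruncatedWittVector π ν (R' ⊗[R] R')))
        fun n n' => TensorProduct.add_tmul n n' _)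
      fun y y' => AddMonoidHom.ext fun n => TensorProduct.tmul_add n _ _)
    fun r y n => by
      refine Eq.trans ?_ (TensorProduct.smul_tmul (R := TruncatedWittVector π ν R)
        (R' := TruncatedWittVector π ν R) (M := (N : Type u)) (N := TruncatedWittVector π ν (R' ⊗[R] R')) (r : TruncatedWittVector π ν R) (n : (N : Type u))
        (y : TruncatedWittVector π ν (R' ⊗[R] R'))).symm
      show n ⊗ₜ[TruncatedWittVector π ν R] _ = n ⊗ₜ[TruncatedWittVector π ν R] _
      refine congrArg (fun z : TruncatedWittVector π ν (R' ⊗[R] R') => n ⊗ₜ[TruncatedWittVector π ν R] z) ?_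
      show _ = @HMul.hMul (TruncatedWittVector π ν (R' ⊗[R] R')) (TruncatedWittVector π ν (R' ⊗[R] R'))
        (TruncatedWittVector π ν (R' ⊗[R] R')) _ (WittGrp.truncMap π ν (algebraMap R (R' ⊗[R] R')) r) y
      refine congrArg (fun z => @HMul.hMul (TruncatedWittVector π ν (R' ⊗[R] R')) (TruncatedWittVector π ν (R' ⊗[R] R'))
        (TruncatedWittVector π ν (R' ⊗[R] R')) _ z y) ?_
      exact TruncatedWittVector.ext fun i => by
        refine (WittGrp.coeff_truncMap π ν _ r i).trans (Eq.trans ?_ (WittGrp.coeff_truncMap π ν _ r i).symm)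
        exact (Algebra.TensorProduct.includeRight : R' →ₐ[R] R' ⊗[R] R').commutes (TruncatedWittVector.coeff i r)

/-- The inverse of `toTensor`. -/
def ofTensor : letI := wAlg π ν R R'
    (N : Type u) ⊗[TruncatedWittVector π ν R] TruncatedWittVector π ν R' →+ (ES (pOf R R')).obj N :=
  letI := wAlg π ν R R'
  TensorProduct.liftAddHom
    (AddMonoidHom.mk' (fun n => AddMonoidHom.mk' (fun y => tm (pOf R R') N y n)
        fun y y' => tm_add_left (pOf R R') N y y' n)
      fun n n' => AddMonoidHom.ext fun y => tm_add_right (pOf R R') N y n n')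
    fun r n y => tm_smul (pOf R R') N y r n

lemma ofTensor_toTensor (z : (ES (pOf R R')).obj N) : ofTensor N (toTensor N z) = z := by
  let _ := wAlg π ν R R'
  induction z using es_induction with
  | h0 => rw [map_zero, map_zero]
  | h1 y n => rfl
  | h2 a b ha hb => rw [map_add, map_add, ha, hb]

variable {N}

lemma toTensor₂_bmap (g : R' →ₐ[R] R' ⊗[R] R')
    (e : hf g ≫ pOf R R' = hf (Algebra.TensorProduct.includeRight : R' →ₐ[R] R' ⊗[R] R') ≫ pOf R R')
    (z : (ES (pOf R R')).obj N) :
    letI := wAlg π ν R R'; letI := wAlg π ν R (R' ⊗[R] R')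
    toTensor₂ N (bmap (pOf R R') N (hf g) e z) =
      LinearMap.lTensor (N : Type u) (wInc R' g).toLinearMap (toTensor N z) := by
  let _ := wAlg π ν R R'; let _ := wAlg π ν R (R' ⊗[R] R')
  induction z using es_induction with
  | h0 => simp only [bmap_zero, map_zero]
  | h1 y n =>
    rw [bmap_tm, smul_tm, mul_one]
    rfl
  | h2 a b ha hb => simp only [bmap_add, map_add, ha, hb]

variable [Module.FaithfullyFlat R R']

lemma one_injective (hp : IsNilpotent (π : R)) [Module.Flat (TruncatedWittVector π ν R) N] :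
    Function.Injective (one (pOf R R') N) := by
  let _ := wAlg π ν R R'; let _ := wAlg π ν R (R' ⊗[R] R')
  intro a b hab
  exact (Groth.Agent.S16225.result π ν R R' hp rfl rfl (wInc R' Algebra.TensorProduct.includeLeft)
    (wInc R' Algebra.TensorProduct.includeRight) rfl rfl (N : Type u)).1 (congrArg (toTensor N) hab)

lemma exists_one_eq (hp : IsNilpotent (π : R)) [Module.Flat (TruncatedWittVector π ν R) N]
    (z : (ES (pOf R R')).obj N)
    (hz : ∀ (T : CommRingCat.{u}ᵒᵖ) (f₁ f₂ : T ⟶ op (CommRingCat.of R')) (e : f₁ ≫ pOf R R' = f₂ ≫ pOf R R'),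
      bmap (pOf R R') N f₁ (h := f₂ ≫ pOf R R') e z = bmap (pOf R R') N f₂ (h := f₂ ≫ pOf R R') rfl z) :
    ∃ n, one (pOf R R') N n = z := by
  let _ := wAlg π ν R R'; let _ := wAlg π ν R (R' ⊗[R] R')
  have e0 : hf (Algebra.TensorProduct.includeLeft : R' →ₐ[R] R' ⊗[R] R') ≫ pOf R R' =
      hf (Algebra.TensorProduct.includeRight : R' →ₐ[R] R' ⊗[R] R') ≫ pOf R R' := hf_pOf _ _
  have h : LinearMap.lTensor (N : Type u) (wInc R' Algebra.TensorProduct.includeLeft).toLinearMap (toTensor N z) =
      LinearMap.lTensor (N : Type u) (wInc R' Algebra.TensorProduct.includeRight).toLinearMap (toTensor N z) :=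
    ((toTensor₂_bmap _ e0 z).symm.trans (congrArg (toTensor₂ N) (hz _ _ _ e0))).trans (toTensor₂_bmap _ rfl z)
  obtain ⟨n, hn⟩ := (Groth.Agent.S16225.result π ν R R' hp rfl rfl (wInc R' Algebra.TensorProduct.includeLeft)
    (wInc R' Algebra.TensorProduct.includeRight) rfl rfl (N : Type u)).2 _ h
  exact ⟨n, (congrArg (ofTensor N) hn).trans (ofTensor_toTensor N z)⟩

/-- Descent is fully faithful on flat modules. -/
theorem bijective_map (hp : IsNilpotent (π : R)) (M N : ModuleCat.{u} (WR (wittTrunc π ν) (op (CommRingCat.of R))))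
    [Module.Flat (TruncatedWittVector π ν R) N] :
    Function.Bijective (fun φ : M ⟶ N =>
      ((PF (wittTrunc π ν)).toDescentData (fun _ : PUnit.{u + 1} => pOf R R')).map φ) := by
  have hinj : Function.Injective (one (pOf R R') N) := one_injective hp
  refine ⟨fun φ φ' h => ModuleCat.hom_ext (LinearMap.ext fun m => hinj (map_one_apply (pOf R R') φ φ' h m)),
    fun ψ => ?_⟩
  let a : (ES (pOf R R')).obj M ⟶ (ES (pOf R R')).obj N := ψ.hom PUnit.unit
  have hex : ∀ m, ∃ n, one (pOf R R') N n = a (one (pOf R R') M m) := fun m =>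
    exists_one_eq hp _ fun T f₁ f₂ e => bmap_hom_eq (pOf R R') ψ f₁ f₂ e a rfl m
  choose f hf using hex
  let φ : M ⟶ N := ModuleCat.ofHom
    { toFun := f
      map_add' := fun x y => hinj (by rw [one_add, hf, hf, hf, one_add, map_add])
      map_smul' := fun r x => hinj (by
        show one (pOf R R') N (f (r • x)) = one (pOf R R') N (r • f x)
        rw [one_smul', hf, hf, one_smul', map_smul]) }
  exact ⟨φ, map_eq_of_one (pOf R R') φ ψ a rfl hf⟩

/-- Full faithfulness, for a pseudofunctor and a morphism that are equal to the standard ones. -/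
theorem bijective_map' (hp : IsNilpotent (π : R))
    (G : Pseudofunctor (LocallyDiscrete (CommRingCat.{u}ᵒᵖ)ᵒᵖ) Cat.{u, u + 1}) (hG : G = PF (wittTrunc π ν))
    (f : PUnit.{u + 1} → (op (CommRingCat.of R') ⟶ op (CommRingCat.of R))) (hf : f = fun _ => pOf R R')
    (M N : G.obj (.mk (op (op (CommRingCat.of R)))))
    (hN : ∀ M' : ModuleCat.{u} (WR (wittTrunc π ν) (op (CommRingCat.of R))), HEq M' N →
      Module.Flat (TruncatedWittVector π ν R) M') :
    Function.Bijective (fun φ : M ⟶ N => (G.toDescentData f).map φ) := by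
  subst hG hf
  have := hN N HEq.rfl
  exact bijective_map hp M N

end Groth.Agent.Calg46.WEval
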