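import Mathlib
import Groth.Prelude.Def_WittGrp

/-!
# The V-filtration and ghost maps of truncated Witt vectors
-/

noncomputable section

namespace Groth.Agent.Calg46.WittTrunc

universe u

variable (p : ℕ) [Fact p.Prime] {A B : Type u} [CommRing A] [CommRing B]

theorem ghostComponent_zero_apply (x : WittVector p A) : WittVector.ghostComponent 0 x = x.coeff 0 := by
  simp [WittVector.ghostComponent_apply, wittPolynomial_zero]

theorem iterate_frobenius_coeff_zero (x : WittVector p A) (j : ℕ) :
    ((WittVector.frobenius (p := p) (R := A))^[j] x).coeff 0 = WittVector.ghostComponent j x := by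
  have : ∀ k, WittVector.ghostComponent k ((WittVector.frobenius (p := p) (R := A))^[j] x) =
      WittVector.ghostComponent (k + j) x := by
    induction j generalizing x with
    | zero => simp
    | succ j ih =>
      intro k
      rw [Function.iterate_succ_apply, ih, WittVector.ghostComponent_frobenius, Nat.add_assoc]
  rw [← ghostComponent_zero_apply, this, zero_add]

theorem mul_coeff_of_low {x : WittVector p A} {j : ℕ} (h : ∀ i < j, x.coeff i = 0) (y : WittVector p A) :
    (∀ i < j, (x * y).coeff i = 0) ∧ (x * y).coeff j = x.coeff j * WittVector.ghostComponent j y := by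
  have hx : x * y = (WittVector.verschiebung (p := p) (R := A))^[j] (x.shift j * (WittVector.frobenius (p := p) (R := A))^[j] y) := by
    conv_lhs => rw [WittVector.eq_iterate_verschiebung h]
    exact WittVector.iterate_verschiebung_mul_left _ _ _
  refine ⟨fun i hi => by rw [hx]; exact WittVector.iterate_verschiebung_coeff_eq_zero _ hi, ?_⟩
  rw [hx]
  have := WittVector.iterate_verschiebung_coeff (x.shift j * (WittVector.frobenius (p := p) (R := A))^[j] y) j 0
  rw [zero_add] at this
  rw [this, WittVector.mul_coeff_zero, iterate_frobenius_coeff_zero, WittVector.shift_coeff, Nat.add_zero]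

theorem iterate_verschiebung_add (x y : WittVector p A) (j : ℕ) :
    (WittVector.verschiebung (p := p) (R := A))^[j] (x + y) =
      (WittVector.verschiebung (p := p) (R := A))^[j] x + (WittVector.verschiebung (p := p) (R := A))^[j] y := by
  induction j with
  | zero => rfl
  | succ j ih => simp only [Function.iterate_succ_apply', ih, map_add]

theorem add_coeff_of_low {x y : WittVector p A} {j : ℕ} (h : ∀ i < j, x.coeff i = 0)
    (h' : ∀ i < j, y.coeff i = 0) :
    (∀ i < j, (x + y).coeff i = 0) ∧ (x + y).coeff j = x.coeff j + y.coeff j := by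
  have hx : x + y = (WittVector.verschiebung (p := p) (R := A))^[j] (x.shift j + y.shift j) := by
    rw [iterate_verschiebung_add, ← WittVector.eq_iterate_verschiebung h, ← WittVector.eq_iterate_verschiebung h']
  refine ⟨fun i hi => by rw [hx]; exact WittVector.iterate_verschiebung_coeff_eq_zero _ hi, ?_⟩
  rw [hx]
  have := WittVector.iterate_verschiebung_coeff (x.shift j + y.shift j) j 0
  rw [zero_add] at this
  rw [this, WittVector.add_coeff_zero, WittVector.shift_coeff, WittVector.shift_coeff, Nat.add_zero]

/-- A chosen lift. -/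
abbrev out {n : ℕ} (x : TruncatedWittVector p n A) : WittVector p A := x.out

theorem out_coeff {n : ℕ} (x : TruncatedWittVector p n A) (i : ℕ) (hi : i < n) :
    (x.out).coeff i = x.coeff ⟨i, hi⟩ := by
  simp [TruncatedWittVector.out, hi]

theorem out_coeff_eq_zero {n : ℕ} {x : TruncatedWittVector p n A} {j : ℕ} (hj : j ≤ n)
    (h : ∀ i : Fin n, (i : ℕ) < j → x.coeff i = 0) : ∀ i < j, (x.out).coeff i = 0 := fun i hi => by
  rw [out_coeff p x i (hi.trans_le hj)]
  exact h ⟨i, _⟩ hi

theorem truncate_out {n : ℕ} (x : TruncatedWittVector p n A) : WittVector.truncate n x.out = x :=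
  TruncatedWittVector.ext fun i => by rw [WittVector.coeff_truncate, out_coeff p x i i.isLt]

/-- The elements `V^j W_n`. -/
def Low {n : ℕ} (j : ℕ) (x : TruncatedWittVector p n A) : Prop := ∀ i : Fin n, (i : ℕ) < j → x.coeff i = 0

theorem low_zero' {n : ℕ} (x : TruncatedWittVector p n A) : Low p 0 x := fun i h => absurd h i.val.not_lt_zero

theorem low_zero {n : ℕ} (j : ℕ) : Low p j (0 : TruncatedWittVector p n A) := fun i _ =>
  TruncatedWittVector.coeff_zero p n A i

theorem eq_zero_of_low {n : ℕ} {x : TruncatedWittVector p n A} (h : Low p n x) : x = 0 :=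
  TruncatedWittVector.ext fun i => by rw [h i i.isLt, TruncatedWittVector.coeff_zero]

theorem Low.mul {n : ℕ} {x : TruncatedWittVector p n A} {j : ℕ} (h : Low p j x) (y : TruncatedWittVector p n A) :
    Low p j (x * y) := by
  intro i hi
  rcases le_or_gt j n with hj | hj
  · have h2 : x * y = WittVector.truncate n (x.out * y.out) := by rw [map_mul, truncate_out, truncate_out]
    rw [h2, WittVector.coeff_truncate]
    exact (mul_coeff_of_low p (out_coeff_eq_zero p hj h) _).1 i hi
  · rw [eq_zero_of_low p (fun k _ => h k (k.isLt.trans hj)), zero_mul, TruncatedWittVector.coeff_zero]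

theorem Low.add {n : ℕ} {x y : TruncatedWittVector p n A} {j : ℕ} (h : Low p j x) (h' : Low p j y) :
    Low p j (x + y) := by
  intro i hi
  rcases le_or_gt j n with hj | hj
  · have h2 : x + y = WittVector.truncate n (x.out + y.out) := by rw [map_add, truncate_out, truncate_out]
    rw [h2, WittVector.coeff_truncate]
    exact (add_coeff_of_low p (out_coeff_eq_zero p hj h) (out_coeff_eq_zero p hj h')).1 i hi
  · rw [eq_zero_of_low p (fun k _ => h k (k.isLt.trans hj)), zero_add]
    exact h' i hi

theorem Low.neg {n : ℕ} {x : TruncatedWittVector p n A} {j : ℕ} (h : Low p j x) : Low p j (-x) := by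
  rw [neg_eq_neg_one_mul, mul_comm]
  exact h.mul p _

theorem Low.sum {n : ℕ} {κ : Type*} {s : Finset κ} {f : κ → TruncatedWittVector p n A} {j : ℕ}
    (h : ∀ k ∈ s, Low p j (f k)) : Low p j (∑ k ∈ s, f k) :=
  Finset.sum_induction f (Low p j) (fun _ _ => Low.add p) (low_zero p j) h

theorem Low.succ {n : ℕ} {x : TruncatedWittVector p n A} {j : Fin n} (h : Low p j x) (h' : x.coeff j = 0) :
    Low p (j + 1) x := fun i hi => by
  rcases Nat.lt_succ_iff_lt_or_eq.1 hi with h1 | h1
  · exact h i h1
  · rwa [Fin.ext h1]

/-- The ghost map `w_j` on `W_n`. -/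
def gh {n : ℕ} (j : Fin n) : TruncatedWittVector p n A →+* A where
  toFun x := WittVector.ghostComponent j x.out
  map_one' := by
    rw [ghost_congr j _ 1 fun i hi => ?_, map_one]
    rw [out_coeff p _ i (hi.trans_lt j.isLt), ← map_one (WittVector.truncate (p := p) (R := A) n),
      WittVector.coeff_truncate]
  map_zero' := by
    rw [ghost_congr j _ 0 fun i hi => ?_, map_zero]
    rw [out_coeff p _ i (hi.trans_lt j.isLt), TruncatedWittVector.coeff_zero, WittVector.zero_coeff]
  map_mul' x y := by
    rw [← map_mul]
    refine ghost_congr j _ _ fun i hi => ?_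
    have h2 : x * y = WittVector.truncate n (x.out * y.out) := by rw [map_mul, truncate_out, truncate_out]
    rw [out_coeff p _ i (hi.trans_lt j.isLt), h2, WittVector.coeff_truncate]
  map_add' x y := by
    rw [← map_add]
    refine ghost_congr j _ _ fun i hi => ?_
    have h2 : x + y = WittVector.truncate n (x.out + y.out) := by rw [map_add, truncate_out, truncate_out]
    rw [out_coeff p _ i (hi.trans_lt j.isLt), h2, WittVector.coeff_truncate]
where
  ghost_congr (j : Fin n) (x y : WittVector p A) (h : ∀ i ≤ (j : ℕ), x.coeff i = y.coeff i) :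
      WittVector.ghostComponent j x = WittVector.ghostComponent j y := by
    simp only [WittVector.ghostComponent_apply, wittPolynomial_eq_sum_C_mul_X_pow, map_sum, map_mul, map_pow,
      MvPolynomial.aeval_C, MvPolynomial.aeval_X]
    exact Finset.sum_congr rfl fun i hi => by rw [h i (Nat.lt_succ_iff.1 (Finset.mem_range.1 hi))]

theorem gh_apply {n : ℕ} (j : Fin n) (x : TruncatedWittVector p n A) :
    gh p j x = WittVector.ghostComponent j x.out := rfl

theorem gh_zero_apply {m : ℕ} (x : TruncatedWittVector p (m + 1) A) : gh p (0 : Fin (m + 1)) x = x.coeff 0 := by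
  rw [gh_apply]
  show WittVector.ghostComponent 0 x.out = _
  rw [ghostComponent_zero_apply, out_coeff p x 0 (Nat.succ_pos m)]
  rfl

theorem gh_truncMap {n : ℕ} (j : Fin n) (f : A →+* B) (x : TruncatedWittVector p n A) :
    gh p j (WittGrp.truncMap p n f x) = f (gh p j x) := by
  simp only [gh_apply, WittVector.ghostComponent_apply, wittPolynomial_eq_sum_C_mul_X_pow, map_sum, map_mul,
    map_pow, MvPolynomial.aeval_C, MvPolynomial.aeval_X]
  refine Finset.sum_congr rfl fun i hi => ?_
  have hi' : i < n := (Finset.mem_range.1 hi).trans_le (by omega)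
  rw [out_coeff p _ i hi', out_coeff p _ i hi', WittGrp.coeff_truncMap]
  simp

theorem coeff_mul_of_low {n : ℕ} {x : TruncatedWittVector p n A} {j : Fin n} (h : Low p j x)
    (y : TruncatedWittVector p n A) : (x * y).coeff j = x.coeff j * gh p j y := by
  have h2 : x * y = WittVector.truncate n (x.out * y.out) := by rw [map_mul, truncate_out, truncate_out]
  rw [h2, WittVector.coeff_truncate, gh_apply,
    (mul_coeff_of_low p (out_coeff_eq_zero p j.isLt.le h) _).2, out_coeff p x j j.isLt]

theorem coeff_add_of_low {n : ℕ} {x y : TruncatedWittVector p n A} {j : Fin n} (h : Low p j x) (h' : Low p j y) :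
    (x + y).coeff j = x.coeff j + y.coeff j := by
  have h2 : x + y = WittVector.truncate n (x.out + y.out) := by rw [map_add, truncate_out, truncate_out]
  rw [h2, WittVector.coeff_truncate,
    (add_coeff_of_low p (out_coeff_eq_zero p j.isLt.le h) (out_coeff_eq_zero p j.isLt.le h')).2,
    out_coeff p x j j.isLt, out_coeff p y j j.isLt]

theorem coeff_sum_of_low {n : ℕ} {κ : Type*} {s : Finset κ} {f : κ → TruncatedWittVector p n A} {j : Fin n}
    (h : ∀ k ∈ s, Low p j (f k)) : (∑ k ∈ s, f k).coeff j = ∑ k ∈ s, (f k).coeff j := by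
  classical
  induction s using Finset.induction_on with
  | empty => simp [TruncatedWittVector.coeff_zero]
  | insert a s ha ih =>
    rw [Finset.sum_insert ha, Finset.sum_insert ha,
      coeff_add_of_low p (h a (Finset.mem_insert_self a s))
        (Low.sum p fun k hk => h k (Finset.mem_insert_of_mem hk)),
      ih fun k hk => h k (Finset.mem_insert_of_mem hk)]

theorem coeff_neg_of_low {n : ℕ} {x : TruncatedWittVector p n A} {j : Fin n} (h : Low p j x) :
    (-x).coeff j = - x.coeff j := by
  rw [eq_neg_iff_add_eq_zero, ← coeff_add_of_low p (h.neg p) h, neg_add_cancel, TruncatedWittVector.coeff_zero]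

theorem coeff_sub_of_low {n : ℕ} {x y : TruncatedWittVector p n A} {j : Fin n} (h : Low p j x) (h' : Low p j y) :
    (x - y).coeff j = x.coeff j - y.coeff j := by
  rw [sub_eq_add_neg, coeff_add_of_low p h (h'.neg p), coeff_neg_of_low p h', ← sub_eq_add_neg]

theorem Low.sub {n : ℕ} {x y : TruncatedWittVector p n A} {j : ℕ} (h : Low p j x) (h' : Low p j y) :
    Low p j (x - y) := by
  rw [sub_eq_add_neg]; exact h.add p (h'.neg p)

/-- `V^j [a]`. -/
def single {n : ℕ} (j : Fin n) (a : A) : TruncatedWittVector p n A :=
  TruncatedWittVector.mk p fun i => if i = j then a else 0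

theorem low_single {n : ℕ} (j : Fin n) (a : A) : Low p j (single p j a) := fun i hi => by
  rw [single, TruncatedWittVector.coeff_mk, if_neg (fun h => by rw [h] at hi; exact hi.false)]

theorem coeff_single {n : ℕ} (j : Fin n) (a : A) : (single p j a).coeff j = a := by
  rw [single, TruncatedWittVector.coeff_mk, if_pos rfl]

theorem truncMap_single {n : ℕ} (j : Fin n) (f : A →+* B) (a : A) :
    WittGrp.truncMap p n f (single p j a) = single p j (f a) := by
  refine TruncatedWittVector.ext fun i => ?_
  rw [WittGrp.coeff_truncMap, single, single, TruncatedWittVector.coeff_mk, TruncatedWittVector.coeff_mk]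
  split_ifs <;> simp

theorem Low.truncMap {n : ℕ} {x : TruncatedWittVector p n A} {j : ℕ} (h : Low p j x) (f : A →+* B) :
    Low p j (WittGrp.truncMap p n f x) := fun i hi => by
  rw [WittGrp.coeff_truncMap, h i hi, map_zero]

theorem isNilpotent_natCast (hp : IsNilpotent (p : A)) (n : ℕ) : IsNilpotent (p : TruncatedWittVector p n A) := by
  obtain ⟨N, hN⟩ := hp
  refine ⟨N * n, ?_⟩
  suffices h : ∀ k ≤ n, Low p k ((p : TruncatedWittVector p n A) ^ (N * k)) from eq_zero_of_low p (h n le_rfl)
  intro k hk
  induction k with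
  | zero => exact low_zero' p _
  | succ k ih =>
    rw [Nat.mul_succ, pow_add]
    refine Low.succ p (j := ⟨k, hk⟩) ((ih (Nat.le_of_succ_le hk)).mul p _) ?_
    rw [coeff_mul_of_low p (ih (Nat.le_of_succ_le hk)), map_pow, map_natCast, hN, mul_zero]

theorem isNilpotent_of_coeff_zero {m : ℕ} (hp : IsNilpotent (p : A)) {x : TruncatedWittVector p (m + 1) A}
    (hx : x.coeff 0 = 0) : IsNilpotent x := by
  obtain ⟨M, hM⟩ := isNilpotent_natCast p hp (m + 1)
  have h0 : ∀ i < 1, (x.out).coeff i = 0 := fun i hi => by
    obtain rfl : i = 0 := by omega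
    rw [out_coeff p x 0 (Nat.succ_pos m)]; exact hx
  obtain ⟨y, hy⟩ : ∃ y, x.out = WittVector.verschiebung y := ⟨_, WittVector.eq_iterate_verschiebung h0⟩
  have hk : ∀ k, ∃ z, (WittVector.verschiebung y) ^ (k + 1) =
      (p : WittVector p A) ^ k * WittVector.verschiebung z := by
    intro k
    induction k with
    | zero => exact ⟨y, by simp⟩
    | succ k ih =>
      obtain ⟨z, hz⟩ := ih
      refine ⟨z * y, ?_⟩
      rw [pow_succ, hz, mul_assoc, pow_succ (p : WittVector p A) k, mul_assoc]
      congr 1
      rw [← WittVector.verschiebung_mul_frobenius, WittVector.frobenius_verschiebung, ← mul_assoc,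
        mul_comm (z * y) _, ← nsmul_eq_mul, map_nsmul, nsmul_eq_mul]
  obtain ⟨z, hz⟩ := hk M
  refine ⟨M + 1, ?_⟩
  rw [← truncate_out p x, ← map_pow, hy, hz, map_mul, map_pow, map_natCast, hM, zero_mul]

end Groth.Agent.Calg46.WittTrunc
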